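import Cfsg.Agent.FTCons.Basic
import Cfsg.Agent.Coprime.Basic
import Cfsg.Agent.Coprime.Tools
import Mathlib

/-!
# Conjugation-invariant families of subgroups of order `p` with pairs of odd order

`Pre`: any two members generate a nonabelian group of one fixed odd order. Such a pair (a line) has
order `p * q ^ e` with its derived subgroup of index `p` (`exists_line`).
-/

set_option autoImplicit false

namespace Cfsg.Agent.PairOdd

open Subgroup
open scoped Pointwise commutatorElement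

universe u

variable {G : Type u} [Group G] {p q : ℕ} {D : Set (Subgroup G)}

/-- The derived subgroup of `F` is abelian. -/
def Ab (F : Subgroup G) : Prop := ∀ x ∈ ⁅F, F⁆, ∀ y ∈ ⁅F, F⁆, x * y = y * x

/-- Pairs generate nonabelian groups of one odd order. -/
structure Pre (p : ℕ) (D : Set (Subgroup G)) : Prop where
  pp : p.Prime
  p2 : p ≠ 2
  card : ∀ A ∈ D, Nat.card A = p
  inv : ∀ A ∈ D, ∀ g : G, MulAut.conj g • A ∈ D
  nc : ∀ A ∈ D, ∀ B ∈ D, A ≠ B → ¬ B ≤ centralizer (A : Set G)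
  odd : ∀ A ∈ D, ∀ B ∈ D, A ≠ B → Odd (Nat.card (A ⊔ B : Subgroup G))
  same : ∀ A ∈ D, ∀ B ∈ D, ∀ C ∈ D, ∀ E ∈ D, A ≠ B → C ≠ E →
    Nat.card (A ⊔ B : Subgroup G) = Nat.card (C ⊔ E : Subgroup G)

/-- A `Pre` family with the prime `q` of the lines and uniform derived subgroups. -/
structure Sys (p q : ℕ) (D : Set (Subgroup G)) : Prop extends Pre p D where
  qq : q.Prime
  qp : q ≠ p
  q2 : q ≠ 2
  line : ∀ A ∈ D, ∀ B ∈ D, A ≠ B → ∃ e, 0 < e ∧ Nat.card (A ⊔ B : Subgroup G) = p * q ^ e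
  ab : ∀ A ∈ D, ∀ B ∈ D, ∀ C ∈ D, ∀ E ∈ D, A ≠ B → C ≠ E → Ab (A ⊔ B) → Ab (C ⊔ E)

/-- The members lying in `H`. -/
def memb (D : Set (Subgroup G)) (H : Subgroup G) : Set (Subgroup G) := {A | A ∈ D ∧ A ≤ H}

/-- The subgroup generated by the members lying in `H`. -/
def gen (D : Set (Subgroup G)) (H : Subgroup G) : Subgroup G := sSup (memb D H)

/-- The members centralised by `t`. -/
def fixd (D : Set (Subgroup G)) (t : G) : Set (Subgroup G) := memb D (centralizer ({t} : Set G))

theorem gen_le (H : Subgroup G) : gen D H ≤ H := sSup_le fun _ hA => hA.2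

theorem le_gen {A H : Subgroup G} (hA : A ∈ D) (h : A ≤ H) : A ≤ gen D H := le_sSup ⟨hA, h⟩

theorem memb_gen (H : Subgroup G) : memb D (gen D H) = memb D H :=
  Set.ext fun _ => ⟨fun h => ⟨h.1, h.2.trans (gen_le H)⟩, fun h => ⟨h.1, le_gen h.1 h.2⟩⟩

theorem gen_gen (H : Subgroup G) : gen D (gen D H) = gen D H := by rw [gen, memb_gen, gen]

theorem gen_mono {H K : Subgroup G} (h : H ≤ K) : gen D H ≤ gen D K :=
  sSup_le_sSup fun _ hA => ⟨hA.1, hA.2.trans h⟩

theorem conj_smul_eq_self {H : Subgroup G} {g : G} (hg : g ∈ normalizer (H : Set G)) :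
    MulAut.conj g • H = H := Coprime.conj_smul_eq_self_of_mem_normalizer hg

theorem conj_smul_commutator (g : G) (H K : Subgroup G) :
    MulAut.conj g • ⁅H, K⁆ = ⁅MulAut.conj g • H, MulAut.conj g • K⁆ := by
  simp only [Coprime.conj_smul_eq_map, map_commutator]

theorem mem_normalizer_of_smul {H : Subgroup G} {g : G} (h : MulAut.conj g • H = H) :
    g ∈ normalizer (H : Set G) := Coprime.mem_normalizer_of_conj_smul_eq h

theorem conj_smul_eq_self_of_centralizer {H : Subgroup G} {g : G}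
    (hg : g ∈ centralizer (H : Set G)) : MulAut.conj g • H = H :=
  conj_smul_eq_self (centralizer_le_normalizer _ hg)

theorem le_centralizer_singleton {H : Subgroup G} {t : G} :
    H ≤ centralizer ({t} : Set G) ↔ t ∈ centralizer (H : Set G) := by
  constructor
  · exact fun h => mem_centralizer_iff.2 fun x hx => mem_centralizer_singleton_iff.1 (h hx)
  · exact fun h x hx => mem_centralizer_singleton_iff.2 (mem_centralizer_iff.1 h x hx)

theorem conj_smul_le {H K : Subgroup G} {g : G} (h : H ≤ K) :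
    MulAut.conj g • H ≤ MulAut.conj g • K := pointwise_smul_le_pointwise_smul_iff.2 h

theorem conj_smul_le_self {H K : Subgroup G} {g : G} (hg : g ∈ K) (h : H ≤ K) :
    MulAut.conj g • H ≤ K :=
  (conj_smul_le h).trans (conj_smul_eq_self (le_normalizer hg)).le

theorem card_smul (g : G) (H : Subgroup G) :
    Nat.card (MulAut.conj g • H : Subgroup G) = Nat.card H :=
  Nat.card_congr (equivSMul (MulAut.conj g) H).toEquiv.symm

theorem odd_of_le {H K : Subgroup G} (h : H ≤ K) (hK : Odd (Nat.card K)) : Odd (Nat.card H) :=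
  hK.of_dvd_nat (card_dvd_of_le h)

namespace Pre

variable (h : Pre p D)
include h

theorem ne_bot {A : Subgroup G} (hA : A ∈ D) : A ≠ ⊥ := fun e => by
  have := h.card A hA
  rw [e, card_bot] at this
  exact h.pp.one_lt.ne this

theorem isPGroup {A : Subgroup G} (hA : A ∈ D) : IsPGroup p A :=
  IsPGroup.of_card (n := 1) (by rw [h.card A hA, pow_one])

theorem isCyclic {A : Subgroup G} (hA : A ∈ D) : IsCyclic A := by
  have := Fact.mk h.pp
  exact isCyclic_of_prime_card (h.card A hA)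

theorem le_of_inter [Finite G] {A H : Subgroup G} (hA : A ∈ D) (hne : A ⊓ H ≠ ⊥) : A ≤ H := by
  have := Fact.mk h.pp
  have hd : Nat.card (A ⊓ H : Subgroup G) ∣ p := h.card A hA ▸ card_dvd_of_le inf_le_left
  rcases (Nat.dvd_prime h.pp).1 hd with h1 | h1
  · exact absurd (eq_bot_of_card_eq _ h1) hne
  · exact inf_eq_left.1 (eq_of_le_of_card_ge inf_le_left (by rw [h1, h.card A hA]))

theorem inf_eq_bot [Finite G] {A H : Subgroup G} (hA : A ∈ D) (hne : ¬ A ≤ H) : A ⊓ H = ⊥ := by
  by_contra e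
  exact hne (h.le_of_inter hA e)

theorem eq_of_le {A B : Subgroup G} [Finite G] (hA : A ∈ D) (hB : B ∈ D) (hAB : A ≤ B) : A = B :=
  eq_of_le_of_card_ge hAB (by rw [h.card A hA, h.card B hB])

theorem eq_of_normalizes [Finite G] {A B : Subgroup G} (hA : A ∈ D) (hB : B ∈ D)
    (hn : B ≤ normalizer (A : Set G)) : A = B := by
  by_contra hne
  have := Fact.mk h.pp
  have hle : ¬ B ≤ A := fun e => hne (h.eq_of_le hB hA e).symm
  have hinf := h.inf_eq_bot hB hle
  have hcard : Nat.card (A ⊔ B : Subgroup G) = p ^ 2 := by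
    rw [Coprime.card_sup_eq_mul hn (by rwa [inf_comm] at hinf), h.card A hA, h.card B hB, pow_two]
  have hcomm := (IsPGroup.isMulCommutative_of_card_eq_prime_sq hcard).is_comm.comm
  refine h.nc A hA B hB hne fun b hb => mem_centralizer_iff.2 fun a ha => ?_
  exact congrArg Subtype.val (hcomm ⟨a, mem_sup_left ha⟩ ⟨b, mem_sup_right hb⟩)

theorem centralizes_of_eq [Finite G] {A B : Subgroup G} (hA : A ∈ D) (hB : B ∈ D)
    (hc : B ≤ centralizer (A : Set G)) : A = B :=
  h.eq_of_normalizes hA hB (hc.trans (centralizer_le_normalizer _))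

theorem sup_eq [Finite G] {A B C E : Subgroup G} (hA : A ∈ D) (hB : B ∈ D) (hC : C ∈ D)
    (hE : E ∈ D) (hne : A ≠ B) (hne' : C ≠ E) (hCl : C ≤ A ⊔ B) (hEl : E ≤ A ⊔ B) :
    C ⊔ E = A ⊔ B :=
  eq_of_le_of_card_ge (sup_le hCl hEl) (h.same A hA B hB C hC E hE hne hne').le

/-- The shape of a line. -/
theorem exists_line [Finite G] (hFT : FTCons.OddSolvable.{u}) {A B : Subgroup G} (hA : A ∈ D)
    (hB : B ∈ D) (hne : A ≠ B) :
    ∃ q e : ℕ, q.Prime ∧ q ≠ p ∧ q ≠ 2 ∧ 0 < e ∧ Nat.card (A ⊔ B : Subgroup G) = p * q ^ e := by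
  have := Fact.mk h.pp
  set F := A ⊔ B with hFdef
  have hAF : A ≤ F := le_sup_left
  have hsolv : Group.IsSolvable F := hFT F (h.odd A hA B hB hne)
  obtain ⟨f, hf, hfA⟩ : ∃ f ∈ F, MulAut.conj f • A ≠ A := by
    by_contra! hall
    exact hne (h.eq_of_normalizes hA hB fun b hb =>
      mem_normalizer_of_smul (hall b (mem_sup_right hb)))
  set K := ⁅F, F⁆ with hK
  have hKF : K ≤ F := commutator_le_self F
  have hFn : F ≤ normalizer (K : Set G) := by
    intro x hx
    refine mem_normalizer_of_smul ?_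
    rw [hK, conj_smul_commutator, conj_smul_eq_self (le_normalizer hx)]
  have hgen : F ≤ K ⊔ A := by
    have hfle : MulAut.conj f • A ≤ K ⊔ A := by
      intro x hx
      rw [mem_pointwise_smul_iff_inv_smul_mem] at hx
      obtain ⟨a, ha, rfl⟩ : ∃ a ∈ A, x = f * a * f⁻¹ :=
        ⟨f⁻¹ * x * f, by simpa [MulAut.smul_def] using hx, by group⟩
      have e : f * a * f⁻¹ = ⁅f, a⁆ * a := by rw [commutatorElement_def]; group
      rw [e]
      exact mul_mem_sup (commutator_mem_commutator hf (hAF ha)) ha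
    calc F = A ⊔ MulAut.conj f • A := (h.sup_eq hA hB hA (h.inv A hA f) hne (Ne.symm hfA) hAF
          (conj_smul_le_self hf hAF)).symm
      _ ≤ K ⊔ A := sup_le le_sup_right hfle
  have hKne : K ≠ F := by
    intro e
    have hFnt : Nontrivial F := (nontrivial_iff_ne_bot F).2 fun e0 =>
      h.ne_bot hA (le_bot_iff.1 (e0 ▸ hAF))
    have hlt : commutator F < ⊤ := Group.IsSolvable.commutator_lt_top_of_nontrivial F
    refine hlt.ne ?_
    apply map_injective F.subtype_injective
    rw [map_subtype_commutator, ← MonoidHom.range_eq_map, range_subtype]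
    exact e
  have hAK : ¬ A ≤ K := fun e => hKne (le_antisymm hKF (hgen.trans (sup_le le_rfl e)))
  have hinf := h.inf_eq_bot hA hAK
  have hFKA : F = K ⊔ A := le_antisymm hgen (sup_le hKF hAF)
  have hcardF : Nat.card F = p * Nat.card K := by
    rw [hFKA, Coprime.card_sup_eq_mul (hAF.trans hFn) (by rwa [inf_comm] at hinf), h.card A hA,
      mul_comm]
  -- proper invariant subgroups of `K` centralise `A`
  have hW : ∀ W : Subgroup G, W < K → A ≤ normalizer (W : Set G) →
      W ≤ centralizer (A : Set G) := by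
    intro W hlt hAW w hw
    have hwA : MulAut.conj w • A = A := by
      by_contra hne2
      have hle : MulAut.conj w • A ≤ W ⊔ A := conj_smul_le_self (mem_sup_left hw) le_sup_right
      have hFle : F ≤ W ⊔ A :=
        calc F = A ⊔ MulAut.conj w • A := (h.sup_eq hA hB hA (h.inv A hA w) hne (Ne.symm hne2) hAF
              (conj_smul_le_self (hKF (hlt.le hw)) hAF)).symm
          _ ≤ W ⊔ A := sup_le le_sup_right hle
      refine hlt.not_ge fun k hk => ?_
      obtain ⟨w', hw', a, ha, e⟩ := (Coprime.mem_sup_of_le_normalizer hAW).1 (hFle (hKF hk))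
      have haK : a ∈ A ⊓ K := mem_inf.2 ⟨ha, by
        rw [show a = w'⁻¹ * k by rw [← e]; group]
        exact mul_mem (inv_mem (hlt.le hw')) hk⟩
      rw [hinf, mem_bot] at haK
      rw [← e, haK, mul_one]
      exact hw'
    refine mem_centralizer_iff.2 fun a ha => ?_
    have hmem : a * w * a⁻¹ * w⁻¹ ∈ A ⊓ K := mem_inf.2 ⟨by
      have h1 := (mem_normalizer_iff.1 (mem_normalizer_of_smul hwA) a⁻¹).1 (inv_mem ha)
      rw [show a * w * a⁻¹ * w⁻¹ = a * (w * a⁻¹ * w⁻¹) by group]
      exact mul_mem ha h1, mul_mem (hlt.le ((mem_normalizer_iff.1 (hAW ha) w).1 hw))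
        (inv_mem (hlt.le hw))⟩
    rw [hinf, mem_bot] at hmem
    calc a * w = a * w * a⁻¹ * w⁻¹ * (w * a) := by group
      _ = w * a := by rw [hmem, one_mul]
  have hKbot : K ≠ ⊥ := fun e => hfA (by
    rw [e, bot_sup_eq] at hgen
    exact conj_smul_eq_self (le_normalizer (hgen hf)))
  -- the second derived subgroup is central
  set K' := ⁅K, K⁆ with hK'
  have hK'lt : K' < K := by
    have : Group.IsSolvable K :=
      Group.isSolvable_of_isSolvable_injective (inclusion_injective hKF)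
    have : Nontrivial K := (nontrivial_iff_ne_bot K).2 hKbot
    have := (map_lt_map_iff_of_injective K.subtype_injective).2
      (Group.IsSolvable.commutator_lt_top_of_nontrivial K : commutator K < ⊤)
    rwa [map_subtype_commutator, ← MonoidHom.range_eq_map, range_subtype] at this
  have hFn' : F ≤ normalizer (K' : Set G) := fun x hx => mem_normalizer_of_smul (by
    rw [hK', conj_smul_commutator, conj_smul_eq_self (hFn hx)])
  have hK'c : K' ≤ centralizer (F : Set G) := by
    have hA' := hW K' hK'lt (hAF.trans hFn')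
    rw [le_centralizer_iff] at hA' ⊢
    calc F = A ⊔ MulAut.conj f • A :=
          (h.sup_eq hA hB hA (h.inv A hA f) hne (Ne.symm hfA) hAF (conj_smul_le_self hf hAF)).symm
      _ ≤ centralizer (K' : Set G) := ?_
    refine sup_le hA' fun x hx => ?_
    rw [mem_pointwise_smul_iff_inv_smul_mem] at hx
    have hx' : f⁻¹ * x * f ∈ A := by simpa [MulAut.smul_def] using hx
    refine mem_centralizer_iff.2 fun k hk => ?_
    have hk' : f⁻¹ * k * f ∈ K' := by
      have := (mem_normalizer_iff.1 (inv_mem (hFn' hf)) k).1 hk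
      rwa [inv_inv] at this
    have := mem_centralizer_iff.1 (hA' hx') _ hk'
    calc k * x = f * ((f⁻¹ * k * f) * (f⁻¹ * x * f)) * f⁻¹ := by group
      _ = f * ((f⁻¹ * x * f) * (f⁻¹ * k * f)) * f⁻¹ := by rw [this]
      _ = x * k := by group
  have hKc : ¬ K ≤ centralizer (A : Set G) := fun hc => hfA (by
    have : F ≤ centralizer (A : Set G) := hgen.trans (sup_le hc (by
      have := h.isCyclic hA
      exact fun a ha => mem_centralizer_iff.2 fun b hb =>
        congrArg Subtype.val (IsMulCommutative.is_comm.comm (⟨b, hb⟩ : A) ⟨a, ha⟩)))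
    exact conj_smul_eq_self_of_centralizer (this hf))
  -- subgroups of `K` containing `K'` defined by powers
  let π : K →* Abelianization K := Abelianization.of
  have hπ : ∀ z : K, π z = 1 ↔ (z : G) ∈ K' := fun z => by
    rw [← MonoidHom.mem_ker, Abelianization.ker_of, hK', ← map_subtype_commutator]
    exact ⟨fun hz => ⟨z, hz, rfl⟩, fun ⟨y, hy, e⟩ => by rwa [← Subtype.ext e]⟩
  have hpow : ∀ n : ℕ, ∃ W : Subgroup G, (∀ x, x ∈ W ↔ x ∈ K ∧ x ^ n ∈ K') ∧
      A ≤ normalizer (W : Set G) := by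
    intro n
    have hW' : ∀ x, x ∈ (((powMonoidHom n).comp π).ker).map K.subtype ↔ x ∈ K ∧ x ^ n ∈ K' := by
      intro x
      constructor
      · rintro ⟨z, hz, rfl⟩
        exact ⟨z.2, (hπ (z ^ n)).1 (by rw [map_pow]; exact hz)⟩
      · rintro ⟨hx, hxn⟩
        refine ⟨⟨x, hx⟩, ?_, rfl⟩
        show π ⟨x, hx⟩ ^ n = 1
        rw [← map_pow, hπ]
        exact hxn
    refine ⟨_, hW', fun a ha => mem_normalizer_iff.2 fun x => ?_⟩
    rw [hW', hW', conj_pow]
    exact and_congr (mem_normalizer_iff.1 (hFn (hAF ha)) x)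
      (mem_normalizer_iff.1 (hFn' (hAF ha)) (x ^ n))
  have hn : (K'.subgroupOf K).Normal := normal_subgroupOf_of_le_normalizer (hKF.trans hFn')
  obtain ⟨r, hr, hrd⟩ := Nat.exists_prime_and_dvd (n := K'.relIndex K)
    (fun e => hK'lt.not_ge (relIndex_eq_one.1 e))
  have := Fact.mk hr
  set i := K'.relIndex K with hi
  have hix : ∀ x ∈ K, x ^ i ∈ K' := by
    intro x hx
    exact pow_index_mem (K'.subgroupOf K) (⟨x, hx⟩ : K)
  have hi0 : i ≠ 0 := Subgroup.index_ne_zero_of_finite
  have hipow : ∃ a, i = r ^ a := by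
    refine ⟨i.factorization r, ?_⟩
    by_contra hne2
    have hmul := Nat.ordProj_mul_ordCompl_eq_self i r
    have hcop : (r ^ i.factorization r).Coprime (i / r ^ i.factorization r) :=
      (Nat.coprime_ordCompl hr hi0).pow_left _
    obtain ⟨W1, hW1, hW1n⟩ := hpow (r ^ i.factorization r)
    obtain ⟨W2, hW2, hW2n⟩ := hpow (i / r ^ i.factorization r)
    have hcard : ∀ (n : ℕ) (W : Subgroup G), (∀ x, x ∈ W ↔ x ∈ K ∧ x ^ n ∈ K') →
        W = K → ∀ x ∈ K, x ^ n ∈ K' := fun n W hW e x hx => ((hW x).1 (e ▸ hx)).2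
    have hrW : W1 < K := by
      refine lt_of_le_of_ne (fun x hx => ((hW1 x).1 hx).1) fun e => hne2 ?_
      by_contra hne3
      obtain ⟨l, hl, hld⟩ := Nat.exists_prime_and_dvd (n := i / r ^ i.factorization r) (fun e1 => by
        rw [e1, mul_one] at hmul; exact hne3 hmul.symm)
      have := Fact.mk hl
      obtain ⟨z, hz⟩ := exists_prime_orderOf_dvd_card' (G := K ⧸ K'.subgroupOf K) l
        (by
          show l ∣ (K'.subgroupOf K).index
          exact hld.trans (Nat.ordCompl_dvd i r))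
      obtain ⟨z0, rfl⟩ := QuotientGroup.mk_surjective z
      have h2 := hcard _ W1 hW1 e z0 z0.2
      have h3 : (QuotientGroup.mk z0 : K ⧸ K'.subgroupOf K) ^ (r ^ i.factorization r) = 1 := by
        rw [← QuotientGroup.mk_pow, QuotientGroup.eq_one_iff]
        simpa [mem_subgroupOf] using h2
      have h4 := Nat.eq_one_of_dvd_coprimes hcop (hz ▸ orderOf_dvd_of_pow_eq_one h3) hld
      exact hl.ne_one h4
    have hcW : W2 < K := by
      refine lt_of_le_of_ne (fun x hx => ((hW2 x).1 hx).1) fun e => ?_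
      obtain ⟨z, hz⟩ := exists_prime_orderOf_dvd_card' (G := K ⧸ K'.subgroupOf K) r
        (by show r ∣ (K'.subgroupOf K).index; exact hrd)
      obtain ⟨z0, rfl⟩ := QuotientGroup.mk_surjective z
      have h2 := hcard _ W2 hW2 e z0 z0.2
      have h3 : (QuotientGroup.mk z0 : K ⧸ K'.subgroupOf K) ^ (i / r ^ i.factorization r) = 1 := by
        rw [← QuotientGroup.mk_pow, QuotientGroup.eq_one_iff]
        simpa [mem_subgroupOf] using h2
      have h4 := orderOf_dvd_of_pow_eq_one h3
      rw [hz] at h4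
      exact Nat.not_dvd_ordCompl hr hi0 h4
    refine hKc fun x hx => ?_
    obtain ⟨u, v, huv⟩ : ∃ u v : ℤ, (r ^ i.factorization r : ℕ) * u +
        (i / r ^ i.factorization r : ℕ) * v = 1 := by
      refine ⟨_, _, ((Nat.gcd_eq_gcd_ab _ _).symm.trans ?_)⟩
      rw [hcop.gcd_eq_one, Nat.cast_one]
    have e : x = (x ^ (r ^ i.factorization r)) ^ u * (x ^ (i / r ^ i.factorization r)) ^ v := by
      rw [← zpow_natCast, ← zpow_natCast x (i / _), ← zpow_mul, ← zpow_mul, ← zpow_add, huv,
        zpow_one]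
    rw [e]
    refine mul_mem (zpow_mem (hW W2 hcW hW2n ((hW2 _).2 ⟨pow_mem hx _, ?_⟩)) u)
      (zpow_mem (hW W1 hrW hW1n ((hW1 _).2 ⟨pow_mem hx _, ?_⟩)) v)
    · rw [← pow_mul, hmul]; exact hix x hx
    · rw [← pow_mul, mul_comm, hmul]; exact hix x hx
  obtain ⟨a, hia⟩ := hipow
  -- `K` is an `r`-group
  obtain ⟨P⟩ : Nonempty (Sylow r K) := inferInstance
  set K1 := K'.subgroupOf K with hK1
  have hsup : K1 ⊔ (P : Subgroup K) = ⊤ := by
    rw [← index_eq_one]
    exact Nat.eq_one_of_dvd_coprimes ((hr.coprime_iff_not_dvd.2 P.not_dvd_index).pow_left a)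
      ((index_dvd_of_le le_sup_left).trans (dvd_of_eq hia)) (index_dvd_of_le le_sup_right)
  have hn1 : K1.Normal := normal_subgroupOf_of_le_normalizer (hKF.trans hFn')
  have hK1P : K1 ≤ P := by
    have hder : ⁅(⊤ : Subgroup K), (⊤ : Subgroup K)⁆ ≤ (P : Subgroup K) := by
      rw [commutator_le]
      intro x _ y _
      have hdec : ∀ z : K, ∃ c ∈ K1, ∃ w ∈ (P : Subgroup K), z = c * w := fun z => by
        have : z ∈ ((K1 ⊔ (P : Subgroup K) : Subgroup K) : Set K) := by rw [hsup]; trivial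
        rw [normal_mul] at this
        obtain ⟨c, hc, w, hw, e⟩ := this
        exact ⟨c, hc, w, hw, e.symm⟩
      have hcen : ∀ c ∈ K1, ∀ z : K, z * c = c * z := fun c hc z =>
        Subtype.ext (mem_centralizer_iff.1 (hK'c hc) (z : G) (hKF z.2))
      obtain ⟨c, hc, w, hw, rfl⟩ := hdec x
      obtain ⟨c', hc', w', hw', rfl⟩ := hdec y
      have key : ∀ (c : K), c ∈ K1 → ∀ w z : K, ⁅c * w, z⁆ = ⁅w, z⁆ := fun c hc w z => by
        rw [commutatorElement_def, commutatorElement_def, mul_inv_rev]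
        calc c * w * z * (w⁻¹ * c⁻¹) * z⁻¹ = c * (w * z * w⁻¹) * c⁻¹ * z⁻¹ := by group
          _ = (w * z * w⁻¹) * c * c⁻¹ * z⁻¹ := by rw [hcen c hc (w * z * w⁻¹)]
          _ = w * z * w⁻¹ * z⁻¹ := by group
      rw [key c hc, ← commutatorElement_inv, key c' hc', commutatorElement_inv]
      exact mul_mem (mul_mem (mul_mem hw hw') (inv_mem hw)) (inv_mem hw')
    intro x hx
    refine hder ?_
    have : (x : G) ∈ (⁅(⊤ : Subgroup K), (⊤ : Subgroup K)⁆).map K.subtype := by
      rw [map_commutator, ← MonoidHom.range_eq_map, range_subtype]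
      exact hx
    obtain ⟨y, hy, e⟩ := this
    rwa [← Subtype.ext e]
  have hKr : IsPGroup r K := by
    refine P.2.of_equiv ((MulEquiv.subgroupCongr ?_).trans topEquiv)
    exact eq_top_iff.2 (hsup ▸ sup_le hK1P le_rfl)
  obtain ⟨e, he⟩ := IsPGroup.iff_card.1 hKr
  have he0 : 0 < e := Nat.pos_of_ne_zero fun e0 => hKbot (eq_bot_of_card_eq _ (by rw [he, e0, pow_zero]))
  refine ⟨r, e, hr, fun e1 => ?_, fun e1 => ?_, he0, by rw [hcardF, he]⟩
  · -- `r = p` is impossible
    subst e1
    have hFp : IsPGroup r F := IsPGroup.of_card (n := e + 1) (by rw [hcardF, he, pow_succ']) 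
    have := hFp.isNilpotent
    set A1 := A.subgroupOf F with hA1
    have hA1ne : A1 ≠ ⊤ := fun et => by
      rw [hA1, subgroupOf_eq_top] at et
      exact hne (h.eq_of_le hB hA ((le_sup_right : B ≤ F).trans et)).symm
    obtain ⟨M, hM, hAM⟩ := (eq_top_or_exists_le_coatom A1).resolve_left hA1ne
    have hMn : M.Normal := NormalizerCondition.normal_of_coatom M Group.normalizerCondition_of_isNilpotent hM
    refine hM.1 (eq_top_iff.2 fun x _ => ?_)
    have hle : MulAut.conj f • A ⊔ A ≤ M.map F.subtype := by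
      refine sup_le (fun z hz => ?_) fun z hz => ⟨⟨z, hAF hz⟩, hAM hz, rfl⟩
      rw [mem_pointwise_smul_iff_inv_smul_mem] at hz
      have hz' : f⁻¹ * z * f ∈ A := by simpa [MulAut.smul_def] using hz
      refine ⟨(⟨f, hf⟩ : F) * ⟨f⁻¹ * z * f, hAF hz'⟩ * (⟨f, hf⟩ : F)⁻¹, hMn.conj_mem _ (hAM hz') _, ?_⟩
      simp [mul_assoc]
    rw [h.sup_eq hA hB (h.inv A hA f) hA hne hfA (conj_smul_le_self hf hAF) hAF] at hle
    obtain ⟨y, hy, e2⟩ := hle x.2
    rwa [← Subtype.ext e2]
  · exact (h.odd A hA B hB hne).not_two_dvd_nat (by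
      rw [show (A ⊔ B : Subgroup G) = F from rfl, hcardF, he, e1]
      exact Dvd.dvd.mul_left (dvd_pow_self 2 he0.ne') p)

end Pre

end Cfsg.Agent.PairOdd
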