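import Cfsg.Agent.PairOdd.Mutual
import Cfsg.Agent.Core.Fitting
import Cfsg.Agent.QdFree.Consequences
import Cfsg.Agent.FTCons.Basic

/-!
# Maximal subgroups with a noncentral central element centralised by the involution coincide

The inverted part of the centre lies in `O_q` of the odd core of the centraliser of the fixed
members, and that normalises the subgroup.
-/

set_option autoImplicit false
set_option linter.unusedSectionVars false

namespace Cfsg.Agent.PairOdd

open Subgroup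
open scoped Pointwise commutatorElement

universe u

variable {G : Type u} [Group G] [Finite G] {p q : ℕ} {D : Set (Subgroup G)} {t : G}

/-- A `q`-element acting quadratically on `O_q` and centralising the other cores lies in `O_q`. -/
theorem mem_pCore_of_quadratic {X : Type u} [Group X] [Finite X] [Group.IsSolvable X]
    (hodd : Odd (Nat.card X)) (hq : q.Prime) (hq2 : q ≠ 2) {x : X} {k : ℕ} (hx : x ^ q ^ k = 1)
    (hcen : ∀ r : ℕ, r.Prime → r ≠ q → x ∈ centralizer (Cfsg.pCore r X : Set X))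
    (hquad : ⁅⁅Cfsg.pCore q X, zpowers x⁆, zpowers x⁆ = ⊥) : x ∈ Cfsg.pCore q X := by
  have := Fact.mk hq
  set P := Cfsg.pCore q X with hP
  have hPn : P.Normal := Core.pCore_normal
  have hPq : IsPGroup q P := Core.pCore_isPGroup
  set E := ⨆ r : {r : ℕ // r.Prime ∧ r ≠ q}, Cfsg.pCore (r : ℕ) X with hE
  have hEn : E.Normal := by
    have : ∀ r : {r : ℕ // r.Prime ∧ r ≠ q}, (Cfsg.pCore (r : ℕ) X).Normal := fun r => Core.pCore_normal
    exact Subgroup.iSup_normal _
  have hEcop : (Nat.card E).Coprime q := by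
    refine Nat.Coprime.coprime_dvd_left (card_dvd_of_le ?_) (Core.coprime_card_pPrimeCore (p := q))
    refine iSup_le fun r => ?_
    have := Fact.mk r.2.1
    exact Core.pCore_le_pPrimeCore r.2.2
  have hFle : Cfsg.fittingSubgroup X ≤ P ⊔ E := by
    rw [Core.fittingSubgroup_eq_iSup_pCore]
    refine iSup_le fun r => ?_
    by_cases e : (r : ℕ) = q
    · rw [e]; exact le_sup_left
    · exact le_sup_of_le_right (le_iSup (fun r : {r : ℕ // r.Prime ∧ r ≠ q} => Cfsg.pCore (r : ℕ) X)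
        ⟨(r : ℕ), r.2, e⟩)
  have hPE : ∀ a ∈ P, ∀ e ∈ E, Commute a e := by
    intro a ha e he
    refine commute_of_normal_of_disjoint P E hPn hEn ?_ a e ha he
    rw [disjoint_iff]
    obtain ⟨n, hn⟩ := IsPGroup.iff_card.1 hPq
    exact Coprime.inf_eq_bot_of_coprime (by rw [hn]; exact (hEcop.symm).pow_left n)
  -- `q'`-elements of `F` lie in `E`, `q`-elements in `P`
  obtain ⟨n, hn⟩ := IsPGroup.iff_card.1 hPq
  have hsplit : ∀ z ∈ Cfsg.fittingSubgroup X, z ^ q ^ n ∈ E ∧ z ^ Nat.card E ∈ P := by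
    intro z hz
    obtain ⟨a, ha, e, he, rfl⟩ := (Coprime.mem_sup_of_le_normalizer (N := P) (A := E)
      (by rw [normalizer_eq_top_iff.2 hPn]; exact le_top)).1 (hFle hz)
    have hc := hPE a ha e he
    constructor
    · rw [hc.mul_pow, ← hn, show a ^ Nat.card P = 1 from
        orderOf_dvd_iff_pow_eq_one.1 (orderOf_dvd_natCard P ha), one_mul]
      exact pow_mem he _
    · rw [hc.mul_pow, show e ^ Nat.card E = 1 from
        orderOf_dvd_iff_pow_eq_one.1 (orderOf_dvd_natCard E he), mul_one]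
      exact pow_mem ha _
  set C := centralizer (P : Set X) with hC
  have hCn : C.Normal := inferInstance
  set K := ⨅ r : {r : ℕ // r.Prime ∧ r ≠ q}, centralizer (Cfsg.pCore (r : ℕ) X : Set X) with hK
  have hKn : K.Normal := Subgroup.normal_iInf_normal fun r => by
    have := Core.pCore_normal (p := (r : ℕ)) (G := X)
    infer_instance
  set W := (Cfsg.pCore q (X ⧸ C)).comap (QuotientGroup.mk' C) ⊓ K with hW
  have hWn : W.Normal := by
    have : ((Cfsg.pCore q (X ⧸ C)).comap (QuotientGroup.mk' C)).Normal := inferInstance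
    rw [hW]; infer_instance
  have hxW : x ∈ W := mem_inf.2 ⟨QdFree.mk_mem_pCore_of_odd hq2 hodd hPq hquad,
    mem_iInf.2 fun r => hcen r r.2.1 r.2.2⟩
  have hWE : W ≤ centralizer (E : Set X) := by
    rw [le_centralizer_iff]
    refine iSup_le fun r => ?_
    rw [le_centralizer_iff]
    exact inf_le_right.trans (iInf_le _ r)
  have hWC : W ⊓ C ≤ Cfsg.fittingSubgroup X := by
    refine le_trans (fun w hw => ?_) Core.centralizer_fittingSubgroup_le
    rw [← le_centralizer_singleton]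
    refine hFle.trans (sup_le ?_ ?_)
    · exact le_centralizer_singleton.2 hw.2
    · exact le_centralizer_singleton.2 (hWE hw.1)
  have hnil : Group.IsNilpotent W := by
    refine Group.of_quotient_center_nilpotent ?_
    refine IsPGroup.isNilpotent (p := q) ?_
    intro v
    obtain ⟨⟨w, hw⟩, rfl⟩ := QuotientGroup.mk_surjective v
    obtain ⟨i, hi⟩ := (Core.pCore_isPGroup (p := q) (G := X ⧸ C)) ⟨_, hw.1⟩
    have hiC : w ^ q ^ i ∈ W ⊓ C := by
      refine mem_inf.2 ⟨pow_mem hw _, (QuotientGroup.eq_one_iff _).1 ?_⟩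
      have := congrArg Subtype.val hi
      simpa using this
    refine ⟨i + n, ?_⟩
    rw [← QuotientGroup.mk_pow, QuotientGroup.eq_one_iff, mem_center_iff]
    rintro ⟨u, hu⟩
    refine Subtype.ext ?_
    show u * w ^ q ^ (i + n) = w ^ q ^ (i + n) * u
    rw [pow_add, pow_mul]
    exact (mem_centralizer_iff.1 (hWE hu) _ (hsplit _ (hWC hiC)).1).symm
  have hxP := (hsplit x (Core.le_fittingSubgroup (hN := hWn) hnil hxW)).2
  obtain ⟨m, hm⟩ := exists_pow_eq_self_of_coprime (x := x) (n := Nat.card E) (by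
    obtain ⟨j, -, hj⟩ := (Nat.dvd_prime_pow hq).1 (orderOf_dvd_of_pow_eq_one hx)
    rw [hj]
    exact hEcop.pow_right j)
  rw [← hm]
  exact pow_mem hxP m

namespace Ctx

variable (c : Ctx p q D)
include c

/-- The odd core of the centraliser of the fixed members. -/
theorem inverted_mem_core (m : Maxt D t) {M : Subgroup G} (T : Top D t M) {y : G}
    (hy : y ∈ invSet t M) :
    y ∈ (Cfsg.oddCore (centralizer (Hgen D t : Set G))).map
      (centralizer (Hgen D t : Set G)).subtype := by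
  set C := centralizer (Hgen D t : Set G) with hC
  have htC : t ∈ C := le_centralizer_singleton.1 (gen_le _)
  have hyC : y ∈ C := T.mem_centralizer_Hgen hy.1
  have hiso : Cfsg.IsIsolatedInvolution (⟨t, htC⟩ : C) := by
    refine ⟨by rw [← Subgroup.orderOf_coe]; exact m.ord, fun g hcom => ?_⟩
    have hcom' : Commute t ((g : G) * t * (g : G)⁻¹) := congrArg Subtype.val hcom
    have heC : (g : G) * t * (g : G)⁻¹ ∈ C := mul_mem (mul_mem g.2 htC) (inv_mem g.2)
    have hsub : fixd D t ⊆ fixd D ((g : G) * t * (g : G)⁻¹) := fun A hA =>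
      ⟨hA.1, le_centralizer_singleton.2 (centralizer_le (Ctx.le_Hgen hA) heC)⟩
    have ho : orderOf ((g : G) * t * (g : G)⁻¹) = 2 := by
      rw [← MulAut.conj_apply, (MulAut.conj (g : G)).orderOf_eq, m.ord]
    have heq : fixd D ((g : G) * t * (g : G)⁻¹) = fixd D t :=
      (Set.eq_of_subset_of_ncard_le hsub (m.max _ ho (m.nonempty.mono hsub))).symm
    obtain ⟨-, -, B, hB, -, hBt, -⟩ := T.exists_two
    exact Subtype.ext (c.eq_of_fixd_eq m ho hcom' heq T.gen_eq T.ne_top T.fixed_le hB hBt)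
  have hz := Invol.zstar hiso (⟨y, hyC⟩ : C)
  have he : (⟨t, htC⟩ : C) * ⟨y, hyC⟩ * (⟨t, htC⟩ : C)⁻¹ * (⟨y, hyC⟩ : C)⁻¹ =
      ((⟨y, hyC⟩ : C) * ⟨y, hyC⟩)⁻¹ := Subtype.ext (by
    show t * y * t⁻¹ * y⁻¹ = (y * y)⁻¹
    rw [hy.2]; group)
  rw [he, inv_mem_iff] at hz
  refine ⟨⟨y, hyC⟩, ?_, rfl⟩
  obtain ⟨k, hk⟩ := T.odd_of_mem_zc c hy.1
  have : ((⟨y, hyC⟩ : C) * ⟨y, hyC⟩) ^ (k + 1) = ⟨y, hyC⟩ := by
    rw [← pow_two, ← pow_mul, show 2 * (k + 1) = 2 * k + 1 + 1 by omega, pow_succ, ← hk,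
      ← Subgroup.orderOf_mk y hyC, pow_orderOf_eq_one, one_mul]
  rw [← this]
  exact pow_mem hz _

/-- A `q`-subgroup of the core containing the centre's part of it normalises `M`. -/
theorem le_normalizer_of_qgroup (m : Maxt D t) (hnab : ¬ DAb D) {M : Subgroup G} (T : Top D t M)
    {O Q : Subgroup G}
    (hO : O ≤ centralizer (Hgen D t : Set G))
    (hinv : ∀ M' : Subgroup G, Top D t M' → ∀ y ∈ invSet t M', y ∈ O)
    (hQ : Q ≤ O) (hQq : IsPGroup q Q) (hzc : zc M ⊓ O ≤ Q) : Q ≤ normalizer (M : Set G) := by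
  by_contra hnot
  have := Fact.mk c.qq
  have := hQq.isNilpotent
  set Q₀ := (normalizer (M : Set G) ⊓ Q).subgroupOf Q with hQ₀
  have hlt : Q₀ < ⊤ := lt_top_iff_ne_top.2 fun e => hnot fun x hx => by
    have : (⟨x, hx⟩ : Q) ∈ Q₀ := e ▸ mem_top _
    exact (mem_subgroupOf.1 this).1
  obtain ⟨g, hg, hgnot⟩ := SetLike.exists_of_lt (Group.normalizerCondition_of_isNilpotent Q₀ hlt)
  have hgH : MulAut.conj (g : G) • Hgen D t = Hgen D t :=
    conj_smul_eq_self_of_centralizer (by
      refine le_centralizer_iff.1 ?_ (hO (hQ g.2))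
      exact le_centralizer_iff.1 le_rfl)
  have T' := T.smul c hgH
  have hback : ∀ y, y ∈ Q → y ∈ normalizer (M : Set G) →
      ((g : G) * y * (g : G)⁻¹) ∈ normalizer (M : Set G) ∧
      ((g : G)⁻¹ * y * (g : G)) ∈ normalizer (M : Set G) := by
    intro y hyQ hyM
    have h0 : (⟨y, hyQ⟩ : Q) ∈ Q₀ := mem_subgroupOf.2 ⟨hyM, hyQ⟩
    refine ⟨(mem_subgroupOf.1 ((mem_normalizer_iff.1 hg _).1 h0)).1, ?_⟩
    have h1 : g⁻¹ * ⟨y, hyQ⟩ * g ∈ Q₀ :=
      (mem_normalizer_iff.1 hg _).2 (by simpa [mul_assoc] using h0)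
    exact (mem_subgroupOf.1 h1).1
  have hzn : ∀ z ∈ zc M, z ∈ normalizer (M : Set G) := fun z hz => le_normalizer hz.1
  have h1 : ∀ y ∈ invSet t (MulAut.conj (g : G) • M), MulAut.conj y • M = M := by
    intro y hy
    have hyO : y ∈ O := hinv _ T' y hy
    set z := (g : G)⁻¹ * y * (g : G) with hz
    have hzz : z ∈ zc M := by
      have h := hy.1
      refine mem_inf.2 ⟨?_, mem_centralizer_iff.2 fun w hw => ?_⟩
      · exact Coprime.mem_conj_smul.1 h.1
      · have := mem_centralizer_iff.1 h.2 _ (conj_mem_smul (g := (g : G)) hw)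
        rw [hz]
        calc w * ((g : G)⁻¹ * y * g) = (g : G)⁻¹ * ((g : G) * w * (g : G)⁻¹ * y) * g := by group
          _ = (g : G)⁻¹ * (y * ((g : G) * w * (g : G)⁻¹)) * g := by rw [this]
          _ = _ := by group
    have hzQ : z ∈ Q := hzc (mem_inf.2 ⟨hzz, mul_mem (mul_mem (inv_mem (hQ g.2)) hyO) (hQ g.2)⟩)
    have := (hback z hzQ (hzn z hzz)).1
    rw [show (g : G) * z * (g : G)⁻¹ = y by rw [hz]; group] at this
    exact conj_smul_eq_self this
  have h2 : ∀ y ∈ invSet t M, MulAut.conj y • (MulAut.conj (g : G) • M) = MulAut.conj (g : G) • M := by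
    intro y hy
    have hyQ : y ∈ Q := hzc (mem_inf.2 ⟨hy.1, hinv _ T y hy⟩)
    have := conj_smul_eq_self (hback y hyQ (hzn y hy.1)).2
    rw [← mul_smul, ← map_mul, show y * (g : G) = (g : G) * ((g : G)⁻¹ * y * g) by group, map_mul,
      mul_smul, this]
  have e := T.eq_of_mutual c m hnab T' h1 h2
  exact hgnot (mem_subgroupOf.2 ⟨mem_normalizer_of_smul e.symm, g.2⟩)

end Ctx

namespace Top

variable {M : Subgroup G} (T : Top D t M)
include T

/-- The centre of `M` has no section of order prime to `q` to normalise. -/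
theorem commute_core (c : Ctx p q D) (m : Maxt D t) {V : Subgroup G} {r : ℕ} (hr : r.Prime)
    (hrq : r ≠ q) (hV : IsPGroup r V) (hVn : ∀ w ∈ zc M, w ∈ normalizer (V : Set G)) {y x : G}
    (hy : y ∈ zc M) (hyt : Commute t y) (hyc : y ∉ center G) (hx : x ∈ invSet t M) :
    x ∈ centralizer (V : Set G) := by
  have := Fact.mk c.qq
  have := Fact.mk hr
  by_cases hxc : x ∈ center G
  · exact center_le_centralizer _ hxc
  have hcop : ∀ (i j : ℕ), (q ^ i).Coprime (r ^ j) := fun i j =>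
    Nat.Coprime.pow i j ((Nat.coprime_primes c.qq hr).2 hrq.symm)
  suffices hVM : V ≤ normalizer (M : Set G) by
    refine mem_centralizer_iff.2 fun v hv => commutatorElement_eq_one_iff_mul_comm.1 ?_
    have h1 : ⁅v, x⁆ ∈ zc M ⊓ V := by
      refine mem_inf.2 ⟨?_, ?_⟩
      · rw [commutatorElement_def]
        exact mul_mem (zc_smul (conj_smul_eq_self (hVM hv)) hx.1) (inv_mem hx.1)
      · rw [commutatorElement_def, show v * x * v⁻¹ * x⁻¹ = v * (x * v⁻¹ * x⁻¹) by group]
        exact mul_mem hv ((mem_normalizer_iff.1 (hVn x hx.1) _).1 (inv_mem hv))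
    rw [disjoint_iff.1 (IsPGroup.disjoint_of_ne q r hrq.symm _ _ (T.zc_isPGroup c) hV), mem_bot] at h1
    exact h1
  have hcase : ∀ w ∈ zc M, w ∉ center G → V ⊓ centralizer ({w} : Set G) ≤ normalizer (M : Set G) :=
    fun w hw hwc v hv => mem_normalizer_of_smul (T.smul_eq_of_commute c hw hwc hv.2)
  by_cases hA : ∃ w ∈ zc M, w ∉ center G ∧ w ∈ centralizer (V : Set G)
  · obtain ⟨w, hw, hwc, hwV⟩ := hA
    exact fun v hv => hcase w hw hwc ⟨hv, le_centralizer_singleton.2 hwV hv⟩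
  push Not at hA
  -- last powers outside the centre
  have hlast : ∀ z ∈ zc M, z ∉ center G → ∃ i : ℕ, z ^ q ^ i ∉ center G ∧ (z ^ q ^ i) ^ q ∈ center G := by
    intro z hz hzc
    obtain ⟨k, hk⟩ := IsPGroup.iff_orderOf.1 (T.zc_isPGroup c) ⟨z, hz⟩
    rw [Subgroup.orderOf_mk] at hk
    classical
    have hex : ∃ i, z ^ q ^ i ∈ center G := ⟨k, by rw [← hk, pow_orderOf_eq_one]; exact one_mem _⟩
    have hs := Nat.find_spec hex
    rcases hfd : Nat.find hex with - | i
    · rw [hfd, pow_zero, pow_one] at hs; exact absurd hs hzc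
    · rw [hfd] at hs
      exact ⟨i, Nat.find_min hex (by omega), by rwa [← pow_mul, ← pow_succ]⟩
  obtain ⟨i, hai, haq⟩ := hlast y hy hyc
  obtain ⟨j, hbj, hbq⟩ := hlast x hx.1 hxc
  set a := y ^ q ^ i with ha
  set b := x ^ q ^ j with hb
  have haz : a ∈ zc M := pow_mem hy _
  have hbz : b ∈ zc M := pow_mem hx.1 _
  have hab : Commute a b := mem_centralizer_iff.1 hbz.2 a haz.1
  have hbt : t * b * t⁻¹ = b⁻¹ := by rw [hb, ← conj_pow, hx.2, inv_pow]
  have hat : t * a * t⁻¹ = a := by rw [ha, (hyt.pow_right _).eq, mul_inv_cancel_right]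
  have hk : ∀ k : ℕ, a ^ k * b ∉ center G := by
    intro k hmem
    have h1 : a ^ k * b⁻¹ ∈ center G := by
      have h2 : t * (a ^ k * b) * t⁻¹ = a ^ k * b⁻¹ := by
        rw [show t * (a ^ k * b) * t⁻¹ = (t * a ^ k * t⁻¹) * (t * b * t⁻¹) by group, hbt,
          ← conj_pow, hat]
      rw [← h2, mem_center_iff.1 hmem t, mul_inv_cancel_right]
      exact hmem
    have h3 : b * b ∈ center G := by
      have := mul_mem (inv_mem h1) hmem
      rwa [show (a ^ k * b⁻¹)⁻¹ * (a ^ k * b) = b * b by group] at this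
    obtain ⟨n, hn⟩ := T.odd_of_mem_zc c hbz
    refine hbj ?_
    have := pow_mem h3 (n + 1)
    rwa [← pow_two, ← pow_mul, show 2 * (n + 1) = 2 * n + 1 + 1 by omega, pow_succ, ← hn,
      pow_orderOf_eq_one, one_mul] at this
  obtain ⟨nV, hnV⟩ := IsPGroup.iff_card.1 hV
  refine Coprime.le_of_centralizers_le hab (hVn a haz) (hVn b hbz) c.qq
    (center_le_centralizer _ haq) (center_le_centralizer _ hbq)
    (by rw [hnV]; simpa using hcop 1 nV) ?_ (hcase a haz hai)
    fun k => hcase _ (mul_mem (pow_mem haz k) hbz) (hk k)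
  obtain ⟨nc, hnc⟩ := IsPGroup.iff_card.1 ((T.zc_isPGroup c).to_le
    ((closure_le _).2 (by rintro z (rfl | rfl) <;> assumption) : closure {a, b} ≤ zc M))
  rw [hnc, hnV]
  exact hcop nc nV

/-- The inverted centre of `M` normalises every other such subgroup. -/
theorem eq_of_fixed_center (hFT : FTCons.OddSolvable.{u}) (c : Ctx p q D) (m : Maxt D t)
    (hnab : ¬ DAb D) {y : G} (hy : y ∈ zc M) (hyt : Commute t y) (hyc : y ∉ center G)
    {M' : Subgroup G} (T' : Top D t M') {y' : G} (hy' : y' ∈ zc M') (hyt' : Commute t y')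
    (hyc' : y' ∉ center G) : M = M' := by
  have := Fact.mk c.qq
  set C := centralizer (Hgen D t : Set G) with hC
  set Oc := Cfsg.oddCore C with hOc
  set O := Oc.map C.subtype with hO
  have hinv : ∀ M₁ : Subgroup G, Top D t M₁ → ∀ z ∈ invSet t M₁, z ∈ O := fun M₁ T₁ z hz =>
    c.inverted_mem_core m T₁ hz
  have hOcn : Oc.Normal := Core.pPrimeCore_normal
  have hoddO : Odd (Nat.card Oc) := Nat.coprime_two_right.1 Core.coprime_card_pPrimeCore
  have hsol : Group.IsSolvable Oc := hFT Oc hoddO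
  have hnormal : ∀ r : ℕ, ((Cfsg.pCore r Oc).map Oc.subtype).Normal := fun r => inferInstance
  -- cores of `O`, normalised by the centraliser
  set V : ℕ → Subgroup G := fun r => ((Cfsg.pCore r Oc).map Oc.subtype).map C.subtype with hVdef
  have hVn : ∀ r, C ≤ normalizer (V r : Set G) := fun r g hg => by
    refine mem_normalizer_of_smul ?_
    show MulAut.conj (C.subtype ⟨g, hg⟩) • _ = _
    rw [← map_smul_conj, conj_smul_eq_self (by rw [normalizer_eq_top_iff.2 (hnormal r)]; exact mem_top _)]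
  have hVO : ∀ r, V r ≤ O := fun r => map_mono (map_subtype_le _)
  have hVp : ∀ r, IsPGroup r (V r) := fun r => ((Core.pCore_isPGroup).map _).map _
  have hOC : O ≤ C := map_subtype_le _
  -- `O_q` normalises each such subgroup
  have hN : ∀ M₁ : Subgroup G, Top D t M₁ → V q ≤ normalizer (M₁ : Set G) := fun M₁ T₁ => by
    refine le_sup_left.trans (c.le_normalizer_of_qgroup m hnab T₁ hOC hinv
      (Q := V q ⊔ zc M₁ ⊓ O) (sup_le (hVO q) inf_le_right) ?_ le_sup_right)
    exact (hVp q).to_sup_of_normal_left' ((T₁.zc_isPGroup c).to_le inf_le_left)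
      (inf_le_right.trans (hOC.trans (hVn q)))
  have key : ∀ (M₁ : Subgroup G), Top D t M₁ → ∀ w ∈ zc M₁, Commute t w → w ∉ center G →
      ∀ z ∈ invSet t M₁, z ∈ V q := by
    intro M₁ T₁ w hw hwt hwc z hz
    obtain ⟨⟨z0, hz0C⟩, hz0, e⟩ := hinv M₁ T₁ z hz
    change z0 = z at e
    subst e
    have hzcC : ∀ v ∈ zc M₁, v ∈ C := fun v hv => T₁.mem_centralizer_Hgen hv
    have hcen : ∀ r : ℕ, r.Prime → r ≠ q →
        (⟨⟨z0, hz0C⟩, hz0⟩ : Oc) ∈ centralizer (Cfsg.pCore r Oc : Set Oc) := by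
      intro r hr hrq
      have h := T₁.commute_core c m hr hrq (hVp r) (fun v hv => hVn r (hzcC v hv)) hw hwt hwc hz
      refine mem_centralizer_iff.2 fun v hv => Subtype.ext (Subtype.ext ?_)
      exact mem_centralizer_iff.1 h _ (mem_map_of_mem _ (mem_map_of_mem _ hv))
    set B := ((zc M₁).subgroupOf C).subgroupOf Oc with hB
    have hBc : IsMulCommutative B := ⟨⟨fun ⟨v, hv⟩ ⟨v', hv'⟩ => Subtype.ext (Subtype.ext (Subtype.ext
      (mem_centralizer_iff.1 (mem_inf.1 hv').2 _ (mem_inf.1 hv).1)))⟩⟩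
    have hPB : Cfsg.pCore q Oc ≤ normalizer (B : Set Oc) := fun v hv => by
      have hvn : ((v : C) : G) ∈ normalizer (M₁ : Set G) :=
        hN M₁ T₁ (mem_map_of_mem _ (mem_map_of_mem _ hv))
      refine Weight.conj_mem_normalizer fun w hw => ?_
      exact zc_smul (conj_smul_eq_self hvn) hw
    have hquad := QdFree.quadratic_of_normalized hBc hPB
      (b := (⟨⟨z0, hz0C⟩, hz0⟩ : Oc)) hz.1
    obtain ⟨k, hk⟩ := T₁.zc_isPGroup c ⟨z0, hz.1⟩
    have hzk : (⟨⟨z0, hz0C⟩, hz0⟩ : Oc) ^ q ^ k = 1 :=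
      Subtype.ext (Subtype.ext (by simpa using congrArg Subtype.val hk))
    exact mem_map_of_mem C.subtype (mem_map_of_mem Oc.subtype
      (mem_pCore_of_quadratic hoddO c.qq c.q2 hzk hcen hquad))
  exact T.eq_of_mutual c m hnab T'
    (fun z hz => conj_smul_eq_self (hN M T (key M' T' y' hy' hyt' hyc' z hz)))
    (fun z hz => conj_smul_eq_self (hN M' T' (key M T y hy hyt hyc z hz)))

end Top

end Cfsg.Agent.PairOdd
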