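import Cfsg.Agent.PairOdd.Main
import Cfsg.Prelude.Def_Solvable

/-!
# Frobenius structure modulo the centre
-/

set_option autoImplicit false
set_option linter.unusedSectionVars false

namespace Cfsg.Agent.PairOdd

open Subgroup
open scoped Pointwise commutatorElement

universe u

variable {G : Type u} [Group G] [Finite G] {p q : ℕ} {D : Set (Subgroup G)}

/-- The group modulo its centre has odd order and a Frobenius complement. -/
theorem frobenius (hFT : FTCons.OddSolvable.{u}) (h : Sys p q D) (hgen : sSup D = ⊤)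
    {A B : Subgroup G} (hA : A ∈ D) (hB : B ∈ D) (hne : A ≠ B) :
    Odd (Nat.card (G ⧸ center G)) ∧
      ∃ H : Subgroup (G ⧸ center G), Cfsg.IsFrobeniusComplement H := by
  have hodd := odd_of_gen hFT h hgen
  have : Group.IsSolvable G := hFT G hodd
  refine ⟨hodd.of_dvd_nat (card_quotient_dvd_card _), ?_⟩
  obtain ⟨R, hRn, hR, hall⟩ := h.solvable_structure hgen hA hB hne
  obtain ⟨htop, -, hfix, -, -⟩ := hall A hA
  set π := QuotientGroup.mk' (center G) with hπ
  have hker : π.ker = center G := QuotientGroup.ker_mk' _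
  have hAZ : ¬ A ≤ center G := fun e => h.nc B hB A hA hne.symm (e.trans (center_le_centralizer _))
  refine ⟨A.map π, fun e => hAZ (hker ▸ (Subgroup.map_eq_bot_iff _).1 e), fun e => ?_, fun g hg => ?_⟩
  · -- otherwise the group would be abelian
    have h1 : (A.map π).comap π = ⊤ := by rw [e, comap_top]
    rw [comap_map_eq, hker] at h1
    refine h.nc A hA B hB hne fun b hb => mem_centralizer_iff.2 fun a ha => ?_
    have hb' : b ∈ A ⊔ center G := h1 ▸ mem_top b
    obtain ⟨a', ha', z, hz, rfl⟩ := (Subgroup.mem_sup_of_normal_right (s := A)).1 hb'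
    have hcomm := congrArg Subtype.val
      ((isMulCommutative_member h hA).is_comm.comm ⟨a, ha⟩ ⟨a', ha'⟩)
    calc a * (a' * z) = (a * a') * z := (mul_assoc _ _ _).symm
      _ = (a' * a) * z := by rw [show a * a' = a' * a from hcomm]
      _ = a' * (z * a) := by rw [mul_assoc, mem_center_iff.1 hz a]
      _ = a' * z * a := (mul_assoc _ _ _).symm
  obtain ⟨g, rfl⟩ := QuotientGroup.mk'_surjective _ g
  by_contra hmeet
  have hp := Fact.mk h.pp
  set g' := MulAut.conj g • A with hg'
  have hg'D : g' ∈ D := h.inv A hA g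
  have hcard : ∀ C ∈ D, Nat.card (C.map π) ∣ p := fun C hC => h.card C hC ▸ card_map_dvd C π
  have hmap : MulAut.conj (π g) • A.map π = g'.map π := (map_smul_conj π g A).symm
  rw [← hπ, hmap] at hmeet
  have hle : g'.map π ≤ A.map π := by
    rcases (Nat.dvd_prime h.pp).1 ((card_dvd_of_le inf_le_right).trans (hcard g' hg'D)) with h1 | h1
    · exact absurd (eq_bot_of_card_eq _ h1) hmeet
    · refine inf_eq_right.1 (eq_of_le_of_card_ge inf_le_right ?_)
      rw [h1]
      exact Nat.le_of_dvd h.pp.pos (hcard g' hg'D)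
  have hle2 : g' ≤ A ⊔ center G := by
    rw [← hker, ← comap_map_eq]
    exact map_le_iff_le_comap.1 hle
  have heq : g' = A := by
    refine (h.toPre.centralizes_of_eq hA hg'D ?_).symm
    refine hle2.trans (sup_le ?_ (center_le_centralizer _))
    exact le_centralizer_iff_isMulCommutative.2 (isMulCommutative_member h hA)
  obtain ⟨r, hr, a, ha, rfl⟩ : ∃ r ∈ R, ∃ a ∈ A, r * a = g :=
    (Coprime.mem_sup_of_le_normalizer (by rw [normalizer_eq_top_iff.2 hRn]; exact le_top)).1
      (htop ▸ mem_top g)
  have hrA : MulAut.conj r • A = A := by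
    rw [hg', map_mul, mul_smul, conj_smul_eq_self (le_normalizer ha)] at heq
    exact heq
  have hrc : r ∈ centralizer (A : Set G) := by
    refine mem_centralizer_iff.2 fun x hx => (commutatorElement_eq_one_iff_mul_comm.1 ?_).symm
    have : ⁅r, x⁆ ∈ R ⊓ A := by
      refine mem_inf.2 ⟨?_, ?_⟩
      · rw [commutatorElement_def, show r * x * r⁻¹ * x⁻¹ = r * (x * r⁻¹ * x⁻¹) by group]
        exact mul_mem hr (hRn.conj_mem _ (inv_mem hr) x)
      · rw [commutatorElement_def]
        exact mul_mem (hrA ▸ conj_mem_smul hx) (inv_mem hx)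
    rwa [h.inf_eq_bot_of_qgroup hA hR, mem_bot] at this
  have hrz : π r = 1 := (QuotientGroup.eq_one_iff _).2 (hfix (mem_inf.2 ⟨hr, hrc⟩))
  exact hg (by rw [map_mul, hrz, one_mul]; exact mem_map_of_mem π ha)

end Cfsg.Agent.PairOdd
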