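import Cfsg.Agent.PairOdd.Trick
import Cfsg.Agent.Coprime.Generation
import Cfsg.Prelude.Def_CaseTheorems
import Cfsg.Agent.Core.PCore

/-!
# An involution centralising a largest number of members
-/

set_option autoImplicit false
set_option linter.unusedSectionVars false

namespace Cfsg.Agent.PairOdd

open Subgroup
open scoped Pointwise commutatorElement

universe u

variable {G : Type u} [Group G] {p q : ℕ} {D : Set (Subgroup G)}

/-- A `2`-group permuting an odd finite set of subgroups fixes one of them. -/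
theorem exists_fixed_of_odd [Finite G] {S : Set (Subgroup G)} {T : Subgroup G} (hT : IsPGroup 2 T)
    (hinv : ∀ g ∈ T, ∀ A ∈ S, MulAut.conj g • A ∈ S) (hodd : Odd S.ncard) :
    ∃ A ∈ S, ∀ g ∈ T, MulAut.conj g • A = A := by
  letI : MulAction T S :=
    { smul := fun g A => ⟨MulAut.conj (g : G) • (A : Subgroup G), hinv g g.2 A A.2⟩
      one_smul := fun A => Subtype.ext (by
        show MulAut.conj ((1 : T) : G) • (A : Subgroup G) = A
        rw [OneMemClass.coe_one, map_one, one_smul])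
      mul_smul := fun g g' A => Subtype.ext (by
        show MulAut.conj ((g * g' : T) : G) • (A : Subgroup G) =
          MulAut.conj (g : G) • MulAut.conj (g' : G) • (A : Subgroup G)
        rw [Subgroup.coe_mul, map_mul, mul_smul]) }
  have := Fact.mk Nat.prime_two
  obtain ⟨⟨A, hA⟩, hfix⟩ := hT.nonempty_fixed_point_of_prime_not_dvd_card S
    (by rw [Nat.card_coe_set_eq]; exact hodd.not_two_dvd_nat)
  exact ⟨A, hA, fun g hg => congrArg Subtype.val (hfix ⟨g, hg⟩)⟩

theorem zpowers_isPGroup_two {t : G} (ht : orderOf t = 2) : IsPGroup 2 (zpowers t) :=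
  IsPGroup.of_card (n := 1) (by rw [Nat.card_zpowers, ht, pow_one])

theorem smul_gen_le (hinv : ∀ A ∈ D, ∀ g : G, MulAut.conj g • A ∈ D) (g : G) (H : Subgroup G) :
    MulAut.conj g • gen D H ≤ gen D (MulAut.conj g • H) := by
  rw [Coprime.conj_smul_eq_map, gen, map_le_iff_le_comap]
  refine sSup_le fun A hA => map_le_iff_le_comap.1 ?_
  rw [← Coprime.conj_smul_eq_map]
  exact le_gen (hinv A hA.1 g) (conj_smul_le hA.2)

theorem conj_gen (hinv : ∀ A ∈ D, ∀ g : G, MulAut.conj g • A ∈ D) (g : G) (H : Subgroup G) :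
    MulAut.conj g • gen D H = gen D (MulAut.conj g • H) := by
  refine le_antisymm (smul_gen_le hinv g H) ?_
  have := conj_smul_le (g := g) (smul_gen_le hinv g⁻¹ (MulAut.conj g • H))
  rwa [map_inv, smul_inv_smul, inv_smul_smul] at this

theorem conj_centralizer_singleton (g t : G) :
    MulAut.conj g • centralizer ({t} : Set G) = centralizer ({g * t * g⁻¹} : Set G) := by
  ext x
  rw [Coprime.mem_conj_smul, mem_centralizer_singleton_iff, mem_centralizer_singleton_iff]
  constructor
  · intro e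
    calc x * (g * t * g⁻¹) = g * (g⁻¹ * x * g * t) * g⁻¹ := by group
      _ = g * (t * (g⁻¹ * x * g)) * g⁻¹ := by rw [e]
      _ = g * t * g⁻¹ * x := by group
  · intro e
    calc g⁻¹ * x * g * t = g⁻¹ * (x * (g * t * g⁻¹)) * g := by group
      _ = g⁻¹ * (g * t * g⁻¹ * x) * g := by rw [e]
      _ = t * (g⁻¹ * x * g) := by group

/-- The standing hypotheses on a counterexample. -/
structure Ctx (p q : ℕ) (D : Set (Subgroup G)) : Prop extends Sys p q D where
  gen_top : sSup D = ⊤
  small : Small q D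
  zodd : Odd (Nat.card (center G))

/-- An involution centralising a largest number of members. -/
structure Maxt (D : Set (Subgroup G)) (t : G) : Prop where
  ord : orderOf t = 2
  nonempty : (fixd D t).Nonempty
  max : ∀ e : G, orderOf e = 2 → (fixd D e).Nonempty → (fixd D e).ncard ≤ (fixd D t).ncard

/-- The subgroup generated by the members centralised by `t`. -/
def Hgen (D : Set (Subgroup G)) (t : G) : Subgroup G := gen D (centralizer ({t} : Set G))

theorem gen_pair {A B : Subgroup G} (hA : A ∈ D) (hB : B ∈ D) : gen D (A ⊔ B) = A ⊔ B :=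
  le_antisymm (gen_le _) (sup_le (le_gen hA le_sup_left) (le_gen hB le_sup_right))

theorem gen_sup {J K : Subgroup G} (hJ : gen D J = J) (hK : gen D K = K) :
    gen D (J ⊔ K) = J ⊔ K :=
  le_antisymm (gen_le _)
    (sup_le (hJ.ge.trans (gen_mono le_sup_left)) (hK.ge.trans (gen_mono le_sup_right)))

theorem fixd_smul (hinv : ∀ A ∈ D, ∀ g : G, MulAut.conj g • A ∈ D) {t g : G} {A : Subgroup G}
    (hA : A ∈ fixd D t) : MulAut.conj g • A ∈ fixd D (g * t * g⁻¹) :=
  ⟨hinv A hA.1 g, conj_centralizer_singleton g t ▸ conj_smul_le hA.2⟩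

theorem fixd_smul_iff (hinv : ∀ A ∈ D, ∀ g : G, MulAut.conj g • A ∈ D) {t g : G} {A : Subgroup G} :
    MulAut.conj g • A ∈ fixd D (g * t * g⁻¹) ↔ A ∈ fixd D t := by
  refine ⟨fun h => ?_, fixd_smul hinv⟩
  have := fixd_smul hinv (g := g⁻¹) h
  rwa [map_inv, inv_smul_smul, show g⁻¹ * (g * t * g⁻¹) * g⁻¹⁻¹ = t by group] at this

namespace Ctx

variable [Finite G] (c : Ctx p q D)
include c

theorem not_central {t : G} (ht : orderOf t = 2) : t ∉ center G := fun h =>
  c.zodd.not_two_dvd_nat (ht ▸ orderOf_dvd_natCard (center G) h)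

theorem ne_top_of_odd {t : G} (ht : orderOf t = 2) {J : Subgroup G} (hJ : Odd (Nat.card J)) :
    J ≠ ⊤ := fun e => hJ.not_two_dvd_nat (by
  rw [e, card_top]; exact ht ▸ orderOf_dvd_natCard t)

theorem odd_of_proper {J : Subgroup G} (hJ : gen D J = J) (hne : J ≠ ⊤) : Odd (Nat.card J) := by
  have := Fact.mk c.qq
  obtain ⟨R, s⟩ := c.small J hJ hne
  by_cases hA : (memb D J).Nonempty
  · obtain ⟨A, hA⟩ := hA
    rw [s.card_eq c.toSys hA]
    obtain ⟨n, hn⟩ := IsPGroup.iff_card.1 s.pgroup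
    rw [hn]
    exact (c.qq.odd_of_ne_two c.q2).pow.mul (c.pp.odd_of_ne_two c.p2)
  · rw [Set.not_nonempty_iff_eq_empty] at hA
    rw [← hJ, gen, hA, sSup_empty, card_bot]
    exact odd_one

theorem line_str {t : G} (ht : orderOf t = 2) {A B : Subgroup G} (hA : A ∈ D) (hB : B ∈ D)
    (hne : A ≠ B) : A ⊔ B ≠ ⊤ ∧ ∃ R, Str q D (A ⊔ B) R := by
  have h1 := c.ne_top_of_odd ht (c.odd A hA B hB hne)
  exact ⟨h1, c.small _ (gen_pair hA hB) h1⟩

/-- An involution normalising a member and centralising another one centralises it. -/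
theorem mem_fixd_of_normalizes {t : G} (ht : orderOf t = 2) {P B : Subgroup G}
    (hP : P ∈ fixd D t) (hB : B ∈ D) (hn : MulAut.conj t • B = B) : B ∈ fixd D t := by
  by_cases e : P = B
  · exact e ▸ hP
  obtain ⟨-, R, s⟩ := c.line_str ht hP.1 hB e
  have hPm : P ∈ memb D (P ⊔ B) := ⟨hP.1, le_sup_left⟩
  have hBm : B ∈ memb D (P ⊔ B) := ⟨hB, le_sup_right⟩
  have htP : t ∈ centralizer (P : Set G) := le_centralizer_singleton.1 hP.2
  have hJ : MulAut.conj t • (P ⊔ B) = P ⊔ B := by
    rw [smul_sup, conj_smul_eq_self_of_centralizer htP, hn]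
  refine ⟨hB, fun b hb => mem_centralizer_singleton_iff.2 ?_⟩
  obtain ⟨r, hr, a, ha, e'⟩ := (Coprime.mem_sup_of_le_normalizer (hPm.2.trans s.norm)).1
    (show b ∈ R ⊔ P by rw [s.sup P hPm]; exact hBm.2 hb)
  have hra : t * r * t⁻¹ ∈ R := by
    have := conj_mem_smul (g := t) hr
    rwa [s.conj_eq c.toSys hJ hPm] at this
  have hta : t * a * t⁻¹ = a := by
    rw [← mem_centralizer_iff.1 htP a ha, mul_inv_cancel_right]
  have h1 : t * b * t⁻¹ * b⁻¹ ∈ R ⊓ B := by
    refine mem_inf.2 ⟨?_, ?_⟩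
    · rw [← e', show t * (r * a) * t⁻¹ = t * r * t⁻¹ * (t * a * t⁻¹) by group, hta,
        show t * r * t⁻¹ * a * (r * a)⁻¹ = t * r * t⁻¹ * r⁻¹ by group]
      exact mul_mem hra (inv_mem hr)
    · have := conj_mem_smul (g := t) hb
      rw [hn] at this
      exact mul_mem this (inv_mem hb)
  rw [c.toSys.inf_eq_bot_of_qgroup hB s.pgroup, mem_bot, mul_inv_eq_one,
    mul_inv_eq_iff_eq_mul] at h1
  exact h1.symm

/-- A moved member lies on a line with a fixed one, invariant under the involution. -/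
theorem exists_fixed_on_line {t : G} (ht : orderOf t = 2) (hne : (fixd D t).Nonempty)
    {B : Subgroup G} (hB : B ∈ D) (hBt : B ∉ fixd D t) :
    MulAut.conj t • B ≠ B ∧ ∃ P ∈ fixd D t, P ≤ B ⊔ MulAut.conj t • B ∧
      B ⊔ MulAut.conj t • B = P ⊔ B ∧ MulAut.conj t • (P ⊔ B) = P ⊔ B := by
  obtain ⟨P₀, hP₀⟩ := hne
  have h1 : MulAut.conj t • B ≠ B := fun e => hBt (c.mem_fixd_of_normalizes ht hP₀ hB e)
  have htt : MulAut.conj t • MulAut.conj t • B = B := by
    rw [← mul_smul, ← map_mul, ← pow_two, ← ht, pow_orderOf_eq_one, map_one, one_smul]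
  set L := B ⊔ MulAut.conj t • B with hL
  have htL : MulAut.conj t • L = L := by rw [hL, smul_sup, htt, sup_comm]
  have hinv : ∀ g ∈ zpowers t, ∀ A ∈ memb D L, MulAut.conj g • A ∈ memb D L := by
    intro g hg A hA
    refine ⟨c.inv A hA.1 g, (conj_smul_le hA.2).trans (le_of_eq ?_)⟩
    have hle : zpowers t ≤ normalizer (L : Set G) := zpowers_le.2 (mem_normalizer_of_smul htL)
    exact conj_smul_eq_self (hle hg)
  obtain ⟨P, hP, hfix⟩ := exists_fixed_of_odd (zpowers_isPGroup_two ht) hinv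
    (c.toSys.odd_memb_line hB (c.inv B hB t) h1.symm)
  have hPf := c.mem_fixd_of_normalizes ht hP₀ hP.1 (hfix t (mem_zpowers t))
  have hPB : B ≠ P := fun e => hBt (e ▸ hPf)
  have e := c.toSys.mem_memb_line hB (c.inv B hB t) hP.1 h1.symm hPB hP.2
  rw [sup_comm] at e
  exact ⟨h1, P, hPf, hP.2, e.symm, by rw [e, htL]⟩

/-- `t` normalises every subgroup generated by members containing the members it centralises. -/
theorem smul_eq_of_fixd_subset {t : G} (ht : orderOf t = 2) (hne : (fixd D t).Nonempty)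
    {J : Subgroup G} (hJ : gen D J = J) (hsub : ∀ A ∈ fixd D t, A ≤ J) :
    MulAut.conj t • J = J := by
  refine eq_of_le_of_card_ge ?_ (card_smul t J).ge
  conv_lhs => rw [← hJ, conj_gen c.inv]
  refine sSup_le fun B' hB' => ?_
  obtain ⟨B, rfl⟩ : ∃ B, MulAut.conj t • B = B' := ⟨(MulAut.conj t)⁻¹ • B', smul_inv_smul _ _⟩
  have hB : B ∈ D := by
    have := c.inv _ hB'.1 t⁻¹
    rwa [map_inv, inv_smul_smul] at this
  have hBJ : B ≤ J := pointwise_smul_le_pointwise_smul_iff.1 hB'.2
  by_cases hf : B ∈ fixd D t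
  · rwa [conj_smul_eq_self_of_centralizer (le_centralizer_singleton.1 hf.2)]
  obtain ⟨-, P, hP, -, hL, -⟩ := c.exists_fixed_on_line ht hne hB hf
  exact le_sup_right.trans (hL.le.trans (sup_le (hsub P hP) hBJ))

variable {t : G} (m : Maxt D t)
include m

theorem fixd_ne_univ : ∃ B ∈ D, B ∉ fixd D t := by
  by_contra h
  push Not at h
  refine c.not_central m.ord (mem_center_iff.2 fun g => ?_)
  have : (⊤ : Subgroup G) ≤ centralizer ({t} : Set G) := c.gen_top ▸ sSup_le fun A hA => (h A hA).2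
  exact mem_centralizer_singleton_iff.1 (this (mem_top g))

theorem Hgen_ne_top : Hgen D t ≠ ⊤ := fun e => by
  obtain ⟨B, hB, hBt⟩ := c.fixd_ne_univ m
  exact hBt ⟨hB, (le_top.trans e.ge).trans (gen_le _)⟩

omit c m in
theorem gen_Hgen : gen D (Hgen D t) = Hgen D t := gen_gen _

omit c m in
theorem memb_Hgen : memb D (Hgen D t) = fixd D t := memb_gen _

omit c m in
theorem le_Hgen {A : Subgroup G} (hA : A ∈ fixd D t) : A ≤ Hgen D t := le_gen hA.1 hA.2

/-- An element normalising `Hgen` permutes the fixed members. -/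
theorem smul_mem_fixd {g : G} (hg : MulAut.conj g • Hgen D t = Hgen D t) {A : Subgroup G}
    (hA : A ∈ fixd D t) : MulAut.conj g • A ∈ fixd D t := by
  rw [← memb_Hgen] at hA ⊢
  exact ⟨c.inv A hA.1 g, (conj_smul_le hA.2).trans hg.le⟩

omit m in
theorem smul_Hgen {g : G} (hg : g ∈ centralizer ({t} : Set G)) :
    MulAut.conj g • Hgen D t = Hgen D t := by
  rw [Hgen, conj_gen c.inv, conj_smul_eq_self (le_normalizer hg)]

/-- Two involutions commuting and centralising the same members coincide. -/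
theorem eq_of_fixd_eq {e : G} (he : orderOf e = 2) (hcom : Commute t e)
    (hfix : fixd D e = fixd D t) {J : Subgroup G} (hJ : gen D J = J) (hJt : J ≠ ⊤)
    (hsub : ∀ A ∈ fixd D t, A ≤ J) {B : Subgroup G} (hB : B ∈ memb D J) (hBt : B ∉ fixd D t) :
    e = t := by
  have := Fact.mk c.qq
  by_contra hne
  have htt : t ^ 2 = 1 := by rw [← m.ord, pow_orderOf_eq_one]
  have hee : e ^ 2 = 1 := by rw [← he, pow_orderOf_eq_one]
  have hv : orderOf (t * e) = 2 := orderOf_eq_prime (by rw [hcom.mul_pow, htt, hee, one_mul])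
    fun h1 => hne (by
      rw [eq_inv_of_mul_eq_one_right h1]
      exact inv_eq_of_mul_eq_one_right (by rw [← pow_two]; exact htt))
  have hsubv : fixd D t ⊆ fixd D (t * e) := fun A hA =>
    ⟨hA.1, le_centralizer_singleton.2 (mul_mem (le_centralizer_singleton.1 hA.2)
      (le_centralizer_singleton.1 (show A ∈ fixd D e by rw [hfix]; exact hA).2))⟩
  have hfv : fixd D (t * e) = fixd D t :=
    (Set.eq_of_subset_of_ncard_le hsubv (m.max _ hv (m.nonempty.mono hsubv))).symm
  obtain ⟨P, hP⟩ := m.nonempty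
  obtain ⟨R, s⟩ := c.small J hJ hJt
  have hPJ : P ∈ memb D J := ⟨hP.1, hsub P hP⟩
  have htJ := c.smul_eq_of_fixd_subset m.ord m.nonempty hJ hsub
  have heJ := c.smul_eq_of_fixd_subset he (hfix.symm ▸ m.nonempty) hJ (hfix.symm ▸ hsub)
  have hcase : ∀ w : G, fixd D w = fixd D t →
      R ⊓ centralizer {w} ≤ normalizer (Hgen D t : Set G) := fun w hw x hx => by
    refine mem_normalizer_of_smul ?_
    have h1 : Hgen D w = Hgen D t := by rw [← gen_Hgen, gen, memb_Hgen, hw, ← memb_Hgen, ← gen, gen_Hgen]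
    rw [← h1]
    exact c.smul_Hgen (mem_inf.1 hx).2
  have hRn : R ≤ normalizer (Hgen D t : Set G) := by
    obtain ⟨n, hn⟩ := IsPGroup.iff_card.1 s.pgroup
    refine Coprime.le_of_centralizers_le hcom (mem_normalizer_of_smul (s.conj_eq c.toSys htJ hPJ))
      (mem_normalizer_of_smul (s.conj_eq c.toSys heJ hPJ)) Nat.prime_two
      (by rw [htt]; exact one_mem _) (by rw [hee]; exact one_mem _)
      (hn ▸ ((Nat.coprime_primes Nat.prime_two c.qq).2 c.q2.symm).pow_right n) ?_ (hcase t rfl) ?_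
    · have hsupz : (closure {t, e} : Subgroup G) = zpowers t ⊔ zpowers e := by
        rw [zpowers_eq_closure, zpowers_eq_closure, ← Subgroup.closure_union, Set.singleton_union]
      have hne' : zpowers t ≤ normalizer (zpowers e : Set G) := fun x hx => by
        obtain ⟨k, rfl⟩ := hx
        refine centralizer_le_normalizer _ (mem_centralizer_iff.2 ?_)
        rintro _ ⟨j, rfl⟩
        exact (((hcom.zpow_left k).zpow_right j).eq).symm
      have := Fact.mk Nat.prime_two
      obtain ⟨i, hi⟩ := IsPGroup.iff_card.1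
        ((zpowers_isPGroup_two he).to_sup_of_normal_left' (zpowers_isPGroup_two m.ord) hne')
      rw [hsupz, sup_comm, hi, hn]
      exact Nat.Coprime.pow i n ((Nat.coprime_primes Nat.prime_two c.qq).2 c.q2.symm)
    · intro k
      rcases Nat.even_or_odd' k with ⟨j, rfl | rfl⟩
      · rw [pow_mul, htt, one_pow, one_mul]; exact hcase e hfix
      · rw [pow_add, pow_mul, htt, one_pow, one_mul, pow_one]; exact hcase _ hfv
  have hJn : J ≤ normalizer (Hgen D t : Set G) :=
    (s.sup P hPJ).ge.trans (sup_le hRn ((le_Hgen hP).trans le_normalizer))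
  obtain ⟨r, hr, rfl⟩ := s.exists_smul c.toSys hPJ hB
  exact hBt (c.smul_mem_fixd m (conj_smul_eq_self (hRn hr)) hP)

end Ctx

end Cfsg.Agent.PairOdd
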