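import Cfsg.Agent.PairOdd.Centre

/-!
# Fixed points on an invariant line lie in the odd core of the centraliser of the involution
-/

set_option autoImplicit false
set_option linter.unusedSectionVars false

namespace Cfsg.Agent.PairOdd

open Subgroup
open scoped Pointwise commutatorElement

universe u

variable {G : Type u} [Group G] [Finite G] {p q : ℕ} {D : Set (Subgroup G)} {t : G}

/-- The odd core of the centraliser of `t`, as a subgroup of the group. -/
def ocore (t : G) : Subgroup G :=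
  (Cfsg.oddCore (centralizer ({t} : Set G))).map (centralizer ({t} : Set G)).subtype

theorem le_ocore {N : Subgroup G} (hN : N ≤ centralizer ({t} : Set G))
    (hn : centralizer ({t} : Set G) ≤ normalizer (N : Set G)) (hodd : Odd (Nat.card N)) :
    N ≤ ocore t := by
  have : (N.subgroupOf (centralizer ({t} : Set G))).Normal := normal_subgroupOf_of_le_normalizer hn
  have h1 : N.subgroupOf (centralizer ({t} : Set G)) ≤ Cfsg.oddCore (centralizer ({t} : Set G)) :=
    Core.le_pPrimeCore (Nat.coprime_two_right.2 (by rwa [Coprime.card_subgroupOf hN]))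
  calc N = (N.subgroupOf (centralizer ({t} : Set G))).map _ := (map_subgroupOf_eq_of_le hN).symm
    _ ≤ _ := map_mono h1

theorem centralizer_mul_center {z : G} (hz : z ∈ center G) (y : G) :
    centralizer ({z * y} : Set G) = centralizer ({y} : Set G) := by
  ext x
  rw [mem_centralizer_singleton_iff, mem_centralizer_singleton_iff, ← mul_assoc x,
    mem_center_iff.1 hz x, mul_assoc, mul_assoc]
  exact mul_left_cancel_iff

theorem commutator_inv_inv {u v : G} (h : Commute (v * u) ⁅u, v⁆) : ⁅u⁻¹, v⁻¹⁆ = ⁅u, v⁆ := by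
  calc ⁅u⁻¹, v⁻¹⁆ = (v * u)⁻¹ * (⁅u, v⁆ * (v * u)) := by
        simp only [commutatorElement_def]; group
    _ = ⁅u, v⁆ := by rw [← h.eq, inv_mul_cancel_left]

namespace Str

variable {J R : Subgroup G} (s : Str q D J R) (h : Sys p q D)
include s h

theorem zc_le {A B : Subgroup G} (hA : A ∈ memb D J) (hB : B ∈ memb D J) (hne : A ≠ B) :
    zc J ≤ R := fun _ hx => s.center_le h hA hB hne hx.1 hx.2

/-- The commutator of two elements of `R` is central in `J`. -/
theorem commutator_mem_zc (hnab : ¬ DAb D) {x z : G} (hx : x ∈ R) (hz : z ∈ R) : ⁅x, z⁆ ∈ zc J := by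
  refine mem_inf.2 ⟨s.le ?_, s.der hnab (commutator_mem_commutator hx hz)⟩
  rw [commutatorElement_def]
  exact mul_mem (mul_mem (mul_mem hx hz) (inv_mem hx)) (inv_mem hz)

/-- Central factors do not change commutators inside `J`. -/
theorem commutator_central_mul {x z y w : G} (hx : x ∈ J) (hz : z ∈ J) (hy : y ∈ J)
    (hyc : y ∈ centralizer (J : Set G)) (hw : w ∈ J) (hwc : w ∈ centralizer (J : Set G)) :
    ⁅y * x, w * z⁆ = ⁅x, z⁆ := by
  have c1 := mem_centralizer_iff.1 hyc
  have c2 := mem_centralizer_iff.1 hwc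
  simp only [commutatorElement_def, mul_inv_rev]
  calc y * x * (w * z) * (x⁻¹ * y⁻¹) * (z⁻¹ * w⁻¹)
      = y * (x * w) * z * x⁻¹ * (y⁻¹ * z⁻¹) * w⁻¹ := by group
    _ = y * (w * x) * z * x⁻¹ * (z⁻¹ * y⁻¹) * w⁻¹ := by
        rw [c2 x hx, c1 _ (inv_mem hz) |> fun e => (show y⁻¹ * z⁻¹ = z⁻¹ * y⁻¹ by
          rw [← mul_inv_rev, ← mul_inv_rev, c1 z hz])]
    _ = (y * w) * (x * z * x⁻¹ * z⁻¹) * (y⁻¹ * w⁻¹) := by group
    _ = (y * w) * (y⁻¹ * w⁻¹) * (x * z * x⁻¹ * z⁻¹) := by
        have hm : x * z * x⁻¹ * z⁻¹ ∈ J :=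
          mul_mem (mul_mem (mul_mem hx hz) (inv_mem hx)) (inv_mem hz)
        rw [mul_assoc (y * w), show (x * z * x⁻¹ * z⁻¹) * (y⁻¹ * w⁻¹) =
          (y⁻¹ * w⁻¹) * (x * z * x⁻¹ * z⁻¹) from
            mem_centralizer_iff.1 (mul_mem (inv_mem hyc) (inv_mem hwc)) _ hm, ← mul_assoc]
    _ = _ := by
        rw [show y * w = w * y from (c1 w hw).symm]
        group

end Str

namespace Ctx

variable (c : Ctx p q D)
include c

/-- A subgroup through a line whose central element is `y` lies in the centraliser of `y`. -/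
theorem le_gen_centralizer {P B : Subgroup G} (hP : P ∈ D) (hB : B ∈ D) (hne : P ≠ B) {y : G}
    (hy : y ∈ zc (P ⊔ B)) {J : Subgroup G} (hJ : gen D J = J) (hJt : J ≠ ⊤) (hPJ : P ≤ J)
    (hBJ : B ≤ J) : J ≤ gen D (centralizer ({y} : Set G)) := by
  obtain ⟨R, s⟩ := c.small J hJ hJt
  have hlt : P ⊔ B ≤ J := sup_le hPJ hBJ
  have hLt : P ⊔ B ≠ ⊤ := fun e => hJt (top_le_iff.1 (e ▸ hlt))
  obtain ⟨RL, sL⟩ := c.small _ (gen_pair hP hB) hLt
  have hyR : y ∈ R := s.le_of_qgroup c.toSys ⟨hP, hPJ⟩ (sL.le.trans hlt) sL.pgroup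
    (sL.zc_le c.toSys ⟨hP, le_sup_left⟩ ⟨hB, le_sup_right⟩ hne hy)
  have hyc : y ∈ centralizer (J : Set G) :=
    s.fix_central P ⟨hP, hPJ⟩ (mem_inf.2 ⟨hyR, centralizer_le (le_sup_left : P ≤ P ⊔ B) hy.2⟩)
  exact hJ.ge.trans (gen_mono (le_centralizer_singleton.2 hyc))

theorem gen_centralizer_ne_top {y : G} (hy : y ∉ center G) :
    gen D (centralizer ({y} : Set G)) ≠ ⊤ := fun e => hy (mem_center_iff.2 fun _ =>
  mem_centralizer_singleton_iff.1 (gen_le _ (e.symm ▸ mem_top _)))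

theorem odd_of_qgroup {N : Subgroup G} (hN : IsPGroup q N) : Odd (Nat.card N) := by
  have := Fact.mk c.qq
  obtain ⟨n, hn⟩ := IsPGroup.iff_card.1 hN
  rw [hn]
  exact (c.qq.odd_of_ne_two c.q2).pow

/-- Fixed points on an invariant line that commute with a member lie in the odd core. -/
theorem mem_ocore_of_line (hFT : FTCons.OddSolvable.{u}) (m : Maxt D t) {P B : Subgroup G}
    (hP : P ∈ fixd D t) (hB : B ∈ D) (hBt : B ∉ fixd D t) {R : Subgroup G}
    (sL : Str q D (P ⊔ B) R) {y : G} (hyR : y ∈ R) (hyP : y ∈ centralizer (P : Set G))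
    (hyt : Commute t y) : y ∈ ocore t := by
  have := Fact.mk c.qq
  have hne : P ≠ B := fun e => hBt (e ▸ hP)
  have hPL : P ∈ memb D (P ⊔ B) := ⟨hP.1, le_sup_left⟩
  by_cases hab : DAb D
  · have : y ∈ R ⊓ centralizer (P : Set G) := mem_inf.2 ⟨hyR, hyP⟩
    rw [sL.fix_bot hab P hPL, mem_bot] at this
    exact this ▸ one_mem _
  by_cases hyc : y ∈ center G
  · refine le_ocore (zpowers_le.2 (mem_centralizer_singleton_iff.2 hyt.eq.symm)) ?_ ?_
      (mem_zpowers y)
    · refine le_trans ?_ (centralizer_le_normalizer _)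
      intro g _
      refine mem_centralizer_iff.2 ?_
      rintro _ ⟨k, rfl⟩
      exact (mem_center_iff.1 (zpow_mem hyc k) g).symm
    · exact c.odd_of_qgroup (sL.pgroup.to_le (zpowers_le.2 hyR))
  set L := P ⊔ B with hL
  have hyzL : y ∈ zc L := mem_inf.2 ⟨sL.le hyR, sL.fix_central P hPL (mem_inf.2 ⟨hyR, hyP⟩)⟩
  set M := gen D (centralizer ({y} : Set G)) with hM
  have hMt := c.gen_centralizer_ne_top hyc
  have hLM : L ≤ M := (gen_pair hP.1 hB).ge.trans (gen_mono (le_centralizer_singleton.2 hyzL.2))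
  have hPM : P ∈ memb D M := ⟨hP.1, le_sup_left.trans hLM⟩
  have hBM : B ∈ memb D M := ⟨hB, le_sup_right.trans hLM⟩
  have huni : ∀ J, gen D J = J → J ≠ ⊤ → P ≤ J → B ≤ J → J ≤ M := fun J hJ hJt h1 h2 =>
    c.le_gen_centralizer hP.1 hB hne hyzL hJ hJt h1 h2
  have hyzM : y ∈ zc M :=
    mem_inf.2 ⟨hLM hyzL.1, le_centralizer_singleton.1 (gen_le _)⟩
  have htM : MulAut.conj t • M = M := by
    rw [hM, conj_gen c.inv, conj_smul_eq_self (le_normalizer (mem_centralizer_singleton_iff.2 hyt.eq))]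
  obtain ⟨RM, sM⟩ := c.small M (gen_gen _) hMt
  have hzM : IsPGroup q (zc M) := sM.pgroup.to_le (sM.zc_le c.toSys hPM hBM hne)
  have htP : t ∈ centralizer (P : Set G) := le_centralizer_singleton.1 hP.2
  obtain ⟨RH, sH⟩ := c.small (Hgen D t) Ctx.gen_Hgen (c.Hgen_ne_top m)
  have hPH : P ∈ memb D (Hgen D t) := ⟨hP.1, Ctx.le_Hgen hP⟩
  -- the part of the centre centralised by `t`
  have hplus : ∀ M₁ : Subgroup G, IsPGroup q (zc M₁) →
      (∀ g ∈ centralizer ({t} : Set G), MulAut.conj g • M₁ = M₁) →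
      zc M₁ ⊓ centralizer ({t} : Set G) ≤ ocore t := fun M₁ hq1 hn => by
    refine le_ocore inf_le_right (fun g hg => Weight.conj_mem_normalizer fun x hx => ?_)
      (c.odd_of_qgroup (hq1.to_le inf_le_left))
    exact mem_inf.2 ⟨zc_smul (hn g hg) hx.1, mul_mem (mul_mem hg hx.2) (inv_mem hg)⟩
  by_cases hcase : ∃ P' ∈ fixd D t, ∃ B' ∈ fixd D t, P' ≠ B' ∧ ∃ y' ∈ zc (P' ⊔ B'), y' ∉ center G
  · obtain ⟨P', hP', B', hB', hne', y', hy', hyc'⟩ := hcase
    set M' := gen D (centralizer ({y'} : Set G)) with hM'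
    have hM't := c.gen_centralizer_ne_top hyc'
    have hle' : ∀ J, gen D J = J → J ≠ ⊤ → P' ≤ J → B' ≤ J → J ≤ M' := fun J hJ hJt h1 h2 =>
      c.le_gen_centralizer hP'.1 hB'.1 hne' hy' hJ hJt h1 h2
    have hHM' : Hgen D t ≤ M' :=
      hle' _ Ctx.gen_Hgen (c.Hgen_ne_top m) (Ctx.le_Hgen hP') (Ctx.le_Hgen hB')
    have hy'M : y' ∈ zc M' := mem_inf.2
      ⟨hHM' (sup_le (Ctx.le_Hgen hP') (Ctx.le_Hgen hB') hy'.1), le_centralizer_singleton.1 (gen_le _)⟩
    have hnM' : ∀ g ∈ centralizer ({t} : Set G), MulAut.conj g • M' = M' := fun g hg => by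
      have hH : Hgen D t ≤ MulAut.conj g • M' :=
        (c.smul_Hgen hg).ge.trans (conj_smul_le hHM')
      refine eq_of_le_of_card_ge (hle' _ (by rw [← conj_gen c.inv, hM', gen_gen])
        (fun e => hM't (eq_top_of_card_eq _ (by rw [← card_smul g M', e, card_top])))
        ((Ctx.le_Hgen hP').trans hH) ((Ctx.le_Hgen hB').trans hH)) (card_smul g M').ge
    obtain ⟨RM', sM'⟩ := c.small M' (gen_gen _) hM't
    have hP'M : P' ∈ memb D M' := ⟨hP'.1, (Ctx.le_Hgen hP').trans hHM'⟩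
    have hB'M : B' ∈ memb D M' := ⟨hB'.1, (Ctx.le_Hgen hB').trans hHM'⟩
    have hzM' : IsPGroup q (zc M') := sM'.pgroup.to_le (sM'.zc_le c.toSys hP'M hB'M hne')
    have hy't : y' ∈ centralizer ({t} : Set G) :=
      gen_le _ (sup_le (Ctx.le_Hgen hP') (Ctx.le_Hgen hB') hy'.1)
    set N' := zc M' ⊓ centralizer ({t} : Set G) with hN'
    set Yp := zc M ⊓ centralizer ({t} : Set G) with hYp
    have hYpn : Yp ≤ normalizer (N' : Set G) := fun g hg =>
      Weight.conj_mem_normalizer fun x hx =>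
        mem_inf.2 ⟨zc_smul (hnM' g hg.2) hx.1, mul_mem (mul_mem hg.2 hx.2) (inv_mem hg.2)⟩
    set S := N' ⊔ Yp with hS
    have hSq : IsPGroup q S :=
      (hzM'.to_le inf_le_left).to_sup_of_normal_left' (hzM.to_le inf_le_left) hYpn
    -- an element fixed by the part of the centre modulo the centre of the group
    obtain ⟨d, hd, hdc, hdw⟩ : ∃ d ∈ N', d ∉ center G ∧ ∀ w ∈ Yp, ⁅d, w⁆ ∈ center G := by
      have := hSq.isNilpotent
      obtain ⟨n, hn⟩ := (isNilpotent_iff_lowerCentralSeries S).1 ‹_›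
      classical
      have hex : ∃ i, N' ⊓ S.lowerCentralSeries i ≤ center G :=
        ⟨n, by rw [hn, inf_bot_eq]; exact bot_le⟩
      rcases hfd : Nat.find hex with - | i
      · have := Nat.find_spec hex
        rw [hfd] at this
        exact absurd (this (mem_inf.2 ⟨mem_inf.2 ⟨hy'M, hy't⟩,
          by simpa using mem_sup_left (T := Yp) (show y' ∈ N' from mem_inf.2 ⟨hy'M, hy't⟩)⟩)) hyc'
      obtain ⟨d, hd, hdc⟩ := SetLike.not_le_iff_exists.1 (Nat.find_min hex (show i < Nat.find hex by omega))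
      refine ⟨d, hd.1, hdc, fun w hw => ?_⟩
      have h1 := Nat.find_spec hex
      rw [hfd] at h1
      refine h1 (mem_inf.2 ⟨?_, ?_⟩)
      · rw [commutatorElement_def, show d * w * d⁻¹ * w⁻¹ = d * (w * d⁻¹ * w⁻¹) by group]
        exact mul_mem hd.1 ((mem_normalizer_iff.1 (hYpn hw) _).1 (inv_mem hd.1))
      · rw [Subgroup.lowerCentralSeries_succ]
        exact commutator_mem_commutator hd.2 (mem_sup_right hw)
    have hdM : MulAut.conj d • M = M := by
      rw [hM, conj_gen c.inv, conj_centralizer_singleton,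
        show d * y * d⁻¹ = ⁅d, y⁆ * y by rw [commutatorElement_def, inv_mul_cancel_right],
        centralizer_mul_center (hdw y (mem_inf.2 ⟨hyzM, mem_centralizer_singleton_iff.2 hyt.eq.symm⟩))]
    obtain ⟨k, hk⟩ := hzM' ⟨d, hd.1⟩
    have hdk : d ^ q ^ k = 1 := by simpa using congrArg Subtype.val hk
    have htrick : M ≤ centralizer ({d} : Set G) := by
      refine sM.le_centralizer_of_trick c.toSys (gen_gen _) hab hPM m.ord htM htP hdk hdM
        (centralizer_le ((Ctx.le_Hgen hP).trans hHM') hd.1.2)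
        (mem_centralizer_singleton_iff.1 hd.2) fun u hu hev a ha => ?_
      have haR : ∀ x ∈ RM, a * x * a⁻¹ ∈ RM := fun x hx =>
        (mem_normalizer_iff.1 (sM.norm (hPM.2 ha)) x).1 hx
      set U := a * u * a⁻¹ with hU
      have hUR := haR u hu
      have he : ⁅u, U⁆ ∈ zc M := sM.commutator_mem_zc c.toSys hab hu hUR
      have hta : t * a * t⁻¹ = a := by
        rw [← mem_centralizer_iff.1 htP a ha, mul_inv_cancel_right]
      have htR : t * u * t⁻¹ ∈ RM := by
        have := conj_mem_smul (g := t) hu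
        rwa [sM.conj_eq c.toSys htM hPM] at this
      have hfixc : ∀ z ∈ RM, z ∈ centralizer (P : Set G) → z ∈ centralizer (M : Set G) :=
        fun z hz hzP => sM.fix_central P hPM (mem_inf.2 ⟨hz, hzP⟩)
      have hte : t * ⁅u, U⁆ * t⁻¹ = ⁅u, U⁆ := by
        rw [Weight.conj_commutator, show t * U * t⁻¹ = a * (t * u * t⁻¹) * a⁻¹ by
          rw [hU]
          calc t * (a * u * a⁻¹) * t⁻¹ = (t * a * t⁻¹) * (t * u * t⁻¹) * (t * a * t⁻¹)⁻¹ := by group
            _ = _ := by rw [hta]]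
        rcases hev with hev | hev
        · set z := t * u * t⁻¹ * u⁻¹ with hz
          have hzR : z ∈ RM := mul_mem htR (inv_mem hu)
          have hzc := hfixc z hzR hev
          have hza : a * z * a⁻¹ = z := by
            rw [mem_centralizer_iff.1 hzc a (hPM.2 ha), mul_inv_cancel_right]
          rw [show t * u * t⁻¹ = z * u by rw [hz, inv_mul_cancel_right],
            show a * (z * u) * a⁻¹ = (a * z * a⁻¹) * U by rw [hU]; group, hza]
          exact sM.commutator_central_mul c.toSys (sM.le hu) (sM.le hUR) (sM.le hzR) hzc (sM.le hzR) hzc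
        · set z := t * u * t⁻¹ * u with hz
          have hzR : z ∈ RM := mul_mem htR hu
          have hzc := hfixc z hzR hev
          have hza : a * z * a⁻¹ = z := by
            rw [mem_centralizer_iff.1 hzc a (hPM.2 ha), mul_inv_cancel_right]
          rw [show t * u * t⁻¹ = z * u⁻¹ by rw [hz, mul_inv_cancel_right],
            show a * (z * u⁻¹) * a⁻¹ = (a * z * a⁻¹) * U⁻¹ by rw [hU]; group, hza,
            sM.commutator_central_mul c.toSys (inv_mem (sM.le hu)) (inv_mem (sM.le hUR)) (sM.le hzR)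
              hzc (sM.le hzR) hzc]
          exact commutator_inv_inv
            (mem_centralizer_iff.1 he.2 _ (mul_mem (sM.le hUR) (sM.le hu)))
      have heYp : ⁅u, U⁆ ∈ Yp := mem_inf.2 ⟨he, mem_centralizer_singleton_iff.2 (by
        conv_lhs => rw [← hte]
        rw [inv_mul_cancel_right])⟩
      exact mem_center_iff.1 (hdw _ heYp) d
    have hJd : gen D (centralizer ({d} : Set G)) ≤ M' := by
      have hM'd : M' ≤ gen D (centralizer ({d} : Set G)) :=
        (gen_gen _).ge.trans (gen_mono (le_centralizer_singleton.2 hd.1.2))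
      exact hle' _ (gen_gen _) (c.gen_centralizer_ne_top hdc) (hP'M.2.trans hM'd) (hB'M.2.trans hM'd)
    have hMM' : M ≤ M' := ((gen_gen _).ge.trans (gen_mono htrick)).trans hJd
    have heq : M = M' :=
      le_antisymm hMM' (huni M' (gen_gen _) hM't (hPM.2.trans hMM') (hBM.2.trans hMM'))
    refine hplus M' hzM' hnM' (mem_inf.2 ⟨heq ▸ hyzM, mem_centralizer_singleton_iff.2 hyt.eq.symm⟩)
  push Not at hcase
  obtain ⟨k, hk⟩ := hzM ⟨y, hyzM⟩
  have hyk : y ^ q ^ k = 1 := by simpa using congrArg Subtype.val hk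
  have hyCt : y ∈ centralizer ({t} : Set G) := mem_centralizer_singleton_iff.2 hyt.eq.symm
  have hHy : Hgen D t ≤ centralizer ({y} : Set G) := by
    refine sH.le_centralizer_of_trick c.toSys Ctx.gen_Hgen hab hPH m.ord
      (c.smul_Hgen (mem_centralizer_singleton_iff.2 rfl)) htP hyk (c.smul_Hgen hyCt) hyP hyt.symm
      fun u hu _ a ha => ?_
    suffices he : ⁅u, a * u * a⁻¹⁆ ∈ center G by
      rw [show ⁅y, ⁅u, a * u * a⁻¹⁆⁆ = 1 from
        commutatorElement_eq_one_iff_mul_comm.2 (mem_center_iff.1 he y)]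
      exact Commute.one_right y
    by_cases huP : u ∈ centralizer (P : Set G)
    · rw [mem_centralizer_iff.1 huP a ha, mul_inv_cancel_right, commutatorElement_self]
      exact one_mem _
    have hne2 : MulAut.conj u • P ≠ P := sH.smul_ne c.toSys hPH hu huP
    have huH : MulAut.conj u • P ∈ memb D (Hgen D t) :=
      ⟨c.inv P hP.1 u, conj_smul_le_self (sH.le hu) hPH.2⟩
    have hL2 : P ⊔ MulAut.conj u • P ≤ Hgen D t := sup_le hPH.2 huH.2
    obtain ⟨-, R2, s2⟩ := c.line_str m.ord hP.1 huH.1 hne2.symm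
    have hP2 : P ∈ memb D (P ⊔ MulAut.conj u • P) := ⟨hP.1, le_sup_left⟩
    obtain ⟨w, hw, hwu⟩ := s2.exists_smul c.toSys hP2 ⟨huH.1, le_sup_right⟩
    have hwH : w ∈ RH := sH.le_of_qgroup c.toSys hPH (s2.le.trans hL2) s2.pgroup hw
    set z := w⁻¹ * u with hz
    have hzR : z ∈ RH := mul_mem (inv_mem hwH) hu
    have hzP : z ∈ centralizer (P : Set G) := by
      by_contra h0
      refine sH.smul_ne c.toSys hPH hzR h0 ?_
      rw [hz, map_mul, mul_smul, map_inv, inv_smul_eq_iff]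
      exact hwu.symm
    have hzc : z ∈ centralizer (Hgen D t : Set G) := sH.fix_central P hPH (mem_inf.2 ⟨hzR, hzP⟩)
    have hu' : u = z * w := by
      rw [← mem_centralizer_iff.1 hzc w (sH.le hwH), hz, mul_inv_cancel_left]
    have hza : a * z * a⁻¹ = z := by
      rw [mem_centralizer_iff.1 hzc a (hPH.2 ha), mul_inv_cancel_right]
    have haw : a * w * a⁻¹ ∈ R2 := (mem_normalizer_iff.1 (s2.norm (hP2.2 ha)) w).1 hw
    rw [hu', show a * (z * w) * a⁻¹ = (a * z * a⁻¹) * (a * w * a⁻¹) by group, hza,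
      sH.commutator_central_mul c.toSys (sH.le hwH) (hL2 (s2.le haw)) (sH.le hzR) hzc (sH.le hzR) hzc]
    exact hcase P hP _ (show MulAut.conj u • P ∈ fixd D t by rw [← Ctx.memb_Hgen]; exact huH)
      hne2.symm _ (s2.commutator_mem_zc c.toSys hab hw haw)
  have T : Top D t M := ⟨gen_gen _, hMt, fun A hA => le_gen hA.1 ((Ctx.le_Hgen hA).trans hHy),
    P, hP, B, hBM, hBt, huni⟩
  have hnM : ∀ g ∈ centralizer ({t} : Set G), MulAut.conj g • M = M := fun g hg => by
    have T' := T.smul c (c.smul_Hgen hg)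
    have h1 : g * y * g⁻¹ ∈ zc (MulAut.conj g • M) := by
      refine mem_inf.2 ⟨conj_mem_smul hyzM.1, mem_centralizer_iff.2 fun x hx => ?_⟩
      have := mem_centralizer_iff.1 hyzM.2 _ (Coprime.mem_conj_smul.1 hx)
      calc x * (g * y * g⁻¹) = g * (g⁻¹ * x * g * y) * g⁻¹ := by group
        _ = g * (y * (g⁻¹ * x * g)) * g⁻¹ := by rw [this]
        _ = _ := by group
    refine (T.eq_of_fixed_center hFT c m hab hyzM hyt hyc T' h1 ?_ ?_).symm
    · exact ((mem_centralizer_singleton_iff.1 (mul_mem (mul_mem hg hyCt) (inv_mem hg))).symm)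
    · intro h2
      apply hyc
      have := (inferInstance : (center G).Normal).conj_mem _ h2 g⁻¹
      rwa [show g⁻¹ * (g * y * g⁻¹) * g⁻¹⁻¹ = y by group] at this
  exact hplus M hzM hnM (mem_inf.2 ⟨hyzM, hyCt⟩)

end Ctx

end Cfsg.Agent.PairOdd
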