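import Cfsg.Agent.PairOdd.Basic

/-!
# Lines of a `Sys` family; passage to subgroups and to images

Transitivity, parity, `Sys.comap` (injective maps) and `Sys.image` (maps injective on lines).
-/

set_option autoImplicit false
set_option linter.unusedSectionVars false
set_option linter.deprecated false

namespace Cfsg.Agent.PairOdd

open Subgroup
open scoped Pointwise commutatorElement

universe u

variable {G : Type u} [Group G] {p q : ℕ} {D : Set (Subgroup G)}

theorem card_map_of_injective {H : Type u} [Group H] {f : H →* G} (hf : Function.Injective f)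
    (K : Subgroup H) : Nat.card (K.map f) = Nat.card K :=
  (Nat.card_congr (equivMapOfInjective K f hf).toEquiv).symm

theorem map_smul_conj {H : Type u} [Group H] (f : H →* G) (g : H) (K : Subgroup H) :
    (MulAut.conj g • K).map f = MulAut.conj (f g) • K.map f := by
  simp only [Coprime.conj_smul_eq_map, map_map]
  congr 1
  ext x
  simp

theorem Ab.map {H : Type u} [Group H] {f : H →* G} {F : Subgroup H} (hF : Ab F) : Ab (F.map f) := by
  intro x hx y hy
  rw [← map_commutator] at hx hy
  obtain ⟨x0, hx0, rfl⟩ := hx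
  obtain ⟨y0, hy0, rfl⟩ := hy
  rw [← map_mul, ← map_mul, hF x0 hx0 y0 hy0]

theorem Ab.of_map {H : Type u} [Group H] {f : H →* G} {F : Subgroup H}
    (hf : ∀ x ∈ F, f x = 1 → x = 1) (hF : Ab (F.map f)) : Ab F := by
  intro x hx y hy
  have h1 := hF (f x) (by rw [← map_commutator]; exact mem_map_of_mem f hx) (f y)
    (by rw [← map_commutator]; exact mem_map_of_mem f hy)
  have hx' := commutator_le_self F hx
  have hy' := commutator_le_self F hy
  have h2 : f ((x * y) * (y * x)⁻¹) = 1 := by
    rw [map_mul f (x * y), map_inv, map_mul, map_mul, h1, mul_inv_cancel]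
  exact mul_inv_eq_one.1 (hf _ (mul_mem (mul_mem hx' hy') (inv_mem (mul_mem hy' hx'))) h2)

namespace Sys

variable (h : Sys p q D)
include h

theorem odd_line {A B : Subgroup G} (hA : A ∈ D) (hB : B ∈ D) (hne : A ≠ B) :
    Odd (Nat.card (A ⊔ B : Subgroup G)) := h.odd A hA B hB hne

variable [Finite G]

theorem factorization_line {A B : Subgroup G} (hA : A ∈ D) (hB : B ∈ D) (hne : A ≠ B) :
    (Nat.card (A ⊔ B : Subgroup G)).factorization p = 1 := by
  obtain ⟨e, -, he⟩ := h.line A hA B hB hne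
  rw [he, Nat.factorization_mul h.pp.ne_zero (pow_ne_zero _ h.qq.ne_zero), Finsupp.add_apply,
    h.pp.factorization_self, Nat.factorization_pow, Finsupp.smul_apply]
  have : q.factorization p = 0 := by
    rw [h.qq.factorization, Finsupp.single_apply, if_neg h.qp]
  rw [this]
  simp

/-- Two members of a line are conjugate inside it. -/
theorem conj_line {A B : Subgroup G} (hA : A ∈ D) (hB : B ∈ D) (hne : A ≠ B) :
    ∃ g ∈ A ⊔ B, MulAut.conj g • A = B := by
  have := Fact.mk h.pp
  set F := A ⊔ B with hF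
  have hc : ∀ C : Subgroup G, C ∈ D → C ≤ F →
      Nat.card (C.subgroupOf F) = p ^ (Nat.card F).factorization p := fun C hC hCF => by
    rw [h.factorization_line hA hB hne, pow_one,
      Nat.card_congr (subgroupOfEquivOfLe hCF).toEquiv, h.card C hC]
  let PA : Sylow p F := Sylow.ofCard _ (hc A hA le_sup_left)
  let PB : Sylow p F := Sylow.ofCard _ (hc B hB le_sup_right)
  obtain ⟨g, hg⟩ := MulAction.exists_smul_eq F PA PB
  refine ⟨g, g.2, ?_⟩
  have h1 := congrArg (fun P : Sylow p F => (P : Subgroup F).map F.subtype) hg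
  simp only [PA, PB, Sylow.coe_subgroup_smul, map_smul_conj, Sylow.coe_ofCard,
    map_subgroupOf_eq_of_le (show A ≤ F from le_sup_left),
    map_subgroupOf_eq_of_le (show B ≤ F from le_sup_right)] at h1
  exact h1

theorem conj_all {A B : Subgroup G} (hA : A ∈ D) (hB : B ∈ D) :
    ∃ g : G, MulAut.conj g • A = B := by
  by_cases e : A = B
  · exact ⟨1, by rw [map_one, one_smul, e]⟩
  · obtain ⟨g, -, hg⟩ := h.conj_line hA hB e
    exact ⟨g, hg⟩

/-- A line has an odd number of members. -/
theorem odd_memb_line {A B : Subgroup G} (hA : A ∈ D) (hB : B ∈ D) (hne : A ≠ B) :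
    Odd (memb D (A ⊔ B)).ncard := by
  set F := A ⊔ B with hF
  let f : F → memb D F := fun g => ⟨MulAut.conj (g : G) • A, h.inv A hA _,
    conj_smul_le_self g.2 le_sup_left⟩
  set S := (normalizer (A : Set G)).subgroupOf F with hS
  have hfeq : ∀ x y : F, f x = f y ↔ x⁻¹ * y ∈ S := fun x y => by
    rw [Subtype.ext_iff]
    show MulAut.conj (x : G) • A = MulAut.conj (y : G) • A ↔ _
    rw [hS, mem_subgroupOf]
    constructor
    · intro e
      refine mem_normalizer_of_smul ?_
      push_cast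
      rw [map_mul, mul_smul, ← e, map_inv, inv_smul_smul]
    · intro e
      have h1 := conj_smul_eq_self e
      push_cast at h1
      rw [map_mul, mul_smul, map_inv, inv_smul_eq_iff] at h1
      exact h1.symm
  let φ : F ⧸ S → memb D F := Quotient.lift f fun x y hxy =>
    (hfeq x y).2 (QuotientGroup.leftRel_apply.1 hxy)
  have hbij : Function.Bijective φ := by
    refine ⟨fun x y => ?_, fun C => ?_⟩
    · induction x using QuotientGroup.induction_on with
      | H x =>
        induction y using QuotientGroup.induction_on with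
        | H y => exact fun e => QuotientGroup.eq.2 ((hfeq x y).1 e)
    · obtain ⟨C, hC, hCF⟩ := C
      by_cases e : A = C
      · exact ⟨QuotientGroup.mk 1, Subtype.ext (by
          show MulAut.conj ((1 : F) : G) • A = C
          rw [OneMemClass.coe_one, map_one, one_smul, e])⟩
      · obtain ⟨g, hg, hgC⟩ := h.conj_line hA hC e
        rw [h.toPre.sup_eq hA hB hA hC hne e le_sup_left hCF] at hg
        exact ⟨QuotientGroup.mk ⟨g, hg⟩, Subtype.ext hgC⟩
  rw [← Nat.card_coe_set_eq, ← Nat.card_congr (Equiv.ofBijective φ hbij)]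
  exact (h.odd_line hA hB hne).of_dvd_nat S.card_quotient_dvd_card

theorem mem_memb_line {A B C : Subgroup G} (hA : A ∈ D) (hB : B ∈ D) (hC : C ∈ D) (hAB : A ≠ B)
    (hAC : A ≠ C) (hCF : C ≤ A ⊔ B) : A ⊔ C = A ⊔ B :=
  h.toPre.sup_eq hA hB hA hC hAB hAC le_sup_left hCF

/-- The number of members is odd. -/
theorem odd_ncard (hne : D.Nonempty) : Odd D.ncard := by
  classical
  obtain ⟨A, hA⟩ := hne
  have hfin : D.Finite := Set.toFinite D
  set S := hfin.toFinset.erase A with hS
  have hcard : D.ncard = S.card + 1 := by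
    rw [Set.ncard_eq_toFinset_card D hfin, hS, Finset.card_erase_add_one (hfin.mem_toFinset.2 hA)]
  rw [hcard]
  refine Even.add_one ?_
  rw [Finset.card_eq_sum_card_image (fun C => A ⊔ C) S]
  refine Finset.even_sum _ fun F hF => ?_
  obtain ⟨B, hB, rfl⟩ := Finset.mem_image.1 hF
  rw [hS, Finset.mem_erase, hfin.mem_toFinset] at hB
  have hfib : S.filter (fun C => A ⊔ C = A ⊔ B) =
      (Set.toFinite (memb D (A ⊔ B))).toFinset.erase A := by
    ext C
    simp only [hS, Finset.mem_filter, Finset.mem_erase, hfin.mem_toFinset, Set.Finite.mem_toFinset,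
      memb, Set.mem_setOf_eq]
    constructor
    · rintro ⟨⟨h1, h2⟩, h3⟩
      exact ⟨h1, h2, h3 ▸ le_sup_right⟩
    · rintro ⟨h1, h2, h3⟩
      exact ⟨⟨h1, h2⟩, h.mem_memb_line hA hB.2 h2 (Ne.symm hB.1) (Ne.symm h1) h3⟩
  rw [hfib, Finset.card_erase_of_mem ((Set.toFinite _).mem_toFinset.2 (show A ∈ memb D (A ⊔ B) from ⟨hA, le_sup_left⟩)),
    ← Set.ncard_eq_toFinset_card]
  exact Nat.Odd.sub_odd (h.odd_memb_line hA hB.2 (Ne.symm hB.1)) odd_one

omit [Finite G] in
/-- The family seen in a group mapped injectively. -/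
theorem comap {H : Type u} [Group H] {f : H →* G} (hf : Function.Injective f) :
    Sys p q {A : Subgroup H | A.map f ∈ D} where
  pp := h.pp
  p2 := h.p2
  qq := h.qq
  qp := h.qp
  q2 := h.q2
  card A hA := by rw [← card_map_of_injective hf]; exact h.card _ hA
  inv A hA g := by
    show (MulAut.conj g • A).map f ∈ D
    rw [map_smul_conj]
    exact h.inv _ hA _
  nc A hA B hB hne hc := h.nc _ hA _ hB (fun e => hne (map_injective hf e)) (by
    rintro _ ⟨b, hb, rfl⟩
    refine mem_centralizer_iff.2 ?_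
    rintro _ ⟨a, ha, rfl⟩
    rw [← map_mul, ← map_mul, mem_centralizer_iff.1 (hc hb) a ha])
  odd A hA B hB hne := by
    rw [← card_map_of_injective hf, Subgroup.map_sup]
    exact h.odd _ hA _ hB (fun e => hne (map_injective hf e))
  same A hA B hB C hC E hE hne hne' := by
    rw [← card_map_of_injective hf, ← card_map_of_injective hf (C ⊔ E), Subgroup.map_sup,
      Subgroup.map_sup]
    exact h.same _ hA _ hB _ hC _ hE (fun e => hne (map_injective hf e))
      (fun e => hne' (map_injective hf e))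
  line A hA B hB hne := by
    rw [← card_map_of_injective hf, Subgroup.map_sup]
    exact h.line _ hA _ hB (fun e => hne (map_injective hf e))
  ab A hA B hB C hC E hE hne hne' hab := by
    refine Ab.of_map (f := f) (fun x _ hx => hf (hx.trans (map_one f).symm)) ?_
    have := hab.map (f := f)
    rw [Subgroup.map_sup] at this ⊢
    exact h.ab _ hA _ hB _ hC _ hE (fun e => hne (map_injective hf e))
      (fun e => hne' (map_injective hf e)) this

/-- The image family under a map injective on every line. -/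
theorem image {H : Type u} [Group H] [Finite H] {f : G →* H} (hf : Function.Surjective f)
    (hinj : ∀ A ∈ D, ∀ B ∈ D, ∀ x ∈ A ⊔ B, f x = 1 → x = 1) :
    Sys p q ((fun A : Subgroup G => A.map f) '' D) := by
  have hcard : ∀ A ∈ D, ∀ B ∈ D, Nat.card ((A ⊔ B).map f) = Nat.card (A ⊔ B : Subgroup G) := by
    intro A hA B hB
    refine (Nat.card_congr (Equiv.ofBijective
      (fun x : (A ⊔ B : Subgroup G) => (⟨f x, mem_map_of_mem f x.2⟩ : (A ⊔ B).map f))
      ⟨fun x y e => ?_, fun z => ?_⟩)).symm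
    · have h1 : f ((x : G) * (y : G)⁻¹) = 1 := by
        rw [map_mul, map_inv, show f x = f y from congrArg Subtype.val e, mul_inv_cancel]
      exact Subtype.ext (mul_inv_eq_one.1 (hinj A hA B hB _ (mul_mem x.2 (inv_mem y.2)) h1))
    · obtain ⟨x, hx, e⟩ := z.2
      exact ⟨⟨x, hx⟩, Subtype.ext e⟩
  have hne' : ∀ A B : Subgroup G, A.map f ≠ B.map f → A ≠ B := fun A B h0 e => h0 (by rw [e])
  refine { toPre := ⟨h.pp, h.p2, ?_, ?_, ?_, ?_, ?_⟩, qq := h.qq, qp := h.qp, q2 := h.q2,
           line := ?_, ab := ?_ }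
  · rintro _ ⟨A, hA, rfl⟩
    have := hcard A hA A hA
    rw [sup_idem] at this
    rw [this]
    exact h.card A hA
  · rintro _ ⟨A, hA, rfl⟩ g
    obtain ⟨g, rfl⟩ := hf g
    exact ⟨_, h.inv A hA g, map_smul_conj f g A⟩
  · rintro _ ⟨A, hA, rfl⟩ _ ⟨B, hB, rfl⟩ hne hc
    refine h.nc A hA B hB (hne' _ _ hne) fun b hb => mem_centralizer_iff.2 fun a ha => ?_
    have e := mem_centralizer_iff.1 (hc (mem_map_of_mem f hb)) _ (mem_map_of_mem f ha)
    rw [← map_mul, ← map_mul] at e
    refine mul_inv_eq_one.1 (hinj A hA B hB _ (mul_mem (mul_mem (mem_sup_left ha) (mem_sup_right hb))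
      (inv_mem (mul_mem (mem_sup_right hb) (mem_sup_left ha)))) ?_)
    rw [map_mul, map_inv, e, mul_inv_cancel]
  · rintro _ ⟨A, hA, rfl⟩ _ ⟨B, hB, rfl⟩ hne
    rw [← Subgroup.map_sup, hcard A hA B hB]
    exact h.odd A hA B hB (hne' _ _ hne)
  · rintro _ ⟨A, hA, rfl⟩ _ ⟨B, hB, rfl⟩ _ ⟨C, hC, rfl⟩ _ ⟨E, hE, rfl⟩ hne hne2
    rw [← Subgroup.map_sup, ← Subgroup.map_sup, hcard A hA B hB, hcard C hC E hE]
    exact h.same A hA B hB C hC E hE (hne' _ _ hne) (hne' _ _ hne2)
  · rintro _ ⟨A, hA, rfl⟩ _ ⟨B, hB, rfl⟩ hne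
    rw [← Subgroup.map_sup, hcard A hA B hB]
    exact h.line A hA B hB (hne' _ _ hne)
  · rintro _ ⟨A, hA, rfl⟩ _ ⟨B, hB, rfl⟩ _ ⟨C, hC, rfl⟩ _ ⟨E, hE, rfl⟩ hne hne2 hab
    rw [← Subgroup.map_sup] at hab ⊢
    exact (h.ab A hA B hB C hC E hE (hne' _ _ hne) (hne' _ _ hne2)
      (Ab.of_map (hinj A hA B hB) hab)).map

end Sys

end Cfsg.Agent.PairOdd
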