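import Cfsg.Agent.PairOdd.Key
import Cfsg.Agent.CharArith.Basic
import Cfsg.Agent.Invol.BSBig
import Cfsg.Agent.Invol.Section942
import Cfsg.Agent.BlockChar.Support
import Cfsg.Agent.Char.Linear

/-!
# A group generated by such a family has odd order

The principal `2`-block shows that otherwise a member lies in the kernel of a nontrivial character.
-/

set_option autoImplicit false
set_option linter.unusedSectionVars false

namespace Cfsg.Agent.PairOdd

open Subgroup
open scoped Pointwise commutatorElement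

universe u

variable {G : Type u} [Group G] [Finite G] {p q : ℕ} {D : Set (Subgroup G)}

/-- Members lie in a normal subgroup of `2`-power index. -/
theorem normal_two_index_eq_top (h : Sys p q D) (hgen : sSup D = ⊤) {K : Subgroup G} [K.Normal]
    {k : ℕ} (hK : K.index = 2 ^ k) : K = ⊤ := by
  rw [eq_top_iff, ← hgen]
  refine sSup_le fun A hA => ?_
  rw [← QuotientGroup.ker_mk' K, ← Subgroup.map_eq_bot_iff, ← card_eq_one]
  refine Nat.eq_one_of_dvd_coprimes (a := 2 ^ k) (b := p) ?_ ?_ ?_
  · exact ((Nat.coprime_primes Nat.prime_two h.pp).2 h.p2.symm).pow_left k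
  · rw [← hK, index_eq_card]
    exact card_subgroup_dvd_card _
  · rw [← h.card A hA]
    exact card_map_dvd A _

/-- The cyclic automorphism group of a member embeds the elements normalising it. -/
theorem isCyclic_of_normalizes (h : Sys p q D) {A S : Subgroup G} (hA : A ∈ D)
    (hS : S ≤ normalizer (A : Set G)) (hfree : ∀ x ∈ S, x ∈ centralizer (A : Set G) → x = 1) :
    IsCyclic S := by
  have := Fact.mk h.pp
  have := h.toPre.isCyclic hA
  let f : S →* MulAut A := (normalizerMonoidHom A).comp (Subgroup.inclusion hS)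
  have hf : Function.Injective f := (injective_iff_map_eq_one f).2 fun x hx => by
    have h1 : Subgroup.inclusion hS x ∈ (normalizerMonoidHom A).ker := hx
    rw [normalizerMonoidHom_ker] at h1
    exact Subtype.ext (hfree x x.2 (mem_subgroupOf.1 h1))
  have hcy : IsCyclic (MulAut A) := by
    have e : MulAut A ≃* (ZMod (Nat.card A))ˣ := IsCyclic.mulAutMulEquiv A
    rw [h.card A hA] at e
    exact isCyclic_of_surjective e.symm.toMonoidHom e.symm.surjective
  exact isCyclic_of_injective f hf

/-- The centre has odd order if proper quotients do. -/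
theorem center_odd_of_quotient (h : Sys p q D) (hgen : sSup D = ⊤) {A : Subgroup G} (hA : A ∈ D)
    (hq : ∀ z ∈ center G, orderOf z = 2 → ∀ [(zpowers z).Normal],
      Odd (Nat.card (G ⧸ zpowers z))) : Odd (Nat.card (center G)) := by
  have := Fact.mk Nat.prime_two
  by_contra hev
  obtain ⟨z', hz'⟩ := exists_prime_orderOf_dvd_card' (G := center G) 2
    (Nat.not_odd_iff_even.1 hev).two_dvd
  obtain ⟨z, hz⟩ := z'
  have hzo : orderOf z = 2 := by rwa [← Subgroup.orderOf_mk z hz]
  have hn : (zpowers z).Normal := Subgroup.Normal.mk fun x hx g => by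
    rw [mem_center_iff.1 (zpowers_le.2 hz hx) g, mul_inv_cancel_right]
    exact hx
  have hodd := hq z hz hzo
  have hcard : Nat.card (zpowers z) = 2 := by rw [Nat.card_zpowers, hzo]
  obtain ⟨H, hH⟩ := Subgroup.exists_right_complement'_of_coprime (N := zpowers z) (by
    rw [hcard, index_eq_card]; exact hodd.coprime_two_left)
  have hidx : H.index = 2 := by rw [hH.index_eq_card, hcard]
  have := normal_of_index_eq_two hidx
  have htop := normal_two_index_eq_top h hgen (K := H) (k := 1) (by rw [hidx, pow_one])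
  rw [htop, index_top] at hidx
  exact absurd hidx (by norm_num)

namespace Ctx

variable {t : G} (c : Ctx p q D)
include c

/-- The product of `t` with a conjugate of a member's element has the character value of `t`. -/
theorem char_mul_eq [Fintype G] (hFT : FTCons.OddSolvable.{u}) (m : Maxt D t) {M : Ideal Cfsg.AlgInt}
    (hM : Cfsg.IsPModular 2 M) {χ : Cfsg.IrrCharacter G} (hχ : χ ∈ Cfsg.principalBlock M G)
    {B : Subgroup G} (hB : B ∈ D) {b : G} (hb : b ∈ B) :
    (χ : G → ℂ) (t * b) = (χ : G → ℂ) t := by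
  have := Fact.mk Nat.prime_two
  have hcore : ∀ s ∈ ocore t, (χ : G → ℂ) (t * s) = (χ : G → ℂ) t := by
    rintro _ ⟨v, hv, rfl⟩
    exact Invol.section_constant hM (u := t) ⟨1, by rw [m.ord, pow_one]⟩
      (Cfsg.oddCore (centralizer ({t} : Set G))) Core.not_dvd_card_pPrimeCore hχ hv
  have hH : Hgen D t ≤ ocore t := le_ocore (gen_le _)
    (fun g hg => mem_normalizer_of_smul (c.smul_Hgen hg))
    (c.odd_of_proper Ctx.gen_Hgen (c.Hgen_ne_top m))
  by_cases hBt : B ∈ fixd D t
  · exact hcore b (hH (Ctx.le_Hgen hBt hb))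
  obtain ⟨-, P, hP, -, -, hLt⟩ := c.exists_fixed_on_line m.ord m.nonempty hB hBt
  have hPB : P ≠ B := fun e => hBt (e ▸ hP)
  obtain ⟨-, R, s⟩ := c.line_str m.ord hP.1 hB hPB
  set L := P ⊔ B with hL
  have hLodd : Odd (Nat.card L) := c.odd P hP.1 B hB hPB
  have htL : zpowers t ≤ normalizer (L : Set G) := zpowers_le.2 (mem_normalizer_of_smul hLt)
  have htt : t * t = 1 := by rw [← pow_two, ← m.ord, pow_orderOf_eq_one]
  have hti : t⁻¹ = t := inv_eq_of_mul_eq_one_right htt
  have hbL : b ∈ L := mem_sup_right hb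
  set x := t * b with hx
  have hxx : x * x ∈ L := by
    rw [hx, show t * b * (t * b) = t * b * t * b by group]
    refine mul_mem ?_ hbL
    have := (mem_normalizer_iff.1 (htL (mem_zpowers t)) b).1 hbL
    rwa [hti] at this
  obtain ⟨j, hj⟩ := hLodd
  set w := x ^ Nat.card L with hw
  have hw2 : w * w = 1 := by
    rw [hw, ← pow_add, ← two_mul, pow_mul, pow_two]
    exact orderOf_dvd_iff_pow_eq_one.1 (orderOf_dvd_natCard L hxx)
  have hwl : t * w ∈ L := by
    rw [hw, hj, pow_succ', pow_mul, pow_two, hx, ← mul_assoc, ← mul_assoc, htt, one_mul]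
    exact mul_mem hbL (pow_mem hxx j)
  have hLodd' : Odd (Nat.card L) := ⟨j, hj⟩
  have hw1 : w ≠ 1 := fun e => by
    rw [e, mul_one] at hwl
    exact hLodd'.not_two_dvd_nat (m.ord ▸ orderOf_dvd_natCard L hwl)
  have hwo : orderOf w = 2 := orderOf_eq_prime (by rw [pow_two]; exact hw2) hw1
  obtain ⟨d, hd, hdt⟩ := Invol.exists_conj_of_odd m.ord hwo
    (hLodd'.of_dvd_nat (orderOf_dvd_natCard L hwl))
  have htW : t ∈ L ⊔ zpowers t := mem_sup_right (mem_zpowers t)
  have hclW : closure ({t, w} : Set G) ≤ L ⊔ zpowers t := by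
    rw [closure_le]
    rintro z (rfl | rfl)
    · exact htW
    · rw [show w = t⁻¹ * (t * w) by group]
      exact mul_mem (inv_mem htW) (mem_sup_left hwl)
  set σ := t⁻¹ * (d⁻¹ * x * d) with hσ
  have hσL : σ ∈ L := by
    have hder : ⁅d⁻¹, x⁆ ∈ L := commutator_sup_le htL inferInstance
      (commutator_mem_commutator (inv_mem (hclW hd)) (mul_mem htW (mem_sup_left hbL)))
    rw [hσ, show t⁻¹ * (d⁻¹ * x * d) = t⁻¹ * ⁅d⁻¹, x⁆ * t * b by
      rw [hx, commutatorElement_def]; group]
    refine mul_mem ?_ hbL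
    have := (mem_normalizer_iff.1 (inv_mem (htL (mem_zpowers t))) _).1 hder
    rwa [inv_inv] at this
  have htσ : Commute t σ := by
    have h1 : Commute t (d⁻¹ * x * d) := by
      have hwx : w * x = x * w := ((Commute.refl x).pow_left _).eq
      show t * (d⁻¹ * x * d) = d⁻¹ * x * d * t
      calc t * (d⁻¹ * x * d) = d⁻¹ * (d * t * d⁻¹ * x) * d := by group
        _ = d⁻¹ * (x * (d * t * d⁻¹)) * d := by rw [hdt, hwx]
        _ = _ := by group
    exact (Commute.inv_right (Commute.refl t)).mul_right h1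
  have hσcore : σ ∈ ocore t := by
    have hPL : P ∈ memb D L := ⟨hP.1, le_sup_left⟩
    have hsL : σ ∈ R ⊔ P := by rw [s.sup P hPL]; exact hσL
    obtain ⟨r, hr, a, ha, e⟩ := (Coprime.mem_sup_of_le_normalizer (hPL.2.trans s.norm)).1 hsL
    have hta : Commute t a := (mem_centralizer_singleton_iff.1 (hP.2 ha)).symm
    have htr : Commute t r := by
      rw [show r = σ * a⁻¹ by rw [← e, mul_inv_cancel_right]]
      exact htσ.mul_right hta.inv_right
    have hrP : r ∈ centralizer (P : Set G) := by
      by_contra h0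
      refine hBt ⟨hB, ?_⟩
      have hne2 := s.smul_ne c.toSys hPL hr h0
      have hP2 : MulAut.conj r • P ≤ centralizer ({t} : Set G) :=
        conj_smul_le_self (mem_centralizer_singleton_iff.2 htr.eq.symm) hP.2
      have e2 := c.toSys.mem_memb_line hP.1 hB (c.inv P hP.1 r) hPB hne2.symm
        (conj_smul_le_self (s.le hr) hPL.2)
      exact (le_sup_right.trans e2.ge).trans (sup_le hP.2 hP2)
    rw [← e]
    exact mul_mem (c.mem_ocore_of_line hFT m hP hB hBt s hr hrP htr) (hH (Ctx.le_Hgen hP ha))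
  have hcls : (χ : G → ℂ) (d⁻¹ * x * d) = (χ : G → ℂ) x :=
    Char.classFun_isConj (Char.isClassFunction_of_isIrr χ.2) (isConj_iff.2 ⟨d, by group⟩)
  rw [← hcls, show d⁻¹ * x * d = t * σ by rw [hσ, mul_inv_cancel_left]]
  exact hcore σ hσcore

/-- No involution centralises a member. -/
theorem false_of_maxt (hFT : FTCons.OddSolvable.{u}) (m : Maxt D t) : False := by
  classical
  have := Fintype.ofFinite G
  obtain ⟨M, hM⟩ := Blocks.exists_isPModular 2 Nat.prime_two
  have hB := Blocks.isPBlock_principalBlock (G := G) M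
  obtain ⟨P, hP⟩ := m.nonempty
  have := c.toPre.isCyclic hP.1
  obtain ⟨a, ha⟩ := (Subgroup.isCyclic_iff_exists_zpowers_eq_top P).1 this
  have hkey : ∀ χ : Cfsg.IrrCharacter G, χ ∈ Cfsg.principalBlock M G →
      (χ : G → ℂ) ≠ (fun _ => 1) → (χ : G → ℂ) t = 0 := by
    intro χ hχ hnt
    have hG : (Nat.card G : ℂ) ≠ 0 := Char.card_ne_zero
    have hsum : ∀ g : G, (χ : G → ℂ) (g * a * g⁻¹ * t) = (χ : G → ℂ) t := by
      intro g
      have h1 := c.char_mul_eq hFT m hM hχ (c.inv P hP.1 g)
        (conj_mem_smul (g := g) (ha ▸ mem_zpowers a : a ∈ P))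
      rw [← h1]
      exact Char.classFun_isConj (Char.isClassFunction_of_isIrr χ.2)
        (isConj_iff.2 ⟨t, by group⟩)
    have e1 := CharArith.classMult χ.2 a t
    simp only [hsum, Finset.sum_const, Finset.card_univ, nsmul_eq_mul,
      ← Nat.card_eq_fintype_card] at e1
    have f1 : (χ : G → ℂ) 1 * (χ : G → ℂ) t = (χ : G → ℂ) a * (χ : G → ℂ) t :=
      mul_left_cancel₀ hG (by linear_combination e1)
    by_contra ht0
    have hker : a ∈ Char.kerSubgroup (Char.IsIrr.isCharacter χ.2) :=
      (mul_right_cancel₀ ht0 f1).symm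
    have htop : Char.kerSubgroup (Char.IsIrr.isCharacter χ.2) = ⊤ := by
      rw [eq_top_iff, ← c.gen_top]
      refine sSup_le fun B hB => ?_
      obtain ⟨g, rfl⟩ := c.toSys.conj_all hP.1 hB
      refine (conj_smul_le (ha ▸ zpowers_le.2 hker)).trans (conj_smul_eq_self ?_).le
      rw [normalizer_eq_top_iff.2 inferInstance]
      exact mem_top g
    exact hnt (Invol.irr_eq_one_of_const χ fun g =>
      (htop ▸ Subgroup.mem_top g : g ∈ Char.kerSubgroup (Char.IsIrr.isCharacter χ.2)))
  have hs0 := BlockChar.sum_block_degree_mul_eq_zero hM hB (y := t)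
    (by simp [Cfsg.IsPRegular, m.ord])
  rw [Finset.sum_eq_single (Blocks.triv G)] at hs0
  · rw [if_pos (Blocks.triv_mem_principalBlock hM)] at hs0
    simp [Blocks.triv] at hs0
  · intro χ _ hne'
    split_ifs with hχ
    · rw [hkey χ hχ fun e => hne' (Subtype.ext e), mul_zero]
    · rfl
  · exact fun h => absurd (Finset.mem_univ _) h

end Ctx

/-- A group generated by a `Sys` family has odd order. -/
theorem odd_of_gen (hFT : FTCons.OddSolvable.{u}) {G : Type u} [Group G] [Finite G]
    {D : Set (Subgroup G)} (h : Sys p q D) (hgen : sSup D = ⊤) : Odd (Nat.card G) := by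
  induction hn : Nat.card G using Nat.strong_induction_on generalizing G with
  | _ n ih =>
  subst hn
  by_contra hev
  have hsmall : Small q D := fun J hJ hne => by
    refine h.exists_str hJ (hFT J ?_)
    exact ih _ (Core.card_lt_of_ne_top hne) (h.comap J.subtype_injective) (sSup_comap_subtype hJ) rfl
  obtain ⟨A, hA⟩ : D.Nonempty := by
    rw [Set.nonempty_iff_ne_empty]
    intro e
    rw [e, sSup_empty] at hgen
    apply hev
    rw [← card_top (G := G), ← hgen, card_bot]
    exact odd_one
  have := Fact.mk Nat.prime_two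
  have hz : Odd (Nat.card (center G)) := center_odd_of_quotient h hgen hA fun z hz hzo _ => by
    set π := QuotientGroup.mk' (zpowers z)
    have hlt : Nat.card (G ⧸ zpowers z) < Nat.card G := Core.card_quotient_lt fun e => by
      rw [zpowers_eq_bot] at e
      rw [e, orderOf_one] at hzo
      omega
    refine ih _ hlt (D := (fun B => B.map π) '' D)
      (h.image (QuotientGroup.mk'_surjective _) fun B hB C hC x hx hx1 => ?_) ?_ rfl
    · have hxz : x ∈ zpowers z := (QuotientGroup.eq_one_iff x).1 hx1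
      have h2 : orderOf x ∣ 2 := hzo ▸ Nat.card_zpowers z ▸ orderOf_dvd_natCard _ hxz
      have hBC : Odd (Nat.card (B ⊔ C : Subgroup G)) := by
        by_cases e : B = C
        · rw [e, sup_idem, h.card C hC]; exact h.pp.odd_of_ne_two h.p2
        · exact h.odd B hB C hC e
      have h3 : Odd (orderOf x) := hBC.of_dvd_nat (orderOf_dvd_natCard _ hx)
      rcases (Nat.dvd_prime Nat.prime_two).1 h2 with h4 | h4
      · exact orderOf_eq_one_iff.1 h4
      · rw [h4] at h3
        exact absurd h3 (by decide)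
    · rw [sSup_image, ← (Subgroup.gc_map_comap π).l_sSup, hgen,
        map_top_of_surjective π (QuotientGroup.mk'_surjective _)]
  have c : Ctx p q D := ⟨h, hgen, hsmall, hz⟩
  by_cases hI : ∃ e : G, orderOf e = 2 ∧ (fixd D e).Nonempty
  · obtain ⟨t, ⟨ht, hne⟩, hmax⟩ := Set.Finite.exists_maximalFor
      (fun e : G => (fixd D e).ncard) {e : G | orderOf e = 2 ∧ (fixd D e).Nonempty}
      (Set.toFinite _) hI
    refine c.false_of_maxt hFT ⟨ht, hne, fun e he hene => ?_⟩
    by_contra hlt
    exact hlt (hmax (j := e) ⟨he, hene⟩ (le_of_lt (Nat.lt_of_not_le hlt)))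
  push Not at hI
  obtain ⟨S⟩ := (inferInstance : Nonempty (Sylow 2 G))
  obtain ⟨B, hB, hfix⟩ := exists_fixed_of_odd S.isPGroup' (fun g _ C hC => h.inv C hC g)
    (h.odd_ncard ⟨A, hA⟩)
  have hS : IsCyclic (S : Subgroup G) := by
    refine isCyclic_of_normalizes h hB (fun g hg => mem_normalizer_of_smul (hfix g hg))
      fun x hx hxc => ?_
    by_contra hx1
    obtain ⟨k, hk⟩ := IsPGroup.iff_orderOf.1 S.isPGroup' ⟨x, hx⟩
    rw [Subgroup.orderOf_mk] at hk
    have hdvd : 2 ∣ orderOf x := by
      rcases k with - | k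
      · exact absurd (orderOf_eq_one_iff.1 (by simpa using hk)) hx1
      · exact hk ▸ dvd_pow_self 2 k.succ_ne_zero
    have he : orderOf (x ^ (orderOf x / 2)) = 2 := orderOf_pow_orderOf_div (orderOf_pos x).ne' hdvd
    have hmem : B ∈ fixd D (x ^ (orderOf x / 2)) :=
      ⟨hB, le_centralizer_singleton.2 (pow_mem hxc _)⟩
    rw [hI _ he] at hmem
    exact hmem
  have hle := IsCyclic.normalizer_le_centralizer (P := S) (hP := hS)
    (Nat.minFac_eq_two_iff _ |>.2 (Nat.not_odd_iff_even.1 hev).two_dvd)
  have hcomp := MonoidHom.ker_transferSylow_isComplement' S hle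
  obtain ⟨k, hk⟩ := IsPGroup.iff_card.1 S.isPGroup'
  have htop := normal_two_index_eq_top h hgen (K := (MonoidHom.transferSylow S hle).ker) (k := k)
    (by rw [hcomp.symm.index_eq_card, hk])
  have h1 := hcomp.symm.index_eq_card
  rw [htop, index_top] at h1
  exact S.not_dvd_index (by
    have h2 := (S : Subgroup G).card_mul_index
    rw [← h1, one_mul] at h2
    rw [h2]
    exact (Nat.not_odd_iff_even.1 hev).two_dvd)

end Cfsg.Agent.PairOdd
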