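import Cfsg.Agent.PairOdd.Omega
import Cfsg.Prelude.Def_TwoFusion

/-!
# Two maximal subgroups with mutually normalising inverted centres

Their members normalise a common subgroup, which makes the involution isolated in the whole group.
-/

set_option autoImplicit false
set_option linter.unusedSectionVars false

namespace Cfsg.Agent.PairOdd

open Subgroup
open scoped Pointwise commutatorElement

universe u

variable {G : Type u} [Group G] [Finite G] {p q : ℕ} {D : Set (Subgroup G)} {t : G}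

/-- An element of odd order `t * e` conjugates `t` to `e`. -/
theorem mem_sup_centralizer_of_zstar {O : Subgroup G} (ht : orderOf t = 2) (hO : Odd (Nat.card O))
    [O.Normal] {g : G} (hg : t * g * t⁻¹ * g⁻¹ ∈ O) : g ∈ O ⊔ centralizer ({t} : Set G) := by
  have htt : t * t = 1 := by rw [← pow_two, ← ht, pow_orderOf_eq_one]
  have hti : t⁻¹ = t := inv_eq_of_mul_eq_one_right htt
  have hz : orderOf (g * t * g⁻¹) = 2 := by
    rw [← MulAut.conj_apply, (MulAut.conj g).orderOf_eq, ht]
  have hmem : t * (g * t * g⁻¹) ∈ O := by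
    rw [hti] at hg
    rwa [show t * (g * t * g⁻¹) = t * g * t * g⁻¹ by group]
  obtain ⟨d, hd, hdt⟩ := Invol.exists_conj_of_odd ht hz
    (hO.of_dvd_nat (orderOf_dvd_natCard O hmem))
  have hcl : closure ({t, g * t * g⁻¹} : Set G) ≤ O ⊔ centralizer ({t} : Set G) := by
    rw [closure_le]
    have h1 : t ∈ O ⊔ centralizer ({t} : Set G) :=
      mem_sup_right (mem_centralizer_singleton_iff.2 rfl)
    rintro x (rfl | rfl)
    · exact h1
    · rw [show g * t * g⁻¹ = t⁻¹ * (t * (g * t * g⁻¹)) by group]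
      exact mul_mem (inv_mem h1) (mem_sup_left hmem)
  rw [show g = d * (d⁻¹ * g) by group]
  refine mul_mem (hcl hd) (mem_sup_right (mem_centralizer_singleton_iff.2 ?_))
  calc d⁻¹ * g * t = d⁻¹ * (g * t * g⁻¹) * g := by group
    _ = d⁻¹ * (d * t * d⁻¹) * g := by rw [hdt]
    _ = t * (d⁻¹ * g) := by group

namespace Ctx

variable (c : Ctx p q D)
include c

theorem odd_memb {J : Subgroup G} (hne : (memb D J).Nonempty) : Odd (memb D J).ncard := by
  obtain ⟨A, hA⟩ := hne
  have h := (c.toSys.comap (f := J.subtype) J.subtype_injective).odd_ncard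
    ⟨A.subgroupOf J, show _ ∈ D by rw [map_subgroupOf_eq_of_le hA.2]; exact hA.1⟩
  have e : (Subgroup.map J.subtype) '' {A : Subgroup J | A.map J.subtype ∈ D} = memb D J := by
    ext B
    refine ⟨?_, fun hB => ⟨B.subgroupOf J, ?_, map_subgroupOf_eq_of_le hB.2⟩⟩
    · rintro ⟨B, hB, rfl⟩
      exact ⟨hB, map_subtype_le _⟩
    · show _ ∈ D
      rw [map_subgroupOf_eq_of_le hB.2]
      exact hB.1
  rwa [← e, Set.ncard_image_of_injective _ (map_injective J.subtype_injective)]

theorem odd_fixd (m : Maxt D t) : Odd (fixd D t).ncard :=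
  c.odd_memb m.nonempty

end Ctx

namespace Top

variable {M : Subgroup G} (T : Top D t M)
include T

theorem zc_isPGroup (c : Ctx p q D) : IsPGroup q (zc M) := by
  obtain ⟨R, s⟩ := c.small M T.gen_eq T.ne_top
  obtain ⟨P, hP, B, hB, hPm, -, hne⟩ := T.exists_two
  exact s.pgroup.to_le fun x hx => s.center_le c.toSys hPm hB hne hx.1 hx.2

theorem odd_of_mem_zc (c : Ctx p q D) {y : G} (hy : y ∈ zc M) : Odd (orderOf y) := by
  have := Fact.mk c.qq
  obtain ⟨k, hk⟩ := IsPGroup.iff_orderOf.1 (T.zc_isPGroup c) ⟨y, hy⟩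
  rw [Subgroup.orderOf_mk] at hk
  rw [hk]
  exact (c.qq.odd_of_ne_two c.q2).pow

theorem mem_centralizer_Hgen {y : G} (hy : y ∈ zc M) : y ∈ centralizer (Hgen D t : Set G) :=
  centralizer_le T.Hgen_le hy.2

/-- Two such subgroups with mutually normalising inverted centres coincide. -/
theorem eq_of_mutual (c : Ctx p q D) (m : Maxt D t) (hnab : ¬ DAb D) {M' : Subgroup G}
    (T' : Top D t M') (h1 : ∀ y ∈ invSet t M', MulAut.conj y • M = M)
    (h2 : ∀ y ∈ invSet t M, MulAut.conj y • M' = M') : M = M' := by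
  by_contra hne
  obtain ⟨RH, sH⟩ := c.small (Hgen D t) Ctx.gen_Hgen (c.Hgen_ne_top m)
  set Rs := RH ⊔ closure (invSet t M ∪ invSet t M') with hRs
  have hMn : M ≤ normalizer (Rs : Set G) := T.le_normalizer_aux c m hnab sH fun g hg =>
    ⟨T'.odd_of_mem_zc c hg.1, hg.2, h1 g hg, T'.mem_centralizer_Hgen hg.1⟩
  have hM'n : M' ≤ normalizer (Rs : Set G) := by
    rw [hRs, Set.union_comm]
    exact T'.le_normalizer_aux c m hnab sH fun g hg =>
      ⟨T.odd_of_mem_zc c hg.1, hg.2, h2 g hg, T.mem_centralizer_Hgen hg.1⟩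
  have htop : M ⊔ M' = ⊤ := by
    by_contra hJ
    have e1 := T.le_of_le c (gen_sup T.gen_eq T'.gen_eq) hJ le_sup_left
    have e2 := T'.le_of_le c (gen_sup T.gen_eq T'.gen_eq) hJ le_sup_right
    exact hne (e1.symm.trans e2)
  have hnorm : Rs.Normal := by
    rw [← normalizer_eq_top_iff, eq_top_iff, ← htop]
    exact sup_le hMn hM'n
  have hRsH : ∀ r ∈ Rs, MulAut.conj r • Hgen D t = Hgen D t := fun r hr => by
    refine conj_smul_eq_self ((show Rs ≤ normalizer (Hgen D t : Set G) from ?_) hr)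
    refine sup_le (sH.le.trans le_normalizer) ((closure_le _).2 ?_)
    rintro y (hy | hy)
    · exact centralizer_le_normalizer _ (T.mem_centralizer_Hgen hy.1)
    · exact centralizer_le_normalizer _ (T'.mem_centralizer_Hgen hy.1)
  have htrans : ∀ A ∈ fixd D t, ∀ B ∈ fixd D t, ∃ r ∈ Rs, MulAut.conj r • A = B := by
    intro A hA B hB
    rw [← Ctx.memb_Hgen] at hA hB
    obtain ⟨r, hr, e⟩ := sH.exists_smul c.toSys hA hB
    exact ⟨r, mem_sup_left hr, e⟩
  -- `t` is isolated
  have hiso : Cfsg.IsIsolatedInvolution t := by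
    refine ⟨m.ord, fun g hcom => ?_⟩
    set e := g * t * g⁻¹ with he
    have hpre : ∀ A ∈ fixd D e, ∃ A₀ ∈ fixd D t, MulAut.conj g • A₀ = A := fun A hA =>
      ⟨MulAut.conj g⁻¹ • A, by
        refine (fixd_smul_iff c.inv (g := g)).1 ?_
        rwa [map_inv, smul_inv_smul], by rw [map_inv, smul_inv_smul]⟩
    have hstab : ∀ A ∈ fixd D e, ∀ r ∈ Rs, MulAut.conj r • A ∈ fixd D e := fun A hA r hr => by
      obtain ⟨A₀, hA₀, rfl⟩ := hpre A hA
      have h := fixd_smul c.inv (g := g) (c.smul_mem_fixd m (hRsH _ (hnorm.conj_mem r hr g⁻¹)) hA₀)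
      rw [← mul_smul, ← map_mul] at h
      rw [← mul_smul, ← map_mul]
      rwa [show g * (g⁻¹ * r * g⁻¹⁻¹) = r * g by group] at h
    have htr : ∀ A ∈ fixd D e, ∀ B ∈ fixd D e, ∃ r ∈ Rs, MulAut.conj r • A = B := by
      intro A hA B hB
      obtain ⟨A₀, hA₀, rfl⟩ := hpre A hA
      obtain ⟨B₀, hB₀, rfl⟩ := hpre B hB
      obtain ⟨r, hr, rfl⟩ := htrans A₀ hA₀ B₀ hB₀
      refine ⟨g * r * g⁻¹, hnorm.conj_mem r hr g, ?_⟩
      rw [← mul_smul, ← map_mul, inv_mul_cancel_right, map_mul, mul_smul]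
    have hcard : Odd (fixd D e).ncard := by
      have e1 : fixd D e = (fun A => MulAut.conj g • A) '' fixd D t := by
        refine Set.Subset.antisymm (fun A hA => ?_) ?_
        · obtain ⟨A₀, hA₀, h⟩ := hpre A hA; exact ⟨A₀, hA₀, h⟩
        · rintro _ ⟨A, hA, rfl⟩; exact fixd_smul c.inv hA
      rw [e1, Set.ncard_image_of_injective _ (MulAction.injective _)]
      exact c.odd_fixd m
    have hinv : ∀ x ∈ zpowers t, ∀ A ∈ fixd D e, MulAut.conj x • A ∈ fixd D e := by
      intro x hx A hA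
      have hxe : x * e * x⁻¹ = e := by
        obtain ⟨k, rfl⟩ := hx
        rw [(hcom.zpow_left k).eq, mul_inv_cancel_right]
      have := fixd_smul c.inv (g := x) hA
      rwa [hxe] at this
    obtain ⟨B, hBe, hBfix⟩ := exists_fixed_of_odd (zpowers_isPGroup_two m.ord) hinv hcard
    obtain ⟨P, hP⟩ := m.nonempty
    have hBt := c.mem_fixd_of_normalizes m.ord hP hBe.1 (hBfix t (mem_zpowers t))
    have heq : fixd D e = fixd D t := by
      refine Set.Subset.antisymm (fun A hA => ?_) fun A hA => ?_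
      · obtain ⟨r, hr, rfl⟩ := htr B hBe A hA
        exact c.smul_mem_fixd m (hRsH r hr) hBt
      · obtain ⟨r, hr, rfl⟩ := htrans B hBt A hA
        exact hstab B hBe r hr
    obtain ⟨-, -, B', hB', -, hB't, -⟩ := T.exists_two
    exact c.eq_of_fixd_eq m (by rw [he, ← MulAut.conj_apply, (MulAut.conj g).orderOf_eq, m.ord])
      hcom heq T.gen_eq T.ne_top T.fixed_le hB' hB't
  -- so the group has odd order
  set O := Cfsg.oddCore G with hO
  have hOn : O.Normal := Core.pPrimeCore_normal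
  have hOodd : Odd (Nat.card O) :=
    Nat.coprime_two_right.1 Core.coprime_card_pPrimeCore
  have hHodd : Odd (Nat.card (Hgen D t)) := c.odd_of_proper Ctx.gen_Hgen (c.Hgen_ne_top m)
  have hnle : O ⊔ centralizer ({t} : Set G) ≤
      normalizer ((O ⊔ Hgen D t : Subgroup G) : Set G) := by
    refine sup_le (le_sup_left.trans le_normalizer) fun x hx => mem_normalizer_of_smul ?_
    rw [smul_sup, conj_smul_eq_self (by rw [normalizer_eq_top_iff.2 hOn]; exact mem_top x),
      c.smul_Hgen hx]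
  have htopO : O ⊔ Hgen D t = ⊤ := by
    rw [eq_top_iff, ← c.gen_top]
    refine sSup_le fun B hB => ?_
    obtain ⟨P, hP⟩ := m.nonempty
    obtain ⟨g, rfl⟩ := c.toSys.conj_all hP.1 hB
    exact (conj_smul_le ((Ctx.le_Hgen hP).trans le_sup_right)).trans (conj_smul_eq_self
      (hnle (mem_sup_centralizer_of_zstar m.ord hOodd (Invol.zstar hiso g)))).le
  have hodd : Odd (Nat.card (O ⊔ Hgen D t : Subgroup G)) :=
    (hHodd.mul hOodd).of_dvd_nat (by rw [sup_comm]; exact Core.card_sup_dvd_mul (Hgen D t) O)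
  exact c.ne_top_of_odd m.ord hodd htopO

end Top

end Cfsg.Agent.PairOdd
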