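import Cfsg.Agent.PairOdd.Invol
import Cfsg.Agent.Invol.ZStar
import Cfsg.Agent.Invol.Pair

/-!
# The maximal proper subgroups above the fixed members of the involution

Two of them whose centres mutually normalise each other (on their inverted parts) coincide.
-/

set_option autoImplicit false
set_option linter.unusedSectionVars false

namespace Cfsg.Agent.PairOdd

open Subgroup
open scoped Pointwise commutatorElement

universe u

variable {G : Type u} [Group G] {p q : ℕ} {D : Set (Subgroup G)}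

/-- A maximal proper subgroup generated by members, above a line through a fixed member, containing
all fixed members. -/
structure Top (D : Set (Subgroup G)) (t : G) (M : Subgroup G) : Prop where
  gen_eq : gen D M = M
  ne_top : M ≠ ⊤
  fixed_le : ∀ A ∈ fixd D t, A ≤ M
  witness : ∃ P ∈ fixd D t, ∃ B ∈ memb D M, B ∉ fixd D t ∧
    ∀ J : Subgroup G, gen D J = J → J ≠ ⊤ → P ≤ J → B ≤ J → J ≤ M

/-- The centre of a subgroup, inside the group. -/
def zc (M : Subgroup G) : Subgroup G := M ⊓ centralizer (M : Set G)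

/-- The central elements inverted by `t`. -/
def invSet (t : G) (M : Subgroup G) : Set G := {y | y ∈ zc M ∧ t * y * t⁻¹ = y⁻¹}

theorem closure_conj_mem {S : Set G} {K : Subgroup G} {g : G} (h : ∀ x ∈ S, g * x * g⁻¹ ∈ K)
    {x : G} (hx : x ∈ closure S) : g * x * g⁻¹ ∈ K := by
  have : closure S ≤ K.comap (MulAut.conj g).toMonoidHom :=
    (closure_le _).2 fun y hy => by simpa using h y hy
  simpa using this hx

theorem sup_conj_mem {A B K : Subgroup G} {g : G} (hA : ∀ x ∈ A, g * x * g⁻¹ ∈ K)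
    (hB : ∀ x ∈ B, g * x * g⁻¹ ∈ K) {x : G} (hx : x ∈ A ⊔ B) : g * x * g⁻¹ ∈ K := by
  have : A ⊔ B ≤ K.comap (MulAut.conj g).toMonoidHom :=
    sup_le (fun y hy => by simpa using hA y hy) fun y hy => by simpa using hB y hy
  simpa using this hx

theorem zc_smul {M : Subgroup G} {g : G} (hg : MulAut.conj g • M = M) {y : G} (hy : y ∈ zc M) :
    g * y * g⁻¹ ∈ zc M := by
  have hn := mem_normalizer_of_smul hg
  refine mem_inf.2 ⟨(mem_normalizer_iff.1 hn y).1 hy.1, mem_centralizer_iff.2 fun z hz => ?_⟩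
  have h2 := mem_centralizer_iff.1 hy.2 _ (show g⁻¹ * z * g ∈ M by
    rw [mem_normalizer_iff.1 hn, show g * (g⁻¹ * z * g) * g⁻¹ = z by group]; exact hz)
  calc z * (g * y * g⁻¹) = g * (g⁻¹ * z * g * y) * g⁻¹ := by group
    _ = g * (y * (g⁻¹ * z * g)) * g⁻¹ := by rw [h2]
    _ = g * y * g⁻¹ * z := by group

namespace Top

variable [Finite G] {t : G} {M : Subgroup G} (T : Top D t M)
include T

theorem Hgen_le : Hgen D t ≤ M := sSup_le fun A hA => T.fixed_le A hA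

theorem smul (c : Ctx p q D) {g : G}
    (hg : MulAut.conj g • Hgen D t = Hgen D t) : Top D t (MulAut.conj g • M) := by
  have hfix : ∀ A ∈ D, (MulAut.conj g • A ∈ fixd D t ↔ A ∈ fixd D t) := fun A hA => by
    rw [← Ctx.memb_Hgen]
    refine ⟨fun h => ⟨hA, ?_⟩, fun h => ⟨c.inv A hA g, (conj_smul_le h.2).trans hg.le⟩⟩
    have := h.2
    rw [← hg] at this
    exact pointwise_smul_le_pointwise_smul_iff.1 this
  obtain ⟨P, hP, B, hB, hBt, huni⟩ := T.witness
  refine ⟨?_, fun e => T.ne_top ?_, fun A hA => ?_, MulAut.conj g • P,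
    (hfix P hP.1).2 hP, MulAut.conj g • B, ⟨c.inv B hB.1 g, conj_smul_le hB.2⟩,
    fun e => hBt ((hfix B hB.1).1 e), fun J hJ hJt h1 h2 => ?_⟩
  · rw [← conj_gen c.inv, T.gen_eq]
  · refine eq_top_of_card_eq _ ?_
    rw [← card_smul g M, e, card_top]
  · exact (Ctx.le_Hgen hA).trans (hg.ge.trans (conj_smul_le T.Hgen_le))
  · rw [subset_pointwise_smul_iff]
    refine huni _ ?_ (fun e => hJt ?_) (pointwise_smul_subset_iff.1 h1)
      (pointwise_smul_subset_iff.1 h2)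
    · rw [← map_inv, ← conj_gen c.inv, hJ]
    · refine eq_top_of_card_eq _ ?_
      rw [← card_smul g⁻¹ J, map_inv, e, card_top]

theorem le_of_le (c : Ctx p q D) {J : Subgroup G} (hJ : gen D J = J) (hne : J ≠ ⊤) (hle : M ≤ J) :
    J = M := by
  obtain ⟨P, hP, B, hB, -, huni⟩ := T.witness
  exact le_antisymm (huni J hJ hne ((T.fixed_le P hP).trans hle) (hB.2.trans hle)) hle

theorem exists_two : ∃ P ∈ fixd D t, ∃ B ∈ memb D M, P ∈ memb D M ∧ B ∉ fixd D t ∧ P ≠ B := by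
  obtain ⟨P, hP, B, hB, hBt, -⟩ := T.witness
  exact ⟨P, hP, B, hB, ⟨hP.1, T.fixed_le P hP⟩, hBt, fun e => hBt (e ▸ hP)⟩

theorem smul_self (c : Ctx p q D) (m : Maxt D t) : MulAut.conj t • M = M :=
  c.smul_eq_of_fixd_subset m.ord m.nonempty T.gen_eq T.fixed_le

theorem gen_centralizer (c : Ctx p q D) {w : G} (hw : w ∈ zc M) (hwc : w ∉ center G) :
    gen D (centralizer ({w} : Set G)) = M := by
  refine T.le_of_le c (gen_gen _) (fun e => hwc (mem_center_iff.2 fun g => ?_)) ?_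
  · exact mem_centralizer_singleton_iff.1 (gen_le _ (e.symm ▸ mem_top g))
  · exact T.gen_eq.ge.trans (gen_mono (le_centralizer_singleton.2 hw.2))

theorem smul_eq_of_commute (c : Ctx p q D) {w : G} (hw : w ∈ zc M) (hwc : w ∉ center G) {g : G}
    (hg : g ∈ centralizer ({w} : Set G)) : MulAut.conj g • M = M := by
  conv_lhs => rw [← T.gen_centralizer c hw hwc]
  rw [conj_gen c.inv, conj_smul_eq_self (le_normalizer hg), T.gen_centralizer c hw hwc]

/-- An element of `R` fixed by `t` modulo the fixed points of a member. -/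
theorem fix_mem (c : Ctx p q D) (m : Maxt D t) {R RH : Subgroup G} (s : Str q D M R)
    (sH : Str q D (Hgen D t) RH) {P : Subgroup G} (hP : P ∈ fixd D t) {x : G} (hx : x ∈ R)
    (hfix : t * x * t⁻¹ * x⁻¹ ∈ centralizer (P : Set G)) :
    x ∈ RH ⊔ R ⊓ centralizer (P : Set G) := by
  have hPm : P ∈ memb D M := ⟨hP.1, T.fixed_le P hP⟩
  have htP : t ∈ centralizer (P : Set G) := le_centralizer_singleton.1 hP.2
  set y := t * x * t⁻¹ * x⁻¹ with hy
  have htR : t * x * t⁻¹ ∈ R := by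
    have := conj_mem_smul (g := t) hx
    rwa [s.conj_eq c.toSys (T.smul_self c m) hPm] at this
  have hyc : y ∈ centralizer (M : Set G) :=
    s.fix_central P hPm (mem_inf.2 ⟨mul_mem htR (inv_mem hx), hfix⟩)
  have hxP : MulAut.conj x • P ≤ M := conj_smul_le_self (s.le hx) hPm.2
  have hfx : MulAut.conj x • P ∈ fixd D t := by
    refine c.mem_fixd_of_normalizes m.ord hP (c.inv P hP.1 x) ?_
    rw [← mul_smul, ← map_mul, show t * x = y * x * t by rw [hy]; group, map_mul, map_mul, mul_smul,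
      mul_smul, conj_smul_eq_self_of_centralizer htP,
      conj_smul_eq_self_of_centralizer (centralizer_le hxP hyc)]
  rw [← Ctx.memb_Hgen] at hP hfx
  obtain ⟨n, hn, hnx⟩ := sH.exists_smul c.toSys hP hfx
  have hnR : n ∈ R := s.le_of_qgroup c.toSys hPm (sH.le.trans T.Hgen_le) sH.pgroup hn
  have hd : n⁻¹ * x ∈ R ⊓ centralizer (P : Set G) := by
    refine mem_inf.2 ⟨mul_mem (inv_mem hnR) hx, ?_⟩
    by_contra hc
    refine s.smul_ne c.toSys hPm (mul_mem (inv_mem hnR) hx) hc ?_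
    rw [map_mul, mul_smul, map_inv, inv_smul_eq_iff]
    exact hnx.symm
  rw [show x = n * (n⁻¹ * x) by group]
  exact mul_mem (mem_sup_left hn) (mem_sup_right hd)

/-- The members of `M` normalise `RH ⊔ ⟨inverted centre, S⟩`. -/
theorem le_normalizer_aux (c : Ctx p q D) (m : Maxt D t) (hnab : ¬ DAb D) {RH : Subgroup G}
    (sH : Str q D (Hgen D t) RH) {S : Set G}
    (hS : ∀ g ∈ S, Odd (orderOf g) ∧ t * g * t⁻¹ = g⁻¹ ∧ MulAut.conj g • M = M ∧
      g ∈ centralizer (Hgen D t : Set G)) :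
    M ≤ normalizer ((RH ⊔ closure (invSet t M ∪ S) : Subgroup G) : Set G) := by
  have := Fact.mk c.qq
  obtain ⟨R, s⟩ := c.small M T.gen_eq T.ne_top
  obtain ⟨P, hP, B, hB, hPm, -, hne⟩ := T.exists_two
  have hPH : P ≤ Hgen D t := Ctx.le_Hgen hP
  have htP : t ∈ centralizer (P : Set G) := le_centralizer_singleton.1 hP.2
  set Y := R ⊓ centralizer (P : Set G) with hY
  have hYc : Y ≤ centralizer (M : Set G) := s.fix_central P hPm
  have hYz : Y ≤ zc M := le_inf (inf_le_left.trans s.le) hYc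
  have hYcomm : ∀ y ∈ Y, ∀ w ∈ M, w * y = y * w := fun y hy w hw =>
    mem_centralizer_iff.1 (hYc hy) w hw
  have hRder : ∀ x ∈ R, ∀ z ∈ R, ⁅x, z⁆ ∈ Y := fun x hx z hz => by
    refine mem_inf.2 ⟨?_, centralizer_le hPm.2 (s.der hnab (commutator_mem_commutator hx hz))⟩
    rw [commutatorElement_def]
    exact mul_mem (mul_mem (mul_mem hx hz) (inv_mem hx)) (inv_mem hz)
  have hRHR : RH ≤ R := s.le_of_qgroup c.toSys hPm (sH.le.trans T.Hgen_le) sH.pgroup
  have hRHt : ∀ n ∈ RH, t * n * t⁻¹ = n := fun n hn => by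
    rw [← mem_centralizer_singleton_iff.1 ((sH.le.trans (gen_le _)) hn), mul_inv_cancel_right]
  set I := closure (invSet t M) with hI
  set R1 := RH ⊔ I with hR1
  set Rs := RH ⊔ closure (invSet t M ∪ S) with hRs
  have hR1s : R1 ≤ Rs := sup_le_sup_left (Subgroup.closure_mono Set.subset_union_left) _
  have haRH : ∀ a ∈ P, ∀ n ∈ RH, a * n * a⁻¹ ∈ RH := fun a ha n hn =>
    (mem_normalizer_iff.1 (sH.norm (hPH ha)) n).1 hn
  have haR : ∀ a ∈ P, ∀ x ∈ R, a * x * a⁻¹ ∈ R := fun a ha n hn =>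
    (mem_normalizer_iff.1 (s.norm (hPm.2 ha)) n).1 hn
  -- the members of `Hgen` normalise `Rs`
  have hPn : P ≤ normalizer (Rs : Set G) := fun a ha => Weight.conj_mem_normalizer fun x hx => by
    refine sup_conj_mem (fun n hn => mem_sup_left (haRH a ha n hn)) (fun z hz => ?_) hx
    refine mem_sup_right (closure_conj_mem (fun g hg => ?_) hz)
    rcases hg with hg | hg
    · rw [mem_centralizer_iff.1 hg.1.2 a (hPm.2 ha), mul_inv_cancel_right]
      exact Subgroup.subset_closure (Or.inl hg)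
    · rw [mem_centralizer_iff.1 (hS g hg).2.2.2 a (hPH ha), mul_inv_cancel_right]
      exact Subgroup.subset_closure (Or.inr hg)
  have hRHn : RH ≤ normalizer (Rs : Set G) := le_sup_left.trans le_normalizer
  -- inverted elements act on `R1`
  have hxR1 : ∀ x ∈ R, t * x * t⁻¹ = x⁻¹ → ∀ z ∈ R1, x * z * x⁻¹ ∈ R1 := by
    intro x hx hxt z hz
    refine sup_conj_mem (fun n hn => ?_) (fun w hw => mem_sup_right ?_) hz
    · rw [show x * n * x⁻¹ = ⁅x, n⁆ * n by rw [commutatorElement_def]; group]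
      refine mul_mem (mem_sup_right (Subgroup.subset_closure
        ⟨hYz (hRder x hx n (hRHR hn)), ?_⟩)) (mem_sup_left hn)
      rw [Weight.conj_commutator, hxt, hRHt n hn]
      calc ⁅x⁻¹, n⁆ = x⁻¹ * ⁅x, n⁆⁻¹ * x := by simp only [commutatorElement_def]; group
        _ = ⁅x, n⁆⁻¹ * x⁻¹ * x := by
          rw [hYcomm _ (inv_mem (hRder x hx n (hRHR hn))) _ (inv_mem (s.le hx))]
        _ = _ := by group
    · refine closure_conj_mem (fun g hg => ?_) hw
      rw [mem_centralizer_iff.1 hg.1.2 x (s.le hx), mul_inv_cancel_right]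
      exact Subgroup.subset_closure hg
  -- the displacement of inverted elements
  have hw0 : ∀ x ∈ R, t * x * t⁻¹ = x⁻¹ → ∀ a ∈ P, ⁅x, a⁆ ∈ normalizer (Rs : Set G) := by
    intro x hx hxt a ha
    have hta : t * a * t⁻¹ = a := by
      rw [← mem_centralizer_iff.1 htP a ha, mul_inv_cancel_right]
    set x' := a * x⁻¹ * a⁻¹ with hx'
    have hx'R : x' ∈ R := haR a ha _ (inv_mem hx)
    have hx't : t * x' * t⁻¹ = x'⁻¹ := by
      calc t * x' * t⁻¹ = (t * a * t⁻¹) * (t * x * t⁻¹)⁻¹ * (t * a * t⁻¹)⁻¹ := by rw [hx']; group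
        _ = _ := by rw [hta, hxt, hx']; group
    have hw : ⁅x, a⁆ = x * x' := by rw [hx', commutatorElement_def]; group
    have hw1 : ∀ z ∈ R1, ⁅x, a⁆ * z * ⁅x, a⁆⁻¹ ∈ R1 := fun z hz => by
      rw [hw, show x * x' * z * (x * x')⁻¹ = x * (x' * z * x'⁻¹) * x⁻¹ by group]
      exact hxR1 x hx hxt _ (hxR1 x' hx'R hx't z hz)
    refine Weight.conj_mem_normalizer fun z hz => ?_
    refine sup_conj_mem (fun n hn => hR1s (hw1 n (mem_sup_left hn)))
      (fun w hwm => closure_conj_mem (fun g hg => ?_) hwm) hz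
    rcases hg with hg | hg
    · exact hR1s (hw1 g (mem_sup_right (Subgroup.subset_closure hg)))
    obtain ⟨hgodd, hgt, hgM, hgH⟩ := hS g hg
    have hgR : ∀ z ∈ R, g * z * g⁻¹ ∈ R := fun z hz => by
      have := conj_mem_smul (g := g) hz
      rwa [s.conj_eq c.toSys hgM hPm] at this
    have hgi : MulAut.conj g⁻¹ • M = M := by
      rw [map_inv, inv_smul_eq_iff]; exact hgM.symm
    have hgiR : ∀ z ∈ R, g⁻¹ * z * g ∈ R := fun z hz => by
      have := conj_mem_smul (g := g⁻¹) hz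
      rwa [s.conj_eq c.toSys hgi hPm, inv_inv] at this
    have hga : g * a * g⁻¹ = a := by
      rw [← mem_centralizer_iff.1 hgH a (hPH ha), mul_inv_cancel_right]
    have hgY : ∀ y ∈ Y, g * y * g⁻¹ ∈ Y := fun y hy =>
      (s.mem_fix c.toSys hPm hB hne).1 (mem_inf.1 (zc_smul hgM (hYz hy)))
    have hgY' : ∀ y ∈ Y, g⁻¹ * y * g ∈ Y := fun y hy => by
      have := (s.mem_fix c.toSys hPm hB hne).1 (mem_inf.1 (zc_smul hgi (hYz hy)))
      rwa [inv_inv] at this
    set ν := x⁻¹ * (g * x * g⁻¹) with hν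
    have hνR : ν ∈ R := mul_mem (inv_mem hx) (hgR x hx)
    have hgti : t * g⁻¹ * t⁻¹ = g := by
      rw [show t * g⁻¹ * t⁻¹ = (t * g * t⁻¹)⁻¹ by group, hgt, inv_inv]
    set V := g⁻¹ * ν * g with hV
    have hVR : V ∈ R := hgiR ν hνR
    -- `t` sends `ν` to its translate modulo `Y`
    set y₁ := t * ν * t⁻¹ * V⁻¹ with hy₁
    have hy₁Y : y₁ ∈ Y := by
      have h1 : t * ν * t⁻¹ = x * (g⁻¹ * x⁻¹ * g) := by
        calc t * ν * t⁻¹ = (t * x * t⁻¹)⁻¹ * ((t * g * t⁻¹) * (t * x * t⁻¹) * (t * g⁻¹ * t⁻¹)) := by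
              rw [hν]; group
          _ = _ := by rw [hxt, hgt, hgti]; group
      rw [hy₁, h1, show x * (g⁻¹ * x⁻¹ * g) * V⁻¹ = ⁅x, g⁻¹ * x⁻¹ * g⁆ by
        rw [hV, hν, commutatorElement_def]; group]
      exact hRder x hx _ (hgiR _ (inv_mem hx))
    have htν : t * ν * t⁻¹ = y₁ * V := by rw [hy₁, inv_mul_cancel_right]
    have htνR : t * ν * t⁻¹ ∈ R := htν ▸ mul_mem hy₁Y.1 hVR
    set σ := ν * (t * ν * t⁻¹) with hσ
    have hσR : σ ∈ R := mul_mem hνR htνR
    have hσfix : t * σ * t⁻¹ * σ⁻¹ ∈ Y := by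
      have htt : t * t = 1 := by rw [← pow_two, ← m.ord, pow_orderOf_eq_one]
      have e : t * (t * ν * t⁻¹) * t⁻¹ = ν := by
        rw [show t * (t * ν * t⁻¹) * t⁻¹ = (t * t) * ν * (t * t)⁻¹ by group, htt, one_mul, inv_one,
          mul_one]
      rw [hσ, show t * (ν * (t * ν * t⁻¹)) * t⁻¹ =
        (t * ν * t⁻¹) * (t * (t * ν * t⁻¹) * t⁻¹) by group, e,
        show t * ν * t⁻¹ * ν * (ν * (t * ν * t⁻¹))⁻¹ = ⁅t * ν * t⁻¹, ν⁆ by
          rw [commutatorElement_def]; group]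
      exact hRder _ htνR ν hνR
    have hgσ : g * σ * g⁻¹ * σ⁻¹ ∈ Y := by
      obtain ⟨n, hn, y, hy, e⟩ := (Coprime.mem_sup_of_le_normalizer (N := Y) (A := RH)
        (fun n hn => centralizer_le_normalizer _ (mem_centralizer_iff.2 fun y hy =>
          (hYcomm y hy n (s.le (hRHR hn))).symm))).1
        (sup_comm RH Y ▸ T.fix_mem c m s sH hP hσR hσfix.2)
      rw [← e, show g * (n * y) * g⁻¹ * (n * y)⁻¹ =
          (g * n * g⁻¹) * (g * y * g⁻¹) * y⁻¹ * n⁻¹ by group]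
      have hgn : g * y * g⁻¹ = y := by
        rw [← mem_centralizer_iff.1 hgH y (sH.le hy), mul_inv_cancel_right]
      rw [hgn, mul_inv_cancel_right]
      exact mul_mem (hgY n hn) (inv_mem hn)
    set A := g * ν * g⁻¹ with hA
    have hAR : A ∈ R := hgR ν hνR
    have h2 : g * (g * ν * g⁻¹) * g⁻¹ * ν⁻¹ ∈ Y := by
      have hy₁c : ∀ w ∈ R, w * y₁ = y₁ * w := fun w hw => hYcomm y₁ hy₁Y w (s.le hw)
      have e1 : g * σ * g⁻¹ = (g * y₁ * g⁻¹) * (A * ν) := by
        calc g * σ * g⁻¹ = g * (ν * (y₁ * V)) * g⁻¹ := by rw [hσ, htν]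
          _ = g * (y₁ * ν * V) * g⁻¹ := by rw [← mul_assoc ν, hy₁c ν hνR]
          _ = _ := by rw [hA, hV]; group
      have e2 : σ⁻¹ = (ν * V)⁻¹ * y₁⁻¹ := by
        rw [hσ, htν, ← mul_assoc ν, hy₁c ν hνR, mul_assoc, mul_inv_rev]
      have hmem : A * ν * (ν * V)⁻¹ ∈ Y := by
        have := mul_mem (mul_mem (inv_mem (hgY y₁ hy₁Y)) hgσ) hy₁Y
        rwa [e1, e2, show (g * y₁ * g⁻¹)⁻¹ * (g * y₁ * g⁻¹ * (A * ν) * ((ν * V)⁻¹ * y₁⁻¹)) * y₁ =
          A * ν * (ν * V)⁻¹ by group] at this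
      have h3 : A * V⁻¹ ∈ Y := by
        rw [show A * V⁻¹ = A * ν * (ν * V)⁻¹ * ⁅ν, V⁆ by rw [commutatorElement_def]; group]
        exact mul_mem hmem (hRder ν hνR V hVR)
      have := hgY _ h3
      rwa [show g * (A * V⁻¹) * g⁻¹ = g * (g * ν * g⁻¹) * g⁻¹ * ν⁻¹ by rw [hA, hV]; group] at this
    have h1 : g * ν * g⁻¹ * ν⁻¹ ∈ Y := by
      have hall : ∀ n : ℕ, (g * g) ^ n * ν * ((g * g) ^ n)⁻¹ * ν⁻¹ ∈ Y := by
        intro n
        induction n with
        | zero => simp [one_mem]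
        | succ n ih =>
          have := mul_mem (hgY _ (hgY _ ih)) h2
          rwa [show g * (g * ((g * g) ^ n * ν * ((g * g) ^ n)⁻¹ * ν⁻¹) * g⁻¹) * g⁻¹ *
              (g * (g * ν * g⁻¹) * g⁻¹ * ν⁻¹) = (g * g) ^ (n + 1) * ν * ((g * g) ^ (n + 1))⁻¹ * ν⁻¹ by
            rw [pow_succ']; generalize (g * g) ^ n = X; group] at this
      obtain ⟨k, hk⟩ := hgodd
      have := hall (k + 1)
      rwa [show (g * g) ^ (k + 1) = g by
        rw [← pow_two, ← pow_mul, show 2 * (k + 1) = (2 * k + 1) + 1 by omega, pow_succ, ← hk,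
          pow_orderOf_eq_one, one_mul]] at this
    have hνfix : t * ν * t⁻¹ * ν⁻¹ ∈ Y := by
      rw [htν, mul_assoc]
      refine mul_mem hy₁Y ?_
      have := hgY' _ (inv_mem h1)
      rwa [show g⁻¹ * (g * ν * g⁻¹ * ν⁻¹)⁻¹ * g = g⁻¹ * ν * g * ν⁻¹ by group] at this
    obtain ⟨y, hy, n, hn, e⟩ := (Coprime.mem_sup_of_le_normalizer (N := Y) (A := RH) (fun n hn =>
        centralizer_le_normalizer _ (mem_centralizer_iff.2 fun y hy =>
          (hYcomm y hy n (s.le (hRHR hn))).symm))).1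
        (sup_comm RH Y ▸ T.fix_mem c m s sH hP hνR hνfix.2)
    have hna : ⁅n, a⁆ ∈ RH := by
      rw [commutatorElement_def, show n * a * n⁻¹ * a⁻¹ = n * (a * n⁻¹ * a⁻¹) by group]
      exact mul_mem hn (haRH a ha _ (inv_mem hn))
    have e3 : g * ⁅x, a⁆ * g⁻¹ = x * ⁅n, a⁆ * x⁻¹ * ⁅x, a⁆ := by
      rw [Weight.conj_commutator, hga, show g * x * g⁻¹ = x * (y * n) by rw [e, hν]; group,
        show ⁅x * (y * n), a⁆ = x * (y * (n * a * n⁻¹) * y⁻¹ * a⁻¹) * x⁻¹ * ⁅x, a⁆ by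
          simp only [commutatorElement_def]; group,
        show y * (n * a * n⁻¹) * y⁻¹ = n * a * n⁻¹ by
          rw [← hYcomm y hy _ (mul_mem (mul_mem (s.le (hRHR hn)) (hPm.2 ha))
            (inv_mem (s.le (hRHR hn)))), mul_inv_cancel_right]]
      simp only [commutatorElement_def]
    have hcm : x * ⁅n, a⁆ * x⁻¹ ∈ Rs := hR1s (hxR1 x hx hxt _ (mem_sup_left hna))
    have hgRs : g ∈ Rs := mem_sup_right (Subgroup.subset_closure (Or.inr hg))
    rw [show ⁅x, a⁆ * g * ⁅x, a⁆⁻¹ = (g⁻¹ * (g * ⁅x, a⁆ * g⁻¹ * ⁅x, a⁆⁻¹))⁻¹ by group, e3,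
      mul_inv_cancel_right]
    exact inv_mem (mul_mem (inv_mem hgRs) hcm)
  -- all of `R` lies in the normaliser up to the centre
  set W := normalizer (Rs : Set G) ⊓ R ⊔ Y with hW
  have hYn : ∀ w ∈ normalizer (Rs : Set G) ⊓ R, ∀ y ∈ Y, w * y = y * w := fun w hw y hy =>
    hYcomm y hy w (s.le hw.2)
  have hRHW : RH ⊔ Y ≤ W := sup_le_sup_right (le_inf hRHn hRHR) _
  have hsq : ∀ r ∈ R, ∀ a ∈ P, ⁅r * r, a⁆ ∈ W := by
    intro r hr a ha
    set rt := t * r * t⁻¹ with hrt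
    have hrtR : rt ∈ R := by
      have := conj_mem_smul (g := t) hr
      rwa [s.conj_eq c.toSys (T.smul_self c m) hPm] at this
    have htt : t * t = 1 := by rw [← pow_two, ← m.ord, pow_orderOf_eq_one]
    have hrtt : t * rt * t⁻¹ = r := by
      rw [hrt, show t * (t * r * t⁻¹) * t⁻¹ = (t * t) * r * (t * t)⁻¹ by group, htt, one_mul, inv_one,
        mul_one]
    set x := rt⁻¹ * r with hx
    have hxR : x ∈ R := mul_mem (inv_mem hrtR) hr
    have hxt : t * x * t⁻¹ = x⁻¹ := by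
      rw [hx, show t * (rt⁻¹ * r) * t⁻¹ = (t * rt * t⁻¹)⁻¹ * (t * r * t⁻¹) by group, hrtt, ← hrt]
      group
    set σ := r * rt with hσ
    have hσR : σ ∈ R := mul_mem hr hrtR
    have hσW : σ ∈ RH ⊔ Y := T.fix_mem c m s sH hP hσR (by
      rw [hσ, show t * (r * rt) * t⁻¹ = (t * r * t⁻¹) * (t * rt * t⁻¹) by group, ← hrt, hrtt,
        show rt * r * (r * rt)⁻¹ = ⁅rt, r⁆ by rw [commutatorElement_def]; group]
      exact (hRder rt hrtR r hr).2)
    have haW : a * σ * a⁻¹ ∈ RH ⊔ Y := sup_conj_mem (K := RH ⊔ Y)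
      (fun n hn => mem_sup_left (haRH a ha n hn))
      (fun y hy => mem_sup_right (by rw [hYcomm y hy a (hPm.2 ha), mul_inv_cancel_right]; exact hy))
      hσW
    have hσa : ⁅σ, a⁆ ∈ W := hRHW (by
      rw [show ⁅σ, a⁆ = σ * (a * σ * a⁻¹)⁻¹ by rw [commutatorElement_def]; group]
      exact mul_mem hσW (inv_mem haW))
    rw [show r * r = σ * x by rw [hσ, hx]; group,
      show ⁅σ * x, a⁆ = ⁅σ, ⁅x, a⁆⁆ * ⁅x, a⁆ * ⁅σ, a⁆ by simp only [commutatorElement_def]; group]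
    have hxaR : ⁅x, a⁆ ∈ R := by
      rw [commutatorElement_def, show x * a * x⁻¹ * a⁻¹ = x * (a * x⁻¹ * a⁻¹) by group]
      exact mul_mem hxR (haR a ha _ (inv_mem hxR))
    exact mul_mem (mul_mem (mem_sup_right (hRder σ hσR _ hxaR))
      (mem_sup_left (mem_inf.2 ⟨hw0 x hxR hxt a ha, hxaR⟩))) hσa
  have hall : ∀ r ∈ R, ∀ a ∈ P, ⁅r, a⁆ ∈ W := by
    intro r hr a ha
    obtain ⟨n, hn⟩ := IsPGroup.iff_orderOf.1 s.pgroup ⟨r, hr⟩
    rw [Subgroup.orderOf_mk] at hn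
    obtain ⟨k, hk⟩ : Odd (q ^ n) := (c.qq.odd_of_ne_two c.q2).pow
    have := hsq (r ^ (k + 1)) (pow_mem hr _) a ha
    rwa [← pow_add, show k + 1 + (k + 1) = q ^ n + 1 by omega, pow_succ, ← hn, pow_orderOf_eq_one,
      one_mul] at this
  have hRW : R ≤ W := by
    conv_lhs => rw [← s.comm P hPm]
    exact commutator_le.2 hall
  conv_lhs => rw [← T.gen_eq]
  refine sSup_le fun C hC => ?_
  obtain ⟨r, hr, rfl⟩ := s.exists_smul c.toSys hPm hC
  obtain ⟨y, hy, w, hw, rfl⟩ := (Coprime.mem_sup_of_le_normalizer (N := Y)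
    (A := normalizer (Rs : Set G) ⊓ R) (fun w hw => centralizer_le_normalizer _
      (mem_centralizer_iff.2 fun y hy => (hYn w hw y hy).symm))).1 (by rw [sup_comm]; exact hRW hr)
  rw [← hYn w hw y hy, map_mul, mul_smul,
    conj_smul_eq_self_of_centralizer (centralizer_le hPm.2 (hYc hy))]
  exact conj_smul_le_self hw.1 (H := P) hPn

end Top

end Cfsg.Agent.PairOdd
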