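import Cfsg.Agent.Coprime.Basic
import Cfsg.Agent.Coprime.Tools
import Mathlib

/-!
# An element of odd prime order on a coprime group with commuting displacement pairs

If every `⁅r, a⁆` commutes with its `a`-conjugate and `⁅R, a⁆ = R`, then `a` fixes no nontrivial
element of `R`.
-/

set_option autoImplicit false

namespace Cfsg.Agent.PairOdd.Weight

open Subgroup
open scoped commutatorElement

universe u

variable {G : Type u} [Group G]

theorem conj_commutator (g x y : G) :
    g * ⁅x, y⁆ * g⁻¹ = ⁅g * x * g⁻¹, g * y * g⁻¹⁆ := by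
  simp only [commutatorElement_def]
  group

theorem mul_left_central {x y z : G} (hc : ∀ g : G, g * ⁅y, z⁆ = ⁅y, z⁆ * g) :
    ⁅x * y, z⁆ = ⁅x, z⁆ * ⁅y, z⁆ := by
  have e : ⁅x * y, z⁆ = x * ⁅y, z⁆ * x⁻¹ * ⁅x, z⁆ := by
    simp only [commutatorElement_def]; group
  rw [e, hc x, mul_inv_cancel_right, ← hc ⁅x, z⁆]

theorem mul_right_central {x y z : G} (hc : ∀ g : G, g * ⁅x, z⁆ = ⁅x, z⁆ * g) :
    ⁅x, y * z⁆ = ⁅x, y⁆ * ⁅x, z⁆ := by
  have e : ⁅x, y * z⁆ = ⁅x, y⁆ * (y * ⁅x, z⁆ * y⁻¹) := by
    simp only [commutatorElement_def]; group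
  rw [e, hc y, mul_inv_cancel_right]

theorem conj_mem_normalizer [Finite G] {H : Subgroup G} {g : G} (h : ∀ x ∈ H, g * x * g⁻¹ ∈ H) :
    g ∈ normalizer (H : Set G) := by
  refine Coprime.mem_normalizer_of_conj_smul_eq (eq_of_le_of_card_ge ?_ ?_)
  · intro z hz
    rw [Coprime.conj_smul_eq_map] at hz
    obtain ⟨x, hx, rfl⟩ := hz
    simpa [MulAut.conj_apply] using h x hx
  · exact (Nat.card_congr (Subgroup.equivSMul (MulAut.conj g) H).toEquiv).le

variable [Finite G] {p q : ℕ} {R : Subgroup G} [R.Normal] {a : G}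

/-- Surjectivity of `x ↦ ⁅x, a ^ k⁆` on a finite `a`-invariant abelian section. -/
theorem exists_commutator {M N : Subgroup G} [N.Normal] (hM : ∀ m ∈ M, a * m * a⁻¹ ∈ M)
    (hNM : N ≤ M) (hfix : ∀ x ∈ M, ⁅x, a⁆ ∈ N → x ∈ N) (hab : ∀ x ∈ M, ∀ y ∈ M, ⁅x, y⁆ ∈ N)
    {v : G} (hv : v ∈ M) : ∃ x ∈ M, v⁻¹ * ⁅x, a⁆ ∈ N := by
  set π := QuotientGroup.mk' N with hπ
  let S := M.map π
  have hπN : ∀ z, π z = 1 ↔ z ∈ N := fun z => QuotientGroup.eq_one_iff z
  have hmem : ∀ m : S, ⁅(m : G ⧸ N), π a⁆ ∈ S := by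
    rintro ⟨_, x, hx, rfl⟩
    refine ⟨⁅x, a⁆, ?_, map_commutatorElement π x a⟩
    rw [commutatorElement_def, show x * a * x⁻¹ * a⁻¹ = x * (a * x⁻¹ * a⁻¹) by group]
    exact mul_mem hx (hM _ (inv_mem hx))
  let f : S → S := fun m => ⟨_, hmem m⟩
  have hinj : Function.Injective f := by
    rintro ⟨_, x, hx, rfl⟩ ⟨_, y, hy, rfl⟩ e
    have e' : ⁅π x, π a⁆ = ⁅π y, π a⁆ := congrArg Subtype.val e
    have h1 : π (y⁻¹ * x) = 1 := by
      rw [hπN]
      refine hfix _ (mul_mem (inv_mem hy) hx) ((hπN _).1 ?_)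
      rw [map_commutatorElement, map_mul, map_inv]
      calc ⁅(π y)⁻¹ * π x, π a⁆ = (π y)⁻¹ * (⁅π x, π a⁆ * ⁅π y, π a⁆⁻¹) * π y := by
            simp only [commutatorElement_def]; group
        _ = 1 := by rw [e', mul_inv_cancel, mul_one, inv_mul_cancel]
    rw [map_mul, map_inv, inv_mul_eq_one] at h1
    exact Subtype.ext h1.symm
  obtain ⟨⟨_, x, hx, rfl⟩, e⟩ := (Finite.injective_iff_surjective.1 hinj) ⟨π v, v, hv, rfl⟩
  refine ⟨x, hx, (hπN _).1 ?_⟩
  have e' : ⁅π x, π a⁆ = π v := congrArg Subtype.val e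
  rw [map_mul, map_inv, map_commutatorElement, e', inv_mul_cancel]

theorem centralizer_eq_bot (hp : p.Prime) (hp2 : p ≠ 2) (hq : q.Prime) (hne : q ≠ p)
    (hR : IsPGroup q R) (ha : orderOf a = p) (htop : R ⊔ zpowers a = ⊤)
    (hgen : ⁅R, zpowers a⁆ = R) (hcomm : ∀ r ∈ R, Commute ⁅r, a⁆ (a * ⁅r, a⁆ * a⁻¹)) :
    ∀ x ∈ R, a * x = x * a → x = 1 := by
  have := Fact.mk hp
  have := Fact.mk hq
  have := hR.isNilpotent
  obtain ⟨n, hn⟩ := (isNilpotent_iff_lowerCentralSeries R).1 ‹_›
  have hLn : ∀ i, (R.lowerCentralSeries i).Normal := by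
    intro i
    induction i with
    | zero => simpa
    | succ i ih => rw [Subgroup.lowerCentralSeries_succ]; exact Subgroup.commutator_normal _ _
  have hLle : ∀ i, R.lowerCentralSeries i ≤ R := fun i => Subgroup.lowerCentralSeries_antitone R i.zero_le
  have hLsucc : ∀ i, R.lowerCentralSeries (i + 1) ≤ R.lowerCentralSeries i := fun i =>
    Subgroup.lowerCentralSeries_antitone R (Nat.le_succ i)
  have hcop : (Nat.card (zpowers a)).Coprime (Nat.card R) := by
    obtain ⟨e, he⟩ := IsPGroup.iff_card.1 hR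
    rw [Nat.card_zpowers, ha, he]
    exact ((Nat.coprime_primes hp hq).2 hne.symm).pow_right e
  -- fixed points of an abelian image equal to its commutator with `a`
  have habfix : ∀ (N M : Subgroup G) [N.Normal] [M.Normal], M ≤ R →
      (∀ x ∈ M, ∀ y ∈ M, ⁅x, y⁆ ∈ N) → M ≤ N ⊔ ⁅M, zpowers a⁆ →
      ∀ x ∈ M, ⁅x, a⁆ ∈ N → x ∈ N := by
    intro N M _ _ hMR hab hMle x hx hxa
    set π := QuotientGroup.mk' N
    set V := M.map π
    have hVc : IsMulCommutative V := by
      refine ⟨⟨?_⟩⟩
      rintro ⟨_, x, hx, rfl⟩ ⟨_, y, hy, rfl⟩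
      refine Subtype.ext (commutatorElement_eq_one_iff_mul_comm.1 ?_)
      show ⁅π x, π y⁆ = 1
      rw [← map_commutatorElement]
      exact (QuotientGroup.eq_one_iff _).2 (hab x hx y hy)
    have hVn : V.Normal := Subgroup.Normal.map inferInstance π (QuotientGroup.mk'_surjective N)
    have hAV : (zpowers a).map π ≤ normalizer (V : Set (G ⧸ N)) := by
      rw [normalizer_eq_top_iff.2 hVn]; exact le_top
    have hcop' : (Nat.card ((zpowers a).map π)).Coprime (Nat.card V) :=
      Nat.Coprime.of_dvd (card_map_dvd _ _) ((card_map_dvd M π).trans (card_dvd_of_le hMR)) hcop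
    have hbot := Coprime.centralizer_inf_commutator_eq_bot hAV hcop'
    have hxV : π x ∈ V ⊓ centralizer ((zpowers a).map π : Set (G ⧸ N)) := by
      refine mem_inf.2 ⟨mem_map_of_mem π hx, ?_⟩
      rw [MonoidHom.map_zpowers]
      refine mem_centralizer_iff.2 ?_
      rintro _ ⟨k, rfl⟩
      have h1 : ⁅π x, π a⁆ = 1 := by
        rw [← map_commutatorElement]; exact (QuotientGroup.eq_one_iff _).2 hxa
      exact ((commutatorElement_eq_one_iff_commute.1 h1).symm.zpow_left k).eq
    have hxC : π x ∈ ⁅V, (zpowers a).map π⁆ := by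
      rw [← map_commutator]
      have := mem_map_of_mem π (hMle hx)
      rw [Subgroup.map_sup] at this
      rwa [show N.map π = ⊥ from (Subgroup.map_eq_bot_iff _).2 (QuotientGroup.ker_mk' N).ge,
        bot_sup_eq] at this
    have : π x ∈ (V ⊓ centralizer ((zpowers a).map π : Set (G ⧸ N))) ⊓ ⁅V, (zpowers a).map π⁆ :=
      mem_inf.2 ⟨hxV, hxC⟩
    rw [hbot, mem_bot] at this
    exact (QuotientGroup.eq_one_iff _).1 this
  have key : ∀ i, ∀ x ∈ R.lowerCentralSeries i, ⁅x, a⁆ ∈ R.lowerCentralSeries (i + 1) →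
      x ∈ R.lowerCentralSeries (i + 1) := by
    intro i
    induction i with
    | zero =>
      have := hLn 1
      refine habfix (R.lowerCentralSeries 1) R le_rfl (fun x hx y hy => ?_) ?_
      · exact commutator_mem_commutator hx hy
      · rw [hgen]; exact le_sup_right
    | succ i ih =>
      have := hLn i
      have := hLn (i + 1)
      have := hLn (i + 2)
      set N := R.lowerCentralSeries (i + 2) ⊔ ⁅R.lowerCentralSeries (i + 1), zpowers a⁆ with hN
      have hcomle : ⁅R.lowerCentralSeries (i + 1), zpowers a⁆ ≤ R.lowerCentralSeries (i + 1) :=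
        Subgroup.commutator_le_left _ _
      have hNle : N ≤ R.lowerCentralSeries (i + 1) := sup_le (hLsucc _) hcomle
      have hNn : N.Normal := by
        rw [← normalizer_eq_top_iff, eq_top_iff, ← htop]
        refine sup_le (fun r hr => conj_mem_normalizer fun x hx => ?_)
          (zpowers_le.2 (conj_mem_normalizer fun x hx => ?_))
        · have h1 : ⁅r, x⁆ ∈ R.lowerCentralSeries (i + 2) := by
            rw [← commutatorElement_inv]
            exact inv_mem (commutator_mem_commutator (hNle hx) hr)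
          rw [show r * x * r⁻¹ = ⁅r, x⁆ * x by rw [commutatorElement_def]; group]
          exact mul_mem (mem_sup_left h1) hx
        · have hxL := hNle hx
          have h1 : ⁅x, a⁆ ∈ N :=
            mem_sup_right (commutator_mem_commutator hxL (mem_zpowers a))
          rw [show a * x * a⁻¹ = ⁅x, a⁆⁻¹ * x by rw [commutatorElement_def]; group]
          exact mul_mem (inv_mem h1) hx
      suffices hsub : R.lowerCentralSeries (i + 1) ≤ N by
        intro x hx hxa
        exact habfix (R.lowerCentralSeries (i + 2)) (R.lowerCentralSeries (i + 1)) (hLle _)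
          (fun x hx y hy => commutator_mem_commutator hx (hLle _ hy)) hsub x hx hxa
      set π := QuotientGroup.mk' N with hπ
      have hπN : ∀ z, π z = 1 ↔ z ∈ N := fun z => QuotientGroup.eq_one_iff z
      have hcen : ∀ m ∈ R.lowerCentralSeries (i + 1), ∀ g : G ⧸ N, g * π m = π m * g := by
        intro m hm g
        obtain ⟨g, rfl⟩ := QuotientGroup.mk'_surjective N g
        have hg : g ∈ (⊤ : Subgroup G) := mem_top g
        have hle : R ⊔ zpowers a ≤ (centralizer ({π m} : Set (G ⧸ N))).comap π := by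
          refine sup_le (fun r hr => ?_) (zpowers_le.2 ?_)
          · refine mem_centralizer_singleton_iff.2 (commutatorElement_eq_one_iff_mul_comm.1 ?_).symm
            rw [← map_commutatorElement, hπN]
            exact mem_sup_left (commutator_mem_commutator hm hr)
          · refine mem_centralizer_singleton_iff.2 (commutatorElement_eq_one_iff_mul_comm.1 ?_).symm
            rw [← map_commutatorElement, hπN]
            exact mem_sup_right (commutator_mem_commutator hm (mem_zpowers a))
        rw [htop] at hle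
        exact mem_centralizer_singleton_iff.1 (hle hg)
      have hLmem : ∀ w ∈ R.lowerCentralSeries i, ∀ u ∈ R, ⁅u, w⁆ ∈ R.lowerCentralSeries (i + 1) :=
        fun w hw u hu => by
          rw [← commutatorElement_inv]
          exact inv_mem (commutator_mem_commutator hw hu)
      let c : G → G → G ⧸ N := fun u w => ⁅π u, π w⁆
      have hc : ∀ u ∈ R, ∀ w ∈ R.lowerCentralSeries i, ∀ g, g * c u w = c u w * g := by
        intro u hu w hw g
        show g * ⁅π u, π w⁆ = ⁅π u, π w⁆ * g
        rw [← map_commutatorElement]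
        exact hcen _ (hLmem w hw u hu) g
      have hσR : ∀ u ∈ R, a * u * a⁻¹ ∈ R := fun u hu => ‹R.Normal›.conj_mem u hu a
      have hσL : ∀ w ∈ R.lowerCentralSeries i, a * w * a⁻¹ ∈ R.lowerCentralSeries i :=
        fun w hw => (hLn i).conj_mem w hw a
      have hinv : ∀ u ∈ R, ∀ w ∈ R.lowerCentralSeries i,
          c (a * u * a⁻¹) (a * w * a⁻¹) = c u w := by
        intro u hu w hw
        show ⁅π _, π _⁆ = _
        simp only [map_mul, map_inv]
        rw [← conj_commutator, hc u hu w hw, mul_inv_cancel_right]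
      have hδR : ∀ u ∈ R, ⁅u, a⁆ ∈ R := fun u hu => hgen ▸ commutator_mem_commutator hu (mem_zpowers a)
      have hδL : ∀ w ∈ R.lowerCentralSeries i, ⁅w, a⁆ ∈ R.lowerCentralSeries i := fun w hw => by
        rw [commutatorElement_def, show w * a * w⁻¹ * a⁻¹ = w * (a * w⁻¹ * a⁻¹) by group]
        exact mul_mem hw (hσL _ (inv_mem hw))
      -- the symmetry
      have hsym : ∀ u ∈ R, ∀ w ∈ R.lowerCentralSeries i,
          c ⁅u, a⁆ (a * ⁅w, a⁆ * a⁻¹) = c (a * ⁅u, a⁆ * a⁻¹) ⁅w, a⁆ := by
        intro u hu w hw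
        set U := ⁅u, a⁆ with hU
        set W := ⁅w, a⁆ with hW
        have hUR := hδR u hu
        have hWL := hδL w hw
        have hm : ⁅u, W⁆ ∈ R.lowerCentralSeries (i + 1) := hLmem W hWL u hu
        have e : ⁅u * w, a⁆ = ⁅u, W⁆ * W * U := by
          simp only [hU, hW, commutatorElement_def]; group
        have h0 := hcomm (u * w) (mul_mem hu (hLle i hw))
        rw [e] at h0
        have h1 : Commute (π W * π U) (π a * (π W * π U) * (π a)⁻¹) := by
          have h2 := h0.map π
          simp only [map_mul, map_inv] at h2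
          have hz := hcen _ hm
          set z := π ⁅u, W⁆ with hzd
          have hzc : ∀ g, Commute g z := fun g => hz g
          have hzi : ∀ g, Commute g z⁻¹ := fun g => (hzc g).inv_right
          have e2 : π a * (z * π W * π U) * (π a)⁻¹ = z * (π a * (π W * π U) * (π a)⁻¹) := by
            rw [mul_assoc z, ← mul_assoc (π a) z, (hzc (π a)).eq]; group
          rw [e2, mul_assoc z (π W)] at h2
          have h3 := ((hzi (π W * π U)).symm.mul_left
            ((Commute.refl _))).eq
          show π W * π U * (π a * (π W * π U) * (π a)⁻¹) = π a * (π W * π U) * (π a)⁻¹ * (π W * π U)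
          have h4 := h2.eq
          set A := π W * π U
          set B := π a * A * (π a)⁻¹
          calc A * B = z⁻¹ * z⁻¹ * (z * A * (z * B)) := by
                rw [mul_assoc z A, ← mul_assoc A z, (hzc A).eq]; group
            _ = z⁻¹ * z⁻¹ * (z * B * (z * A)) := by rw [h4]
            _ = B * A := by rw [mul_assoc z B, ← mul_assoc B z, (hzc B).eq]; group
        have hUU : Commute (π U) (π a * π U * (π a)⁻¹) := by
          have := (hcomm u hu).map π; simpa only [map_mul, map_inv] using this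
        have hWW : Commute (π W) (π a * π W * (π a)⁻¹) := by
          have := (hcomm w (hLle i hw)).map π; simpa only [map_mul, map_inv] using this
        show ⁅π U, π (a * W * a⁻¹)⁆ = ⁅π (a * U * a⁻¹), π W⁆
        simp only [map_mul, map_inv]
        set X := π a * π U * (π a)⁻¹ with hX
        set Y := π a * π W * (π a)⁻¹ with hY
        have c1 : ∀ g, g * ⁅π U, Y⁆ = ⁅π U, Y⁆ * g := by
          intro g
          have := hc U hUR (a * W * a⁻¹) (hσL W hWL) g
          simpa only [c, map_mul, map_inv, ← hY] using this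
        have c2 : ∀ g, g * ⁅X, π W⁆ = ⁅X, π W⁆ * g := by
          intro g
          have := hc (a * U * a⁻¹) (hσR U hUR) W hWL g
          simpa only [c, map_mul, map_inv, ← hX] using this
        have hB : π a * (π W * π U) * (π a)⁻¹ = Y * X := by rw [hX, hY]; group
        rw [hB] at h1
        have l : π W * π U * (Y * X) = ⁅π U, Y⁆ * (π W * Y * (π U * X)) := by
          calc π W * π U * (Y * X) = π W * ⁅π U, Y⁆ * (Y * (π U * X)) := by
                simp only [commutatorElement_def]; group
            _ = ⁅π U, Y⁆ * π W * (Y * (π U * X)) := by rw [c1]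
            _ = ⁅π U, Y⁆ * (π W * Y * (π U * X)) := by group
        have r : Y * X * (π W * π U) = ⁅X, π W⁆ * (π W * Y * (π U * X)) := by
          calc Y * X * (π W * π U) = Y * ⁅X, π W⁆ * (π W * (X * π U)) := by
                simp only [commutatorElement_def]; group
            _ = ⁅X, π W⁆ * Y * (π W * (X * π U)) := by rw [c2]
            _ = ⁅X, π W⁆ * (Y * π W * (X * π U)) := by group
            _ = ⁅X, π W⁆ * (π W * Y * (π U * X)) := by rw [hWW.eq, hUU.eq]
        exact mul_right_cancel (l.symm.trans (h1.eq.trans r))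
      have hkill : ∀ u ∈ R, ∀ w ∈ R.lowerCentralSeries i,
          c ⁅u, a⁆ ⁅(⁅w, a⁆)⁻¹, a ^ 2⁆ = 1 := by
        intro u hu w hw
        have hWL := hδL w hw
        have hUR := hδR u hu
        have h1 := hsym u hu (a * w * a⁻¹) (hσL w hw)
        rw [show ⁅a * w * a⁻¹, a⁆ = a * ⁅w, a⁆ * a⁻¹ by simp only [commutatorElement_def]; group,
          hinv _ hUR _ hWL] at h1
        set U := ⁅u, a⁆
        set W := ⁅w, a⁆
        set W2 := a * (a * W * a⁻¹) * a⁻¹ with hW2
        have hW2L : W2 ∈ R.lowerCentralSeries i := hσL _ (hσL _ hWL)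
        rw [show ⁅W⁻¹, a ^ 2⁆ = W⁻¹ * W2 by rw [hW2, commutatorElement_def, pow_two]; group]
        show ⁅π U, π (W⁻¹ * W2)⁆ = 1
        rw [map_mul, mul_right_central (fun g => hc U hUR W2 hW2L g)]
        have h2 : ⁅π U, π W⁻¹⁆ * ⁅π U, π W⁆ = 1 := by
          rw [← mul_right_central (fun g => hc U hUR W hWL g), map_inv, inv_mul_cancel,
            commutatorElement_one_right]
        rw [show ⁅π U, π W2⁆ = ⁅π U, π W⁆ from h1]
        exact h2
      -- surjectivity
      have hfix2 : ∀ x ∈ R.lowerCentralSeries i, ⁅x, a ^ 2⁆ ∈ R.lowerCentralSeries (i + 1) →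
          x ∈ R.lowerCentralSeries (i + 1) := by
        intro x hx h2
        refine ih x hx ?_
        obtain ⟨k, hk⟩ : ∃ k, p = 2 * k + 1 := (hp.eq_two_or_odd'.resolve_left hp2)
        have e : a = (a ^ 2) ^ (k + 1) := by
          rw [← pow_mul, show 2 * (k + 1) = p + 1 by omega, pow_succ, ← ha, pow_orderOf_eq_one,
            one_mul]
        rw [← QuotientGroup.eq_one_iff] at h2 ⊢
        have hmap : ∀ y : G, (QuotientGroup.mk ⁅x, y⁆ : G ⧸ R.lowerCentralSeries (i + 1)) =
            ⁅(QuotientGroup.mk x : G ⧸ R.lowerCentralSeries (i + 1)), QuotientGroup.mk y⁆ :=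
          fun y => map_commutatorElement (QuotientGroup.mk' (R.lowerCentralSeries (i + 1))) x y
        rw [hmap, commutatorElement_eq_one_iff_commute] at h2 ⊢
        rw [e, QuotientGroup.mk_pow]
        exact h2.pow_right _
      have habi : ∀ x ∈ R.lowerCentralSeries i, ∀ y ∈ R.lowerCentralSeries i,
          ⁅x, y⁆ ∈ R.lowerCentralSeries (i + 1) :=
        fun x hx y hy => commutator_mem_commutator hx (hLle i hy)
      have hσ2L : ∀ w ∈ R.lowerCentralSeries i, a ^ 2 * w * (a ^ 2)⁻¹ ∈ R.lowerCentralSeries i :=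
        fun w hw => (hLn i).conj_mem w hw _
      have hsurjV : ∀ v ∈ R.lowerCentralSeries i, ∀ u ∈ R, c ⁅u, a⁆ v = 1 := by
        intro v hv u hu
        obtain ⟨x, hx, hxv⟩ := exists_commutator hσ2L (hLsucc i) hfix2 habi hv
        obtain ⟨w, hw, hwx⟩ := exists_commutator hσL (hLsucc i) ih habi (inv_mem hx)
        have hUR := hδR u hu
        -- `c U` ignores the next term
        have hign : ∀ y ∈ R.lowerCentralSeries (i + 1), c ⁅u, a⁆ y = 1 := fun y hy => by
          show ⁅π _, π _⁆ = 1
          exact commutatorElement_eq_one_iff_mul_comm.2 (hcen y hy _)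
        have hW : ⁅w, a⁆⁻¹ * (x : G) ∈ R.lowerCentralSeries i := mul_mem (inv_mem (hδL w hw)) hx
        have h1 : π ⁅(⁅w, a⁆)⁻¹, a ^ 2⁆ = π ⁅x, a ^ 2⁆ := by
          have hxz : x⁻¹ * ⁅w, a⁆⁻¹ ∈ R.lowerCentralSeries (i + 1) := by
            have := (hLn (i + 1)).conj_mem _ (inv_mem hwx) x⁻¹
            rwa [show x⁻¹ * (x⁻¹⁻¹ * ⁅w, a⁆)⁻¹ * x⁻¹⁻¹ = x⁻¹ * ⁅w, a⁆⁻¹ by group] at this
          have hz := hcen _ hxz
          rw [map_commutatorElement, map_commutatorElement, map_inv]
          have e : (π ⁅w, a⁆)⁻¹ = π x * π (x⁻¹ * ⁅w, a⁆⁻¹) := by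
            rw [map_mul, map_inv, map_inv, mul_inv_cancel_left]
          rw [e]
          rw [mul_left_central (fun g => ?_)]
          · rw [show ⁅π (x⁻¹ * ⁅w, a⁆⁻¹), π (a ^ 2)⁆ = 1 from
              commutatorElement_eq_one_iff_mul_comm.2 (hz _).symm, mul_one]
          · rw [commutatorElement_eq_one_iff_mul_comm.2 (hz _).symm]; simp
        have hk := hkill u hu w hw
        show ⁅π _, π v⁆ = 1
        have hk' : ⁅π ⁅u, a⁆, π ⁅x, a ^ 2⁆⁆ = 1 := by rw [← h1]; exact hk
        have e : π ⁅x, a ^ 2⁆ = π v * π (v⁻¹ * ⁅x, a ^ 2⁆) := by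
          rw [← map_mul, mul_inv_cancel_left]
        rw [e, mul_right_central (fun g => hc _ hUR _ (hLsucc i hxv) g),
          show ⁅π ⁅u, a⁆, π (v⁻¹ * ⁅x, a ^ 2⁆)⁆ = 1 from hign _ hxv, mul_one] at hk'
        exact hk'
      rw [Subgroup.lowerCentralSeries_succ, commutator_le]
      intro v hv u hu
      rw [← commutatorElement_inv]
      refine inv_mem ((hπN _).1 ?_)
      rw [map_commutatorElement]
      have hu' : u ∈ ⁅R, zpowers a⁆ := hgen.symm ▸ hu
      have hall : ∀ y ∈ ⁅R, zpowers a⁆, y ∈ R ∧ ⁅π y, π v⁆ = 1 := by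
        intro y hy
        rw [Subgroup.commutator_def] at hy
        induction hy using Subgroup.closure_induction with
        | mem y hy =>
          obtain ⟨r, hr, z, hz, rfl⟩ := hy
          obtain ⟨k, hk⟩ : ∃ k : ℕ, a ^ k = z := by
            rw [← mem_powers_iff_mem_zpowers] at hz; exact hz
          subst hk
          clear hu' hu hz
          induction k generalizing r with
          | zero => simp
          | succ k ihk =>
            have e : ⁅r, a ^ (k + 1)⁆ = ⁅r, a⁆ * ⁅a * r * a⁻¹, a ^ k⁆ * ⁅a, a ^ k⁆ := by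
              rw [show ⁅a, a ^ k⁆ = 1 from
                commutatorElement_eq_one_iff_mul_comm.2 (((Commute.refl a).pow_right k).eq), mul_one,
                pow_succ']
              simp only [commutatorElement_def]; group
            rw [e, show ⁅a, a ^ k⁆ = 1 from
              commutatorElement_eq_one_iff_mul_comm.2 (((Commute.refl a).pow_right k).eq), mul_one]
            obtain ⟨h1, h2⟩ := ihk (a * r * a⁻¹) (hσR r hr)
            refine ⟨mul_mem (hδR r hr) h1, ?_⟩
            rw [map_mul, mul_left_central (fun g => hc _ h1 _ hv g), h2, mul_one]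
            exact hsurjV v hv r hr
        | one => exact ⟨one_mem _, by simp⟩
        | mul y z _ _ hy hz =>
          refine ⟨mul_mem hy.1 hz.1, ?_⟩
          rw [map_mul, mul_left_central (fun g => hc z hz.1 v hv g), hy.2, hz.2, one_mul]
        | inv y _ hy =>
          refine ⟨inv_mem hy.1, ?_⟩
          rw [map_inv, commutatorElement_eq_one_iff_commute]
          exact (commutatorElement_eq_one_iff_commute.1 hy.2).inv_left
      exact (hall u (by rw [hgen]; exact hu)).2
  intro x hx hxa
  have hmem : ∀ i, x ∈ R.lowerCentralSeries i := by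
    intro i
    induction i with
    | zero => simpa using hx
    | succ i ih =>
      refine key i x ih ?_
      rw [commutatorElement_eq_one_iff_mul_comm.2 hxa.symm]
      exact one_mem _
  have := hmem n
  rwa [hn, mem_bot] at this

end Cfsg.Agent.PairOdd.Weight
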