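import Cfsg.Agent.PairOdd.Lines
import Cfsg.Agent.PairOdd.Weight
import Cfsg.Agent.Core.Fitting

/-!
# Solvable groups generated by a `Sys` family

`G = R ⊔ A` with a normal `q`-group `R`, the points of `R` fixed by a member are central, and the
derived subgroup of `R` is central when the lines have nonabelian derived subgroup.
-/

set_option autoImplicit false
set_option linter.unusedSectionVars false

namespace Cfsg.Agent.PairOdd

open Subgroup
open scoped Pointwise commutatorElement

universe u

variable {G : Type u} [Group G] {p q : ℕ} {D : Set (Subgroup G)}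

theorem conj_mem_smul {g x : G} {H : Subgroup G} (hx : x ∈ H) :
    g * x * g⁻¹ ∈ MulAut.conj g • H := Coprime.conj_mem_conj_smul hx

/-- A normal nilpotent subgroup normalising a subgroup of prime order centralises it. -/
theorem le_centralizer_of_normal_prime [Finite G] {W A : Subgroup G} [W.Normal] (hp : p.Prime)
    (hW : Group.IsNilpotent W) (hA : Nat.card A = p) (hn : W ≤ normalizer (A : Set G)) :
    W ≤ centralizer (A : Set G) := by
  have hle : ⁅W, A⁆ ≤ W ⊓ A := le_inf (commutator_le_left W A)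
    (commutator_le.2 fun w hw a ha => by
      rw [commutatorElement_def]
      exact mul_mem ((mem_normalizer_iff.1 (hn hw) a).1 ha) (inv_mem ha))
  rcases eq_or_ne (W ⊓ A) ⊥ with e | e
  · exact (commutator_eq_bot_iff_le_centralizer.1 (le_bot_iff.1 (hle.trans e.le)))
  · have hAW : A ≤ W := by
      have := Fact.mk hp
      rcases (Nat.dvd_prime hp).1 (hA ▸ card_dvd_of_le (inf_le_right : W ⊓ A ≤ A)) with h1 | h1
      · exact absurd (eq_bot_of_card_eq _ h1) e
      · exact inf_eq_right.1 (eq_of_le_of_card_ge inf_le_right (by rw [h1, hA]))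
    by_contra hc
    have hne : ⁅A, W⁆ ≠ ⊥ := fun e1 => hc
      (le_centralizer_iff.1 (commutator_eq_bot_iff_le_centralizer.1 e1))
    have hsub : ⁅A, W⁆ ≤ A := commutator_le.2 fun a ha w hw => by
      rw [commutatorElement_def, mul_assoc, mul_assoc, ← mul_assoc w]
      exact mul_mem ha ((mem_normalizer_iff.1 (hn hw) _).1 (inv_mem ha))
    have heq : ⁅A, W⁆ = A := by
      have := Fact.mk hp
      rcases (Nat.dvd_prime hp).1 (hA ▸ card_dvd_of_le hsub) with h1 | h1
      · exact absurd (eq_bot_of_card_eq _ h1) hne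
      · exact eq_of_le_of_card_ge hsub (by rw [h1, hA])
    have hall : ∀ n, A ≤ W.lowerCentralSeries n := by
      intro n
      induction n with
      | zero => simpa using hAW
      | succ n ih =>
        rw [Subgroup.lowerCentralSeries_succ]
        exact heq.ge.trans (commutator_mono ih le_rfl)
    obtain ⟨n, hn⟩ := (isNilpotent_iff_lowerCentralSeries W).1 hW
    have := hall n
    rw [hn, le_bot_iff] at this
    rw [this, card_bot] at hA
    exact hp.one_lt.ne hA

namespace Sys

variable [Finite G] (h : Sys p q D)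
include h

theorem isPGroup_derived_line {A B : Subgroup G} (hA : A ∈ D) (hB : B ∈ D) (hne : A ≠ B)
    (hK : Nat.card (A ⊔ B : Subgroup G) = p * Nat.card (⁅A ⊔ B, A ⊔ B⁆ : Subgroup G)) :
    IsPGroup q (⁅A ⊔ B, A ⊔ B⁆ : Subgroup G) := by
  obtain ⟨e, -, he⟩ := h.line A hA B hB hne
  exact IsPGroup.of_card (n := e) (Nat.eq_of_mul_eq_mul_left h.pp.pos (hK.symm.trans he))

theorem line_derived [Group.IsSolvable G] {A B : Subgroup G} (hA : A ∈ D) (hB : B ∈ D)
    (hne : A ≠ B) :
    IsPGroup q (⁅A ⊔ B, A ⊔ B⁆ : Subgroup G) ∧ A ⊔ B = ⁅A ⊔ B, A ⊔ B⁆ ⊔ A ∧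
      Nat.card (A ⊔ B : Subgroup G) = p * Nat.card (⁅A ⊔ B, A ⊔ B⁆ : Subgroup G) := by
  have := Fact.mk h.pp
  set F := A ⊔ B with hF
  set K := ⁅F, F⁆ with hKdef
  have hKF : K ≤ F := commutator_le_self F
  have hFn : F ≤ normalizer (K : Set G) := fun x hx => by
      refine mem_normalizer_of_smul ?_
      rw [hKdef, conj_smul_commutator, conj_smul_eq_self (le_normalizer hx)]
  have hAF : A ≤ F := le_sup_left
  obtain ⟨g, hg, hgA⟩ := h.conj_line hA hB hne
  have hsup : F = K ⊔ A := by
    refine le_antisymm (sup_le le_sup_right ?_) (sup_le hKF hAF)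
    rw [← hgA]
    rintro _ ⟨a, ha, rfl⟩
    show MulAut.conj g a ∈ K ⊔ A
    rw [MulAut.conj_apply, show g * a * g⁻¹ = ⁅g, a⁆ * a by rw [commutatorElement_def]; group]
    exact mul_mem (mem_sup_left (commutator_mem_commutator hg (hAF ha))) (mem_sup_right ha)
  have hdvd : Nat.card K ∣ Nat.card F := card_dvd_of_le hKF
  have hKA : K ⊓ A = ⊥ := by
    by_contra e
    have hAK : A ≤ K := h.toPre.le_of_inter hA (by rwa [inf_comm])
    have hKtop : K = F := le_antisymm hKF (hsup.le.trans (sup_le le_rfl hAK))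
    have hsol : Group.IsSolvable F := inferInstance
    refine absurd hKtop (ne_of_lt ?_)
    refine lt_of_le_of_ne hKF fun e1 => ?_
    have hperf : ∀ n, (derivedSeries F n).map F.subtype = F := by
      intro n
      induction n with
      | zero => rw [derivedSeries_zero, ← MonoidHom.range_eq_map, range_subtype]
      | succ n ih => rw [derivedSeries_succ, map_commutator, ih]; exact e1
    obtain ⟨n, hn⟩ := hsol
    have := hperf n
    rw [hn, Subgroup.map_bot] at this
    exact h.toPre.ne_bot hA (le_bot_iff.1 (this ▸ hAF))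
  have hcard : Nat.card F = p * Nat.card K := by
    rw [hsup, Coprime.card_sup_eq_mul (hAF.trans hFn) hKA, h.card A hA, mul_comm]
  exact ⟨h.isPGroup_derived_line hA hB hne hcard, hsup, hcard⟩

/-- A solvable group generated by the members. -/
theorem solvable_structure [Group.IsSolvable G] (hgen : sSup D = ⊤) {A₀ B₀ : Subgroup G}
    (hA₀ : A₀ ∈ D) (hB₀ : B₀ ∈ D) (hne₀ : A₀ ≠ B₀) :
    ∃ R : Subgroup G, R.Normal ∧ IsPGroup q R ∧
      ∀ A ∈ D, R ⊔ A = ⊤ ∧ ⁅R, A⁆ = R ∧ R ⊓ centralizer (A : Set G) ≤ center G ∧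
        (Ab (A₀ ⊔ B₀) → R ⊓ centralizer (A : Set G) = ⊥) ∧
        (¬ Ab (A₀ ⊔ B₀) → ⁅R, R⁆ ≤ center G) := by
  have := Fact.mk h.qq
  have := Fact.mk h.pp
  set R := Cfsg.pCore q G with hRdef
  have hR : IsPGroup q R := Core.pCore_isPGroup
  have hRn : R.Normal := inferInstance
  set π := QuotientGroup.mk' R with hπ
  set W := Cfsg.fittingSubgroup (G ⧸ R) with hWdef
  -- every member centralises `W`
  have hcen : ∀ A ∈ D, A.map π ≤ centralizer (W : Set (G ⧸ R)) := by
    intro A hA
    rw [le_centralizer_iff]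
    have hAp : Nat.card (A.map π) = p := by
      rcases (Nat.dvd_prime h.pp).1 (h.card A hA ▸ card_map_dvd A π) with h1 | h1
      · exfalso
        have h2 : A ≤ R := by
          rw [← QuotientGroup.ker_mk' R, ← Subgroup.map_eq_bot_iff]
          exact eq_bot_of_card_eq _ h1
        obtain ⟨n, hn⟩ := IsPGroup.iff_card.1 (hR.to_le h2)
        rw [h.card A hA] at hn
        exact h.qp ((Nat.prime_dvd_prime_iff_eq h.pp h.qq).1
          (h.pp.dvd_of_dvd_pow (dvd_of_eq hn))).symm
      · exact h1
    refine le_centralizer_of_normal_prime h.pp inferInstance hAp fun w hw => ?_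
    obtain ⟨w, rfl⟩ := QuotientGroup.mk'_surjective R w
    refine mem_normalizer_of_smul ?_
    rw [← map_smul_conj]
    by_cases e : A = MulAut.conj w • A
    · rw [← e]
    have hB := h.inv A hA w
    obtain ⟨hK, hsup, -⟩ := h.line_derived hA hB e
    set F := A ⊔ MulAut.conj w • A
    set V := W.comap π
    have hVn : V.Normal := inferInstance
    have hKV : ⁅F, F⁆ ≤ V := by
      have hFle : F ≤ V ⊔ A := sup_le le_sup_right (by
        rintro _ ⟨a, ha, rfl⟩
        show MulAut.conj w a ∈ V ⊔ A
        rw [MulAut.conj_apply, show w * a * w⁻¹ = w * (a * w⁻¹ * a⁻¹) * a by group]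
        exact mul_mem (mem_sup_left (mul_mem hw (hVn.conj_mem _ (inv_mem hw) a)))
          (mem_sup_right ha))
      refine (commutator_mono hFle hFle).trans ?_
      refine le_trans ?_ (QuotientGroup.ker_mk' V).le
      rw [← Subgroup.map_eq_bot_iff, map_commutator, Subgroup.map_sup,
        show V.map (QuotientGroup.mk' V) = ⊥ from
          (Subgroup.map_eq_bot_iff _).2 (QuotientGroup.ker_mk' V).ge, bot_sup_eq,
        commutator_eq_bot_iff_le_centralizer, le_centralizer_iff_isMulCommutative]
      have := h.toPre.isCyclic hA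
      infer_instance
    have hK1 : ⁅F, F⁆.map π = ⊥ := by
      have h1 : ⁅F, F⁆.map π ≤ W := map_le_iff_le_comap.2 hKV
      have hq : IsPGroup q (⁅F, F⁆.map π) := hK.map π
      have h2 : Cfsg.pCore q (G ⧸ R) = ⊥ := Core.pCore_quotient_eq_bot
      refine le_bot_iff.1 (h2 ▸ ?_)
      have hWq : ∀ x ∈ W, (∃ k, orderOf x = q ^ k) → x ∈ Cfsg.pCore q (G ⧸ R) := by
        intro x hx ⟨k, hk⟩
        have hnil : Group.IsNilpotent W := inferInstance
        obtain ⟨P⟩ := (inferInstance : Nonempty (Sylow q W))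
        have hPn : (P : Subgroup W).Normal := inferInstance
        have hPc := P.characteristic_of_normal hPn
        have hn : ((P : Subgroup W).map W.subtype).Normal := inferInstance
        refine Core.le_pCore (hN := hn) (P.2.map _) ⟨⟨x, hx⟩, ?_, rfl⟩
        obtain ⟨Q, hQ⟩ := (IsPGroup.of_card (n := k) (p := q)
          (G := zpowers (⟨x, hx⟩ : W)) (by
            rw [Nat.card_zpowers, Subgroup.orderOf_mk, hk])).exists_le_sylow
        have := Sylow.unique_of_normal P hPn
        rw [← Subsingleton.elim Q P]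
        exact hQ (mem_zpowers _)
      intro x hx
      exact hWq x (h1 hx) (by
        obtain ⟨k, hk⟩ := IsPGroup.iff_orderOf.1 hq ⟨x, hx⟩
        exact ⟨k, by rw [← hk, Subgroup.orderOf_mk]⟩)
    have h3 : (MulAut.conj w • A).map π ≤ A.map π := by
      refine (map_mono (le_sup_right.trans hsup.le)).trans ?_
      rw [Subgroup.map_sup, hK1, bot_sup_eq]
    refine eq_of_le_of_card_ge h3 ?_
    rw [map_smul_conj, Coprime.card_conj_smul]
  have hWc : ∀ x : G ⧸ R, x ∈ centralizer (W : Set (G ⧸ R)) := by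
    have : (⊤ : Subgroup G).map π ≤ centralizer (W : Set (G ⧸ R)) := by
      rw [← hgen, (Subgroup.gc_map_comap π).l_sSup]
      exact iSup₂_le hcen
    intro x
    obtain ⟨g, rfl⟩ := QuotientGroup.mk'_surjective R x
    exact this (mem_map_of_mem π (mem_top g))
  have hWtop : ∀ x y : G ⧸ R, x * y = y * x := fun x y =>
    mem_centralizer_iff.1 (hWc y) x (Core.centralizer_fittingSubgroup_le (hWc x))
  have hcomm : ∀ g x : G, ⁅g, x⁆ ∈ R := fun g x => by
    rw [← QuotientGroup.ker_mk' R, MonoidHom.mem_ker, map_commutatorElement,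
      commutatorElement_eq_one_iff_mul_comm]
    exact hWtop _ _
  have htop : ∀ A ∈ D, R ⊔ A = ⊤ := by
    intro A hA
    rw [eq_top_iff, ← hgen]
    refine sSup_le fun B hB => ?_
    obtain ⟨g, rfl⟩ := h.conj_all hA hB
    rintro _ ⟨a, ha, rfl⟩
    show MulAut.conj g a ∈ R ⊔ A
    rw [MulAut.conj_apply, show g * a * g⁻¹ = ⁅g, a⁆ * a by rw [commutatorElement_def]; group]
    exact mul_mem (mem_sup_left (hcomm g a)) (mem_sup_right ha)
  have hRA : ∀ A ∈ D, R ⊓ A = ⊥ := fun A hA => by
    rw [inf_comm]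
    refine h.toPre.inf_eq_bot hA fun hle => ?_
    obtain ⟨n, hn⟩ := IsPGroup.iff_card.1 (hR.to_le hle)
    rw [h.card A hA] at hn
    exact h.qp ((Nat.prime_dvd_prime_iff_eq h.pp h.qq).1
      (h.pp.dvd_of_dvd_pow (dvd_of_eq hn))).symm
  have hnorm : ∀ A : Subgroup G, A ≤ normalizer (R : Set G) := fun A => by
    rw [normalizer_eq_top_iff.2 hRn]; exact le_top
  have hRcom : ∀ A ∈ D, ⁅R, A⁆ = R := by
    intro A hA
    refine le_antisymm (commutator_le_left R A) fun r hr => ?_
    set N := ⁅R, A⁆
    have hNA : A ≤ normalizer (N : Set G) := by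
      intro a ha
      refine mem_normalizer_of_smul ?_
      rw [conj_smul_commutator, conj_smul_eq_self (hnorm A ha), conj_smul_eq_self (le_normalizer ha)]
    have hNle : N ≤ R := commutator_le_left R A
    have hall : (⊤ : Subgroup G) ≤ N ⊔ A := by
      rw [← hgen]
      refine sSup_le fun B hB => ?_
      obtain ⟨g, rfl⟩ := h.conj_all hA hB
      obtain ⟨s, hs, c, hc, rfl⟩ : ∃ s ∈ R, ∃ c ∈ A, s * c = g := by
        have := mem_top g
        rw [← htop A hA] at this
        exact (Coprime.mem_sup_of_le_normalizer (hnorm A)).1 this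
      rw [map_mul, mul_smul, conj_smul_eq_self (le_normalizer hc)]
      rintro _ ⟨a, ha, rfl⟩
      show MulAut.conj s a ∈ N ⊔ A
      rw [MulAut.conj_apply, show s * a * s⁻¹ = ⁅s, a⁆ * a by rw [commutatorElement_def]; group]
      exact mul_mem (mem_sup_left (commutator_mem_commutator hs ha)) (mem_sup_right ha)
    obtain ⟨n, hn, c, hc, e⟩ :=
      (Coprime.mem_sup_of_le_normalizer hNA).1 (hall (mem_top r))
    have : c ∈ R ⊓ A := mem_inf.2 ⟨by
      rw [show c = n⁻¹ * r by rw [← e, inv_mul_cancel_left]]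
      exact mul_mem (inv_mem (hNle hn)) hr, hc⟩
    rw [hRA A hA, mem_bot] at this
    rw [← e, this, mul_one]
    exact hn
  refine ⟨R, hRn, hR, fun A hA => ⟨htop A hA, hRcom A hA, ?_⟩⟩
  have hcop : (Nat.card A).Coprime (Nat.card R) := by
    obtain ⟨n, hn⟩ := IsPGroup.iff_card.1 hR
    rw [h.card A hA, hn]
    exact ((Nat.coprime_primes h.pp h.qq).2 h.qp.symm).pow_right n
  by_cases hab : Ab (A₀ ⊔ B₀)
  · suffices hbot : R ⊓ centralizer (A : Set G) = ⊥ from
      ⟨hbot.le.trans bot_le, fun _ => hbot, fun h0 => absurd hab h0⟩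
    have := h.toPre.isCyclic hA
    obtain ⟨a, ha⟩ := (Subgroup.isCyclic_iff_exists_zpowers_eq_top A).1 this
    have haord : orderOf a = p := by rw [← Nat.card_zpowers, ha, h.card A hA]
    have key := Weight.centralizer_eq_bot (R := R) (a := a) h.pp h.p2 h.qq h.qp hR haord
      (by rw [ha]; exact htop A hA) (by rw [ha]; exact hRcom A hA) ?_
    · rw [eq_bot_iff]
      intro x hx
      rw [mem_bot]
      exact key x hx.1 (mem_centralizer_iff.1 hx.2 a (ha ▸ mem_zpowers a))
    intro r hr
    have haA : a ∈ A := ha ▸ mem_zpowers a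
    by_cases e : A = MulAut.conj r • A
    · have h1 : ⁅r, a⁆ = 1 := by
        have h2 : ⁅r, a⁆ ∈ R ⊓ A := by
          refine mem_inf.2 ⟨hRcom A hA ▸ commutator_mem_commutator hr haA, ?_⟩
          rw [commutatorElement_def]
          exact mul_mem (e ▸ conj_mem_smul haA) (inv_mem haA)
        rwa [hRA A hA, mem_bot] at h2
      rw [h1]; exact Commute.one_left _
    obtain ⟨hKq, hsup, -⟩ := h.line_derived hA (h.inv A hA r) e
    have hKab := h.ab A₀ hA₀ B₀ hB₀ A hA _ (h.inv A hA r) hne₀ e hab
    set F := A ⊔ MulAut.conj r • A with hF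
    set K := ⁅F, F⁆ with hK
    have hFn : A ≤ normalizer (K : Set G) := by
      intro x hx
      refine mem_normalizer_of_smul ?_
      rw [hK, conj_smul_commutator, conj_smul_eq_self (le_normalizer (mem_sup_left hx : x ∈ F))]
    have hKR : K ≤ R := fun x hx => by
      obtain ⟨r', hr', c, hc, e'⟩ := (Coprime.mem_sup_of_le_normalizer (hnorm A)).1
        (show x ∈ R ⊔ A by rw [htop A hA]; exact mem_top x)
      have hx1 : c = 1 := by
        obtain ⟨k, hk⟩ := IsPGroup.iff_orderOf.1 (hKq.map (QuotientGroup.mk' R))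
          ⟨_, mem_map_of_mem _ hx⟩
        rw [Subgroup.orderOf_mk, ← e', map_mul,
          show QuotientGroup.mk' R r' = 1 from (QuotientGroup.eq_one_iff _).2 hr', one_mul] at hk
        have h1 : orderOf (QuotientGroup.mk' R c) ∣ p :=
          (orderOf_map_dvd _ c).trans (h.card A hA ▸ orderOf_dvd_natCard A hc)
        rcases (Nat.dvd_prime h.pp).1 h1 with h2 | h2
        · have : c ∈ R ⊓ A := mem_inf.2 ⟨(QuotientGroup.eq_one_iff _).1 (orderOf_eq_one_iff.1 h2), hc⟩
          rwa [hRA A hA, mem_bot] at this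
        · exact absurd ((Nat.prime_dvd_prime_iff_eq h.pp h.qq).1
            (h.pp.dvd_of_dvd_pow (dvd_of_eq (h2.symm.trans hk)))) h.qp.symm
      rw [← e', hx1, mul_one]; exact hr'
    have hU : ⁅r, a⁆ ∈ K := by
      have hUR : ⁅r, a⁆ ∈ R := hRcom A hA ▸ commutator_mem_commutator hr haA
      have hUF : ⁅r, a⁆ ∈ F := by
        rw [commutatorElement_def]
        exact mul_mem (mem_sup_right (conj_mem_smul haA)) (inv_mem (mem_sup_left haA))
      obtain ⟨k, hk, c, hc, e'⟩ := (Coprime.mem_sup_of_le_normalizer hFn).1 (hsup.le hUF)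
      have : c ∈ R ⊓ A := mem_inf.2 ⟨by
        rw [show c = k⁻¹ * ⁅r, a⁆ by rw [← e', inv_mul_cancel_left]]
        exact mul_mem (inv_mem (hKR hk)) hUR, hc⟩
      rw [hRA A hA, mem_bot] at this
      rw [← e', this, mul_one]; exact hk
    exact hKab _ hU _ ((mem_normalizer_iff.1 (hFn haA) _).1 hU)
  · -- the derived subgroup is central
    have hder : ⁅R, R⁆ ≤ center G := by
      by_contra hnot
      obtain ⟨N, ⟨hNn, hNle, hNnot⟩, hmin⟩ :=
        Set.Finite.exists_minimal (s := {N : Subgroup G | N.Normal ∧ N ≤ ⁅R, R⁆ ∧ ¬ N ≤ center G})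
          (Set.toFinite _) ⟨⁅R, R⁆, Subgroup.commutator_normal R R, le_rfl, hnot⟩
      have hNR : N ≤ R := hNle.trans (commutator_le_self R)
      have hlt : ⁅N, R⁆ < N := by
        refine lt_of_le_of_ne (commutator_le_left N R) fun e => hNnot ?_
        have hall : ∀ i, N ≤ R.lowerCentralSeries i := by
          intro i
          induction i with
          | zero => simpa using hNR
          | succ i ih => rw [Subgroup.lowerCentralSeries_succ]; exact e.ge.trans (commutator_mono ih le_rfl)
        have := hR.isNilpotent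
        obtain ⟨n, hn⟩ := (isNilpotent_iff_lowerCentralSeries R).1 ‹_›
        exact (hall n).trans (hn ▸ bot_le)
      have hNRc : ⁅N, R⁆ ≤ center G := by
        by_contra h0
        exact hlt.not_ge (hmin ⟨Subgroup.commutator_normal N R, hlt.le.trans hNle, h0⟩ hlt.le)
      have h1 : ⁅⁅N, R⁆, R⁆ = ⊥ := commutator_eq_bot_iff_le_centralizer.2
        (hNRc.trans (center_le_centralizer _))
      have h2 : ⁅⁅R, R⁆, N⁆ = ⊥ := commutator_commutator_eq_bot_of_rotate
        (by rw [commutator_comm R N]; exact h1) h1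
      have hNab : ∀ x ∈ N, ∀ y ∈ N, x * y = y * x := fun x hx y hy =>
        (mem_centralizer_iff.1 (commutator_eq_bot_iff_le_centralizer.1 h2 (hNle hy)) x hx)
      refine hNnot fun n hn => mem_center_iff.2 fun g => ?_
      suffices hle : (⊤ : Subgroup G) ≤ centralizer ({n} : Set G) from
        mem_centralizer_singleton_iff.1 (hle (mem_top g))
      rw [← hgen]
      refine sSup_le fun B hB => le_centralizer_singleton.2 ?_
      refine mem_centralizer_iff.2 fun b hb => ?_
      by_cases e : B = MulAut.conj n • B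
      · have : ⁅n, b⁆ ∈ R ⊓ B := by
          refine mem_inf.2 ⟨commutator_le_left R B (commutator_mem_commutator (hNR hn) hb), ?_⟩
          rw [commutatorElement_def]
          exact mul_mem (e ▸ conj_mem_smul hb) (inv_mem hb)
        rw [hRA B hB, mem_bot, commutatorElement_eq_one_iff_mul_comm] at this
        exact this.symm
      refine absurd (h.ab B hB _ (h.inv B hB n) A₀ hA₀ B₀ hB₀ e hne₀ ?_) hab
      have hle : B ⊔ MulAut.conj n • B ≤ N ⊔ B := sup_le le_sup_right (by
        rintro _ ⟨c, hc, rfl⟩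
        show MulAut.conj n c ∈ N ⊔ B
        rw [MulAut.conj_apply, show n * c * n⁻¹ = n * (c * n⁻¹ * c⁻¹) * c by group]
        exact mul_mem (mem_sup_left (mul_mem hn (hNn.conj_mem _ (inv_mem hn) c))) (mem_sup_right hc))
      have hKN : ⁅B ⊔ MulAut.conj n • B, B ⊔ MulAut.conj n • B⁆ ≤ N := by
        refine (commutator_mono hle hle).trans ?_
        refine le_trans ?_ (QuotientGroup.ker_mk' N).le
        rw [← Subgroup.map_eq_bot_iff, map_commutator, Subgroup.map_sup,
          show N.map (QuotientGroup.mk' N) = ⊥ from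
            (Subgroup.map_eq_bot_iff _).2 (QuotientGroup.ker_mk' N).ge, bot_sup_eq,
          commutator_eq_bot_iff_le_centralizer, le_centralizer_iff_isMulCommutative]
        have := h.toPre.isCyclic hB
        infer_instance
      exact fun x hx y hy => hNab x (hKN hx) y (hKN hy)
    refine ⟨fun x hx => ?_, fun h0 => absurd h0 hab, fun _ => hder⟩
    -- coprime action on the abelian quotient
    set N := ⁅R, R⁆ with hN
    set f := QuotientGroup.mk' N
    have hV : IsMulCommutative (R.map f) := by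
      rw [← le_centralizer_iff_isMulCommutative, ← commutator_eq_bot_iff_le_centralizer,
        ← map_commutator, Subgroup.map_eq_bot_iff, QuotientGroup.ker_mk']
    have hAV : A.map f ≤ normalizer (R.map f : Set (G ⧸ N)) :=
      (map_mono (hnorm A)).trans (le_normalizer_map f)
    have hbot := Coprime.centralizer_inf_commutator_eq_bot hAV
      (Nat.Coprime.of_dvd (card_map_dvd _ _) (card_map_dvd _ _) hcop)
    have h1 : f x ∈ (R.map f ⊓ centralizer (A.map f : Set (G ⧸ N))) ⊓ ⁅R.map f, A.map f⁆ := by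
      refine mem_inf.2 ⟨mem_inf.2 ⟨mem_map_of_mem f hx.1, mem_centralizer_iff.2 ?_⟩, ?_⟩
      · rintro _ ⟨y, hy, rfl⟩
        rw [← map_mul, ← map_mul, mem_centralizer_iff.1 hx.2 y hy]
      · rw [← map_commutator, hRcom A hA]; exact mem_map_of_mem f hx.1
    rw [hbot, mem_bot] at h1
    exact hder ((QuotientGroup.eq_one_iff _).1 h1)

end Sys

end Cfsg.Agent.PairOdd
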