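import Cfsg.Agent.PairOdd.Solvable

/-!
# The structure of the subgroups generated by members

`Str p q D J R`: `J = R ⊔ A` for every member `A` of `J`, with `R` a normal `q`-subgroup of `J`.
-/

set_option autoImplicit false
set_option linter.unusedSectionVars false

namespace Cfsg.Agent.PairOdd

open Subgroup
open scoped Pointwise commutatorElement

universe u

variable {G : Type u} [Group G] {p q : ℕ} {D : Set (Subgroup G)}

/-- Every line has an abelian derived subgroup. -/
def DAb (D : Set (Subgroup G)) : Prop := ∀ A ∈ D, ∀ B ∈ D, A ≠ B → Ab (A ⊔ B)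

/-- The structure of a subgroup generated by members. -/
structure Str (q : ℕ) (D : Set (Subgroup G)) (J R : Subgroup G) : Prop where
  le : R ≤ J
  pgroup : IsPGroup q R
  norm : J ≤ normalizer (R : Set G)
  sup : ∀ A ∈ memb D J, R ⊔ A = J
  comm : ∀ A ∈ memb D J, ⁅R, A⁆ = R
  fix_central : ∀ A ∈ memb D J, R ⊓ centralizer (A : Set G) ≤ centralizer (J : Set G)
  fix_bot : DAb D → ∀ A ∈ memb D J, R ⊓ centralizer (A : Set G) = ⊥
  der : ¬ DAb D → ⁅R, R⁆ ≤ centralizer (J : Set G)

/-- All proper subgroups generated by members have the structure. -/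
def Small (q : ℕ) (D : Set (Subgroup G)) : Prop :=
  ∀ J : Subgroup G, gen D J = J → J ≠ ⊤ → ∃ R, Str q D J R

theorem sSup_comap_subtype {J : Subgroup G} (hJ : gen D J = J) :
    sSup {A : Subgroup J | A.map J.subtype ∈ D} = ⊤ := by
  refine map_injective (f := J.subtype) J.subtype_injective ?_
  rw [← MonoidHom.range_eq_map, range_subtype]
  refine le_antisymm (map_subtype_le _) ?_
  conv_lhs => rw [← hJ]
  refine sSup_le fun A hA => ?_
  have e : (A.subgroupOf J).map J.subtype = A := map_subgroupOf_eq_of_le hA.2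
  exact e.ge.trans (map_mono (le_sSup (show (A.subgroupOf J).map J.subtype ∈ D by rw [e]; exact hA.1)))

namespace Sys

variable [Finite G] (h : Sys p q D)
include h

theorem dab {A B : Subgroup G} (hA : A ∈ D) (hB : B ∈ D) (hne : A ≠ B) (hab : Ab (A ⊔ B)) :
    DAb D := fun C hC E hE hCE => h.ab A hA B hB C hC E hE hne hCE hab

theorem not_dvd_p (hP : IsPGroup q (⊤ : Subgroup G)) {A : Subgroup G} (hA : A ∈ D) : False := by
  have := Fact.mk h.qq
  obtain ⟨n, hn⟩ := IsPGroup.iff_card.1 (hP.to_le (le_top (a := A)))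
  rw [h.card A hA] at hn
  exact h.qp ((Nat.prime_dvd_prime_iff_eq h.pp h.qq).1 (h.pp.dvd_of_dvd_pow (dvd_of_eq hn))).symm

theorem inf_eq_bot_of_qgroup {A R : Subgroup G} (hA : A ∈ D) (hR : IsPGroup q R) : R ⊓ A = ⊥ := by
  rw [inf_comm]
  refine h.toPre.inf_eq_bot hA fun hle => ?_
  have := Fact.mk h.qq
  obtain ⟨n, hn⟩ := IsPGroup.iff_card.1 (hR.to_le hle)
  rw [h.card A hA] at hn
  exact h.qp ((Nat.prime_dvd_prime_iff_eq h.pp h.qq).1 (h.pp.dvd_of_dvd_pow (dvd_of_eq hn))).symm

/-- A solvable subgroup generated by members has the structure. -/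
theorem exists_str {J : Subgroup G} (hJ : gen D J = J) (hsol : Group.IsSolvable J) :
    ∃ R, Str q D J R := by
  by_cases htwo : ∃ A ∈ memb D J, ∃ B ∈ memb D J, A ≠ B
  · obtain ⟨A, hA, B, hB, hne⟩ := htwo
    have hc := h.comap (f := J.subtype) J.subtype_injective
    have hA' : (A.subgroupOf J).map J.subtype = A := map_subgroupOf_eq_of_le hA.2
    have hB' : (B.subgroupOf J).map J.subtype = B := map_subgroupOf_eq_of_le hB.2
    obtain ⟨R, hRn, hR, hall⟩ := hc.solvable_structure (sSup_comap_subtype hJ)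
      (A₀ := A.subgroupOf J) (B₀ := B.subgroupOf J)
      (show _ ∈ D by rw [hA']; exact hA.1) (show _ ∈ D by rw [hB']; exact hB.1)
      (fun e => hne (by rw [← hA', e, hB']))
    have hAb : Ab (A.subgroupOf J ⊔ B.subgroupOf J) ↔ DAb D := by
      constructor
      · intro h0
        refine h.dab hA.1 hB.1 hne ?_
        have := h0.map (f := J.subtype)
        rwa [Subgroup.map_sup, hA', hB'] at this
      · intro h0
        refine Ab.of_map (f := J.subtype) (fun x _ hx => J.subtype_injective hx) ?_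
        rw [Subgroup.map_sup, hA', hB']
        exact h0 A hA.1 B hB.1 hne
    have hget : ∀ C ∈ memb D J, (C.subgroupOf J).map J.subtype = C := fun C hC =>
      map_subgroupOf_eq_of_le hC.2
    have hJn : J ≤ normalizer ((R.map J.subtype : Subgroup G) : Set G) := by
      intro g hg
      refine mem_normalizer_of_smul ?_
      rw [show g = J.subtype ⟨g, hg⟩ from rfl, ← map_smul_conj,
        conj_smul_eq_self (by rw [normalizer_eq_top_iff.2 hRn]; exact mem_top _)]
    have hcen : ∀ x : J, x ∈ center J → (x : G) ∈ centralizer (J : Set G) := fun x hx =>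
      mem_centralizer_iff.2 fun g hg => congrArg Subtype.val (mem_center_iff.1 hx ⟨g, hg⟩)
    have hinf : ∀ C ∈ memb D J, R.map J.subtype ⊓ centralizer (C : Set G) ≤
        (R ⊓ centralizer ((C.subgroupOf J : Subgroup J) : Set J)).map J.subtype := by
      rintro C hC x ⟨⟨r, hr, rfl⟩, hx⟩
      exact ⟨r, mem_inf.2 ⟨hr, mem_centralizer_iff.2 fun c hc => Subtype.ext
        (mem_centralizer_iff.1 hx (c : G) hc)⟩, rfl⟩
    refine ⟨R.map J.subtype, map_subtype_le _, hR.map _, hJn, fun C hC => ?_, fun C hC => ?_,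
      fun C hC => ?_, fun h0 C hC => ?_, fun h0 => ?_⟩
    · have := (hall (C.subgroupOf J) (show _ ∈ D by rw [hget C hC]; exact hC.1)).1
      have := congrArg (Subgroup.map J.subtype) this
      rwa [Subgroup.map_sup, hget C hC, ← MonoidHom.range_eq_map, range_subtype] at this
    · have := (hall (C.subgroupOf J) (show _ ∈ D by rw [hget C hC]; exact hC.1)).2.1
      have := congrArg (Subgroup.map J.subtype) this
      rwa [map_commutator, hget C hC] at this
    · intro x hx
      obtain ⟨r, hr, rfl⟩ := hinf C hC hx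
      exact hcen r ((hall (C.subgroupOf J) (show _ ∈ D by rw [hget C hC]; exact hC.1)).2.2.1 hr)
    · refine le_bot_iff.1 ((hinf C hC).trans ?_)
      rw [(hall (C.subgroupOf J) (show _ ∈ D by rw [hget C hC]; exact hC.1)).2.2.2.1 (hAb.2 h0),
        Subgroup.map_bot]
    · rw [← map_commutator]
      rintro _ ⟨x, hx, rfl⟩
      exact hcen x ((hall (A.subgroupOf J) (show _ ∈ D by rw [hA']; exact hA.1)).2.2.2.2
        (fun h1 => h0 (hAb.1 h1)) hx)
  · push Not at htwo
    refine ⟨⊥, bot_le, IsPGroup.of_bot, ?_, fun A hA => ?_, fun A _ => by simp, fun A _ => by simp,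
      fun _ A _ => by simp,
      fun _ => by simp⟩
    · rw [normalizer_eq_top_iff.2 inferInstance]; exact le_top
    · rw [bot_sup_eq]
      conv_rhs => rw [← hJ]
      exact le_antisymm (le_gen hA.1 hA.2) (sSup_le fun B hB => (htwo B hB A hA).le)

end Sys

namespace Str

variable [Finite G] {J R : Subgroup G} (s : Str q D J R) (h : Sys p q D)
include s h

theorem card_eq {A : Subgroup G} (hA : A ∈ memb D J) : Nat.card J = Nat.card R * p := by
  rw [← s.sup A hA, Coprime.card_sup_eq_mul (hA.2.trans s.norm) (h.inf_eq_bot_of_qgroup hA.1 s.pgroup),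
    h.card A hA.1]

/-- The `q`-subgroups of `J` lie in `R`. -/
theorem le_of_qgroup {A : Subgroup G} (hA : A ∈ memb D J) {S : Subgroup G} (hSJ : S ≤ J)
    (hS : IsPGroup q S) : S ≤ R := by
  have := Fact.mk h.qq
  have h1 : S ≤ normalizer (R : Set G) := hSJ.trans s.norm
  have hq : IsPGroup q (R ⊔ S : Subgroup G) := s.pgroup.to_sup_of_normal_left' hS h1
  obtain ⟨n, hn⟩ := IsPGroup.iff_card.1 hq
  have hd : q ^ n ∣ Nat.card R * p := by
    rw [← hn, ← s.card_eq h hA]
    exact card_dvd_of_le (sup_le s.le hSJ)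
  have hco : (q ^ n).Coprime p := ((Nat.coprime_primes h.qq h.pp).2 h.qp).pow_left n
  have := eq_of_le_of_card_ge (le_sup_left : R ≤ R ⊔ S)
    (Nat.le_of_dvd Nat.card_pos (by rw [hn]; exact hco.dvd_of_dvd_mul_right hd))
  exact this ▸ le_sup_right

theorem conj_eq {g : G} (hg : MulAut.conj g • J = J) {A : Subgroup G} (hA : A ∈ memb D J) :
    MulAut.conj g • R = R := by
  refine eq_of_le_of_card_ge (s.le_of_qgroup h hA ?_ ?_) (card_smul g R).ge
  · exact (conj_smul_le s.le).trans hg.le
  have := Fact.mk h.qq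
  · obtain ⟨n, hn⟩ := IsPGroup.iff_card.1 s.pgroup
    exact IsPGroup.of_card (n := n) (by rw [card_smul, hn])

theorem exists_smul {A B : Subgroup G} (hA : A ∈ memb D J) (hB : B ∈ memb D J) :
    ∃ r ∈ R, MulAut.conj r • A = B := by
  by_cases e : A = B
  · exact ⟨1, one_mem _, by rw [map_one, one_smul, e]⟩
  obtain ⟨g, hg, hgB⟩ := h.conj_line hA.1 hB.1 e
  obtain ⟨r, hr, c, hc, rfl⟩ : ∃ r ∈ R, ∃ c ∈ A, r * c = g :=
    (Coprime.mem_sup_of_le_normalizer (hA.2.trans s.norm)).1
      (by rw [s.sup A hA]; exact sup_le hA.2 hB.2 hg)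
  exact ⟨r, hr, by rwa [map_mul, mul_smul, conj_smul_eq_self (le_normalizer hc)] at hgB⟩

/-- With two members the centre of `J` lies in `R`. -/
theorem center_le {A B : Subgroup G} (hA : A ∈ memb D J) (hB : B ∈ memb D J) (hne : A ≠ B)
    {x : G} (hx : x ∈ J) (hxc : x ∈ centralizer (J : Set G)) : x ∈ R := by
  obtain ⟨r, hr, c, hc, rfl⟩ : ∃ r ∈ R, ∃ c ∈ A, r * c = x :=
    (Coprime.mem_sup_of_le_normalizer (hA.2.trans s.norm)).1 (by rw [s.sup A hA]; exact hx)
  suffices c = 1 by rw [this, mul_one]; exact hr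
  by_contra hc1
  have hrc : Commute r c := by
    have := mem_centralizer_iff.1 hxc c (hA.2 hc)
    show r * c = c * r
    exact mul_right_cancel (b := c) (by rw [mul_assoc c r c]; exact this.symm)
  have hm : c ^ Nat.card R ∈ centralizer (J : Set G) := by
    have := pow_mem hxc (Nat.card R)
    rwa [hrc.mul_pow, show r ^ Nat.card R = 1 from
      orderOf_dvd_iff_pow_eq_one.1 (orderOf_dvd_natCard R hr), one_mul] at this
  have hm1 : c ^ Nat.card R ≠ 1 := by
    intro e
    have := Fact.mk h.qq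
    obtain ⟨n, hn⟩ := IsPGroup.iff_card.1 s.pgroup
    have h1 : orderOf c ∣ q ^ n := hn ▸ orderOf_dvd_of_pow_eq_one e
    exact hc1 (orderOf_eq_one_iff.1 (Nat.eq_one_of_dvd_coprimes
      (((Nat.coprime_primes h.qq h.pp).2 h.qp).pow_left n) h1 (h.card A hA.1 ▸ orderOf_dvd_natCard A hc)))
  have hAc : A ≤ centralizer (J : Set G) := h.toPre.le_of_inter hA.1 fun e => hm1 (by
    have : c ^ Nat.card R ∈ A ⊓ centralizer (J : Set G) := mem_inf.2 ⟨pow_mem hc _, hm⟩
    rwa [e, mem_bot] at this)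
  exact h.nc B hB.1 A hA.1 (Ne.symm hne) (hAc.trans (centralizer_le hB.2))

theorem mem_fix {A B : Subgroup G} (hA : A ∈ memb D J) (hB : B ∈ memb D J) (hne : A ≠ B) {x : G} :
    x ∈ J ∧ x ∈ centralizer (J : Set G) ↔ x ∈ R ⊓ centralizer (A : Set G) :=
  ⟨fun ⟨hx, hxc⟩ => mem_inf.2 ⟨s.center_le h hA hB hne hx hxc, centralizer_le hA.2 hxc⟩,
    fun hx => ⟨s.le hx.1, s.fix_central A hA hx⟩⟩

/-- An element of `R` moving `A` by conjugation generates another member. -/
theorem smul_ne {A : Subgroup G} (hA : A ∈ memb D J) {u : G} (hu : u ∈ R)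
    (hc : u ∉ centralizer (A : Set G)) : MulAut.conj u • A ≠ A := fun e => hc (by
  refine mem_centralizer_iff.2 fun a ha => ?_
  have : ⁅u, a⁆ ∈ R ⊓ A := by
    refine mem_inf.2 ⟨?_, ?_⟩
    · rw [commutatorElement_def, show u * a * u⁻¹ * a⁻¹ = u * (a * u⁻¹ * a⁻¹) by group]
      exact mul_mem hu ((mem_normalizer_iff.1 (s.norm (hA.2 ha)) _).1 (inv_mem hu))
    · rw [commutatorElement_def]
      exact mul_mem (e ▸ conj_mem_smul ha) (inv_mem ha)
  rw [h.inf_eq_bot_of_qgroup hA.1 s.pgroup, mem_bot, commutatorElement_eq_one_iff_mul_comm] at this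
  exact this.symm)

end Str

end Cfsg.Agent.PairOdd
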