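import Cfsg.Agent.PairOdd.Sub

/-!
# A `q`-element centralising a member and normalising a subgroup generated by members

If `d` commutes with the involution `t` and nearly fixes the commutators `⁅u, σ u⁆` of the
`t`-eigenvectors `u`, then `d` centralises the subgroup.
-/

set_option autoImplicit false
set_option linter.unusedSectionVars false

namespace Cfsg.Agent.PairOdd

open Subgroup
open scoped Pointwise commutatorElement

universe u

variable {G : Type u} [Group G] {p q : ℕ} {D : Set (Subgroup G)}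

theorem commutator_sup_le {S A : Subgroup G} (hA : A ≤ normalizer (S : Set G))
    (hab : IsMulCommutative A) : ⁅S ⊔ A, S ⊔ A⁆ ≤ S := by
  refine commutator_le.2 fun x hx y hy => ?_
  obtain ⟨s, hs, c, hc, rfl⟩ := (Coprime.mem_sup_of_le_normalizer hA).1 hx
  obtain ⟨s', hs', c', hc', rfl⟩ := (Coprime.mem_sup_of_le_normalizer hA).1 hy
  have hcc : c * c' = c' * c :=
    congrArg Subtype.val (IsMulCommutative.is_comm.comm (⟨c, hc⟩ : A) ⟨c', hc'⟩)
  have e : ⁅s * c, s' * c'⁆ = s * (c * s' * c⁻¹) * (c' * s⁻¹ * c'⁻¹) * s'⁻¹ := by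
    simp only [commutatorElement_def, mul_inv_rev]
    calc s * c * (s' * c') * (c⁻¹ * s⁻¹) * (c'⁻¹ * s'⁻¹)
        = s * (c * s' * c⁻¹) * (c * c' * c⁻¹) * s⁻¹ * (c'⁻¹ * s'⁻¹) := by group
      _ = s * (c * s' * c⁻¹) * c' * s⁻¹ * (c'⁻¹ * s'⁻¹) := by rw [hcc, mul_inv_cancel_right]
      _ = _ := by group
  rw [e]
  exact mul_mem (mul_mem (mul_mem hs ((mem_normalizer_iff.1 (hA hc) _).1 hs'))
    ((mem_normalizer_iff.1 (hA hc') _).1 (inv_mem hs))) (inv_mem hs')

theorem isMulCommutative_member [Finite G] (h : Sys p q D) {A : Subgroup G} (hA : A ∈ D) :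
    IsMulCommutative A := by
  have := h.toPre.isCyclic hA
  infer_instance

/-- The main computation: the images of `u` and `n = ⁅d, u⁆` under `d`. -/
theorem commutator_shift {R : Subgroup G} {d u n y U N : G}
    (hZ : ∀ x ∈ R, ∀ z ∈ R, ∀ w ∈ R, Commute w ⁅x, z⁆)
    (hy : ∀ w ∈ R, Commute y w) (hyR : y ∈ R) (hu : u ∈ R) (hn : n ∈ R) (hU : U ∈ R) (hN : N ∈ R)
    (hdu : d * u * d⁻¹ = n * u) (hdU : d * U * d⁻¹ = N * U)
    (hdn : d * n * d⁻¹ = y * n) (hdN : d * N * d⁻¹ = y * N)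
    (hd : Commute d ⁅d, ⁅u, U⁆⁆) : ⁅n, N⁆ * ⁅n, N⁆ = 1 := by
  have L : ∀ x ∈ R, ∀ z ∈ R, ∀ w ∈ R, ⁅x * z, w⁆ = ⁅z, w⁆ * ⁅x, w⁆ := fun x hx z hz w hw => by
    have e : ⁅x * z, w⁆ = x * ⁅z, w⁆ * x⁻¹ * ⁅x, w⁆ := by
      simp only [commutatorElement_def]; group
    rw [e, (hZ z hz w hw x hx).eq, mul_inv_cancel_right]
  have Rt : ∀ x ∈ R, ∀ z ∈ R, ∀ w ∈ R, ⁅x, z * w⁆ = ⁅x, z⁆ * ⁅x, w⁆ := fun x hx z hz w hw => by
    have e : ⁅x, z * w⁆ = ⁅x, z⁆ * (z * ⁅x, w⁆ * z⁻¹) := by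
      simp only [commutatorElement_def]; group
    rw [e, (hZ x hx w hw z hz).eq, mul_inv_cancel_right]
  have mem : ∀ x ∈ R, ∀ z ∈ R, ⁅x, z⁆ ∈ R := fun x hx z hz => by
    rw [commutatorElement_def]
    exact mul_mem (mul_mem (mul_mem hx hz) (inv_mem hx)) (inv_mem hz)
  have Ly : ∀ x ∈ R, ∀ w ∈ R, ⁅y * x, w⁆ = ⁅x, w⁆ := fun x hx w hw => by
    have e : ⁅y * x, w⁆ = y * ⁅x, w⁆ * y⁻¹ * (y * w * y⁻¹ * w⁻¹) := by
      simp only [commutatorElement_def]; group
    rw [e, (hy _ (mem x hx w hw)).eq, mul_inv_cancel_right, (hy w hw).eq, mul_inv_cancel_right,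
      mul_inv_cancel, mul_one]
  have Ry : ∀ x ∈ R, ∀ w ∈ R, ⁅x, y * w⁆ = ⁅x, w⁆ := fun x hx w hw => by
    rw [← commutatorElement_inv, Ly w hw x hx, commutatorElement_inv]
  have hconj : ∀ x z : G, d * ⁅x, z⁆ * d⁻¹ = ⁅d * x * d⁻¹, d * z * d⁻¹⁆ := fun x z =>
    Weight.conj_commutator d x z
  set E := ⁅u, U⁆
  set e := ⁅n, N⁆
  set X := ⁅u, N⁆ with hX
  set W := ⁅n, U⁆ with hW
  have hEd : d * E * d⁻¹ = X * E * (e * W) := by
    rw [hconj, hdu, hdU, L n hn u hu _ (mul_mem hN hU), Rt u hu N hN U hU, Rt n hn N hN U hU]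
  have hXd : d * X * d⁻¹ = X * e := by
    rw [hX, hconj, hdu, hdN, Ry _ (mul_mem hn hu) N hN, L n hn u hu N hN]
  have hWd : d * W * d⁻¹ = e * W := by
    rw [hW, hconj, hdn, hdU, Ly n hn _ (mul_mem hN hU), Rt n hn N hN U hU]
  have hed : d * e * d⁻¹ = e := by
    show d * ⁅n, N⁆ * d⁻¹ = ⁅n, N⁆
    rw [hconj, hdn, hdN, Ly n hn _ (mul_mem hyR hN), Ry n hn N hN]
  have hz : ⁅d, E⁆ = X * (e * W) := by
    rw [show ⁅d, E⁆ = d * E * d⁻¹ * E⁻¹ from commutatorElement_def _ _, hEd,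
      mul_assoc X E, (hZ u hu U hU _ (mul_mem (mem n hn N hN) (mem n hn U hU))).symm.eq,
      mul_assoc X, mul_inv_cancel_right]
  have hd' : d * (X * (e * W)) * d⁻¹ = X * (e * W) := by
    rw [← hz, hd.eq, mul_inv_cancel_right]
  have h3 : d * (X * (e * W)) * d⁻¹ = X * e * (e * (e * W)) := by
    calc d * (X * (e * W)) * d⁻¹ = d * X * d⁻¹ * ((d * e * d⁻¹) * (d * W * d⁻¹)) := by group
      _ = _ := by rw [hXd, hed, hWd]
  rw [h3, mul_assoc X e] at hd'
  have h4 := mul_left_cancel hd'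
  have h5 : e * e * (e * W) = 1 * (e * W) := by rw [one_mul, mul_assoc]; exact h4
  exact mul_right_cancel h5

namespace Str

variable [Finite G] {J R : Subgroup G} (s : Str q D J R) (h : Sys p q D)
include s h

/-- A `q`-element `d` centralising `P`, normalising `J` and commuting with `t` centralises `J`
as soon as `⁅d, ⁅u, σ u⁆⁆` commutes with `d` for the `t`-eigenvectors `u`. -/
theorem le_centralizer_of_trick (hJ : gen D J = J) (hnab : ¬ DAb D) {P : Subgroup G}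
    (hP : P ∈ memb D J) {t d : G} (ht : orderOf t = 2) (htJ : MulAut.conj t • J = J)
    (htP : t ∈ centralizer (P : Set G)) {k : ℕ} (hd : d ^ q ^ k = 1)
    (hdJ : MulAut.conj d • J = J) (hdP : d ∈ centralizer (P : Set G)) (hdt : Commute d t)
    (hev : ∀ u ∈ R, (t * u * t⁻¹ * u⁻¹ ∈ centralizer (P : Set G) ∨
        t * u * t⁻¹ * u ∈ centralizer (P : Set G)) →
      ∀ a ∈ P, Commute d ⁅d, ⁅u, a * u * a⁻¹⁆⁆) :
    J ≤ centralizer ({d} : Set G) := by
  have := Fact.mk h.qq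
  set C := centralizer (P : Set G) with hC
  have hYc : R ⊓ C ≤ centralizer (J : Set G) := s.fix_central P hP
  have hder : ∀ x ∈ R, ∀ z ∈ R, ⁅x, z⁆ ∈ R ⊓ C := fun x hx z hz => by
    refine mem_inf.2 ⟨?_, centralizer_le hP.2 (s.der hnab (commutator_mem_commutator hx hz))⟩
    rw [commutatorElement_def]
    exact mul_mem (mul_mem (mul_mem hx hz) (inv_mem hx)) (inv_mem hz)
  have hYw : ∀ y ∈ R ⊓ C, ∀ w ∈ J, Commute y w := fun y hy w hw =>
    (mem_centralizer_iff.1 (hYc hy) w hw).symm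
  have hZ : ∀ x ∈ R, ∀ z ∈ R, ∀ w ∈ R, Commute w ⁅x, z⁆ := fun x hx z hz w hw =>
    (hYw _ (hder x hx z hz) w (s.le hw)).symm
  have hdR : ∀ x ∈ R, d * x * d⁻¹ ∈ R := fun x hx => by
    have := conj_mem_smul (g := d) hx
    rwa [s.conj_eq h hdJ hP] at this
  have htR : ∀ x ∈ R, t * x * t⁻¹ ∈ R := fun x hx => by
    have := conj_mem_smul (g := t) hx
    rwa [s.conj_eq h htJ hP] at this
  have hconjC : ∀ g ∈ C, ∀ x ∈ C, g * x * g⁻¹ ∈ C := fun g hg x hx =>
    mul_mem (mul_mem hg hx) (inv_mem hg)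
  let f : G → G := fun u => ⁅d, u⁆
  have hfR : ∀ u ∈ R, f u ∈ R := fun u hu => by
    show ⁅d, u⁆ ∈ R
    rw [commutatorElement_def]
    exact mul_mem (hdR u hu) (inv_mem hu)
  have hfC : ∀ u ∈ C, f u ∈ C := fun u hu => by
    show ⁅d, u⁆ ∈ C
    rw [commutatorElement_def]
    exact mul_mem (hconjC d hdP u hu) (inv_mem hu)
  suffices hall : ∀ u ∈ R, f u ∈ C by
    conv_lhs => rw [← hJ]
    refine sSup_le fun B hB => ?_
    obtain ⟨r, hr, rfl⟩ := s.exists_smul h hP hB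
    rintro _ ⟨a, ha, rfl⟩
    refine mem_centralizer_singleton_iff.2 ?_
    show MulAut.conj r a * d = d * MulAut.conj r a
    rw [MulAut.conj_apply]
    have hy : f r ∈ R ⊓ C := mem_inf.2 ⟨hfR r hr, hall r hr⟩
    have hdr : d * r * d⁻¹ = f r * r := by
      show _ = ⁅d, r⁆ * r
      rw [commutatorElement_def, inv_mul_cancel_right]
    have hra : r * a * r⁻¹ ∈ J := mul_mem (mul_mem (s.le hr) (hP.2 ha)) (inv_mem (s.le hr))
    have hda : d * a * d⁻¹ = a := by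
      rw [← (show Commute a d from mem_centralizer_iff.1 hdP a ha).eq, mul_inv_cancel_right]
    have e : d * (r * a * r⁻¹) * d⁻¹ = r * a * r⁻¹ := by
      calc d * (r * a * r⁻¹) * d⁻¹
          = (d * r * d⁻¹) * (d * a * d⁻¹) * (d * r * d⁻¹)⁻¹ := by group
        _ = f r * (r * a * r⁻¹) * (f r)⁻¹ := by rw [hdr, hda]; group
        _ = _ := by rw [(hYw _ hy _ hra).eq, mul_inv_cancel_right]
    calc r * a * r⁻¹ * d = d * (r * a * r⁻¹) * d⁻¹ * d := by rw [e]
      _ = _ := by group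
  -- congruences modulo the fixed points
  set Y := R ⊓ C with hY
  have hfY : ∀ u ∈ R, f u ∈ C → f u ∈ Y := fun u hu h1 => mem_inf.2 ⟨hfR u hu, h1⟩
  have hmul : ∀ u ∈ R, ∀ v ∈ R, f u ∈ C → f v ∈ C → f (u * v) ∈ C := by
    intro u hu v hv h1 h2
    show ⁅d, u * v⁆ ∈ C
    rw [show ⁅d, u * v⁆ = ⁅d, u⁆ * (u * ⁅d, v⁆ * u⁻¹) by simp only [commutatorElement_def]; group]
    rw [← (hYw _ (hfY v hv h2) u (s.le hu)).eq, mul_inv_cancel_right]
    exact mul_mem h1 h2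
  have hinv' : ∀ u ∈ R, f u ∈ C → f u⁻¹ ∈ C := by
    intro u hu h1
    show ⁅d, u⁻¹⁆ ∈ C
    rw [show ⁅d, u⁻¹⁆ = u⁻¹ * ⁅d, u⁆⁻¹ * u by simp only [commutatorElement_def]; group,
      ← (hYw _ (inv_mem (hfY u hu h1)) u⁻¹ (s.le (inv_mem hu))).eq, inv_mul_cancel_right]
    exact inv_mem h1
  by_contra hnot
  push Not at hnot
  obtain ⟨r, hr, hrnot⟩ := hnot
  let E : G → Prop := fun u => t * u * t⁻¹ * u⁻¹ ∈ C ∨ t * u * t⁻¹ * u ∈ C
  have htt : t * t = 1 := by rw [← pow_two, ← ht, pow_orderOf_eq_one]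
  have hti : t⁻¹ = t := inv_eq_of_mul_eq_one_right htt
  -- an eigenvector moved by `d`
  obtain ⟨u₀, hu₀, hE₀, hu₀not⟩ : ∃ u ∈ R, E u ∧ f u ∉ C := by
    by_contra hno
    push Not at hno
    set rt := t * r * t⁻¹ with hrt
    have hrt' : rt ∈ R := htR r hr
    have hrtt : t * rt * t⁻¹ = r := by
      rw [hrt, hti, show t * (t * r * t) * t = (t * t) * r * (t * t) by group, htt, one_mul, mul_one]
    have hs : E (r * rt) := Or.inl (by
      have e : t * (r * rt) * t⁻¹ = rt * r := by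
        rw [show t * (r * rt) * t⁻¹ = (t * r * t⁻¹) * (t * rt * t⁻¹) by group, ← hrt, hrtt]
      rw [e, show rt * r * (r * rt)⁻¹ = ⁅rt, r⁆ by rw [commutatorElement_def]; group]
      exact (hder rt hrt' r hr).2)
    have hx : E (r⁻¹ * rt) := Or.inr (by
      have e : t * (r⁻¹ * rt) * t⁻¹ = rt⁻¹ * r := by
        rw [show t * (r⁻¹ * rt) * t⁻¹ = (t * r * t⁻¹)⁻¹ * (t * rt * t⁻¹) by group, ← hrt, hrtt]
      rw [e, show rt⁻¹ * r * (r⁻¹ * rt) = 1 by group]
      exact one_mem _)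
    have hsR := mul_mem hr hrt'
    have hxR := mul_mem (inv_mem hr) hrt'
    have h1 := hno _ hsR hs
    have h2 := hno _ hxR hx
    have h3 : f (r * r) ∈ C := by
      have := hmul _ hsR _ (inv_mem hxR) h1 (hinv' _ hxR h2)
      rwa [show r * rt * (r⁻¹ * rt)⁻¹ = r * r by group] at this
    have h4 : ∀ n : ℕ, f ((r * r) ^ n) ∈ C := by
      intro n
      induction n with
      | zero => rw [pow_zero]; show ⁅d, (1 : G)⁆ ∈ C; rw [commutatorElement_one_right]; exact one_mem _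
      | succ n ih => rw [pow_succ]; exact hmul _ (pow_mem (mul_mem hr hr) n) _ (mul_mem hr hr) ih h3
    obtain ⟨n, hn⟩ := IsPGroup.iff_orderOf.1 s.pgroup ⟨r, hr⟩
    rw [Subgroup.orderOf_mk] at hn
    obtain ⟨m, hm⟩ : Odd (q ^ n) := (h.qq.odd_of_ne_two h.q2).pow
    have h5 : (r * r) ^ (m + 1) = r := by
      rw [← pow_two, ← pow_mul, show 2 * (m + 1) = q ^ n + 1 by omega, pow_succ, ← hn,
        pow_orderOf_eq_one, one_mul]
    exact hrnot (h5 ▸ h4 (m + 1))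
  have hEf : ∀ u ∈ R, E u → E (f u) := by
    intro u hu hE
    have hconjt : t * f u * t⁻¹ = f (t * u * t⁻¹) := by
      show t * ⁅d, u⁆ * t⁻¹ = ⁅d, t * u * t⁻¹⁆
      rw [Weight.conj_commutator, ← hdt.eq, mul_inv_cancel_right]
    have htu := htR u hu
    have key : ∀ y ∈ Y, ∀ v ∈ R, f (y * v) = f y * f v := by
      intro y hy v hv
      show ⁅d, y * v⁆ = ⁅d, y⁆ * ⁅d, v⁆
      rw [show ⁅d, y * v⁆ = ⁅d, y⁆ * (y * ⁅d, v⁆ * y⁻¹) by simp only [commutatorElement_def]; group,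
        (hYw y hy _ (s.le (hfR v hv))).eq, mul_inv_cancel_right]
    rcases hE with hE | hE
    · left
      set y := t * u * t⁻¹ * u⁻¹ with hy
      have hyR : y ∈ Y := mem_inf.2 ⟨mul_mem htu (inv_mem hu), hE⟩
      rw [hconjt, show t * u * t⁻¹ = y * u by rw [hy, inv_mul_cancel_right], key y hyR u hu,
        mul_inv_cancel_right]
      exact hfC y hE
    · right
      set y := t * u * t⁻¹ * u with hy
      have hyR : y ∈ Y := mem_inf.2 ⟨mul_mem htu hu, hE⟩
      have hfu := hfR u hu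
      rw [hconjt, show t * u * t⁻¹ = y * u⁻¹ by rw [hy, mul_inv_cancel_right],
        key y hyR _ (inv_mem hu),
        show f u⁻¹ = u⁻¹ * (f u)⁻¹ * u by
          show ⁅d, u⁻¹⁆ = u⁻¹ * ⁅d, u⁆⁻¹ * u
          simp only [commutatorElement_def]; group,
        show f y * (u⁻¹ * (f u)⁻¹ * u) * f u = f y * ⁅u⁻¹, (f u)⁻¹⁆ by
          simp only [commutatorElement_def]; group]
      exact mul_mem (hfC y hE) (hder _ (inv_mem hu) _ (inv_mem hfu)).2
  -- the last moved iterate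
  have hiter : ∀ n, f^[n] u₀ ∈ R ∧ E (f^[n] u₀) := by
    intro n
    induction n with
    | zero => exact ⟨hu₀, hE₀⟩
    | succ n ih => rw [Function.iterate_succ_apply']; exact ⟨hfR _ ih.1, hEf _ ih.1 ih.2⟩
  set S := R ⊔ zpowers d with hS
  have hdn : zpowers d ≤ normalizer (R : Set G) :=
    zpowers_le.2 (mem_normalizer_of_smul (s.conj_eq h hdJ hP))
  have hSq : IsPGroup q S := by
    refine s.pgroup.to_sup_of_normal_left' ?_ hdn
    obtain ⟨j, -, hj⟩ := (Nat.dvd_prime_pow h.qq).1 (orderOf_dvd_of_pow_eq_one hd)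
    exact IsPGroup.of_card (n := j) (by rw [Nat.card_zpowers, hj])
  have hlcs : ∀ n, f^[n] u₀ ∈ S.lowerCentralSeries n := by
    intro n
    induction n with
    | zero => exact mem_sup_left hu₀
    | succ n ih =>
      rw [Function.iterate_succ_apply', Subgroup.lowerCentralSeries_succ]
      show ⁅d, f^[n] u₀⁆ ∈ _
      rw [← commutatorElement_inv]
      exact inv_mem (commutator_mem_commutator ih (mem_sup_right (mem_zpowers d)))
  have hex : ∃ n, f^[n] u₀ ∈ C ∨ f (f^[n] u₀) ∈ C := by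
    have := hSq.isNilpotent
    obtain ⟨n, hn⟩ := (isNilpotent_iff_lowerCentralSeries S).1 ‹_›
    have h1 := hlcs n
    rw [hn, mem_bot] at h1
    exact ⟨n, Or.inl (h1 ▸ one_mem _)⟩
  classical
  obtain ⟨m, hm⟩ : ∃ m, f (f^[m] u₀) ∉ C ∧ f (f (f^[m] u₀)) ∈ C := by
    obtain ⟨N, hN⟩ : ∃ N, f^[N + 1] u₀ ∈ C := by
      obtain ⟨n, hn | hn⟩ := hex
      · rcases n with - | n
        · exact absurd (hfC _ hn) hu₀not
        · exact ⟨n, hn⟩
      · exact ⟨n, by rw [Function.iterate_succ_apply']; exact hn⟩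
    have hex' : ∃ N, f^[N + 1] u₀ ∈ C := ⟨N, hN⟩
    have hs := Nat.find_spec hex'
    rcases hfd : Nat.find hex' with - | m
    · rw [hfd] at hs
      exact absurd hs hu₀not
    · rw [hfd] at hs
      refine ⟨m, ?_, by rwa [Function.iterate_succ_apply', Function.iterate_succ_apply'] at hs⟩
      have := Nat.find_min hex' (show m < Nat.find hex' by omega)
      rwa [Function.iterate_succ_apply'] at this
  obtain ⟨hu, hE⟩ := hiter m
  set u := f^[m] u₀ with hudef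
  set n := f u with hn
  have hnR : n ∈ R := hfR u hu
  set y := f n with hy
  have hyY : y ∈ Y := hfY n hnR hm.2
  have hfeq : ∀ x, d * x * d⁻¹ = f x * x := fun x => by
    show _ = ⁅d, x⁆ * x
    rw [commutatorElement_def, inv_mul_cancel_right]
  have hcomm : ∀ a ∈ P, Commute n (a * n * a⁻¹) := by
    intro a ha
    have haR : ∀ x ∈ R, a * x * a⁻¹ ∈ R := fun x hx =>
      (mem_normalizer_iff.1 (s.norm (hP.2 ha)) x).1 hx
    have hda : ∀ x, d * (a * x * a⁻¹) * d⁻¹ = a * (d * x * d⁻¹) * a⁻¹ := fun x => by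
      have e : d * a = a * d := (mem_centralizer_iff.1 hdP a ha).symm
      have e' : a⁻¹ * d⁻¹ = d⁻¹ * a⁻¹ := by rw [← mul_inv_rev, e, mul_inv_rev]
      calc d * (a * x * a⁻¹) * d⁻¹ = (d * a) * x * (a⁻¹ * d⁻¹) := by group
        _ = _ := by rw [e, e']; group
    have hya : a * y * a⁻¹ = y := by
      rw [← (hYw y hyY a (hP.2 ha)).eq, mul_inv_cancel_right]
    have e2 := commutator_shift (R := R) (d := d) (y := y) (U := a * u * a⁻¹) (N := a * n * a⁻¹) hZ
      (fun w hw => hYw y hyY w (s.le hw)) hyY.1 hu hnR (haR u hu) (haR n hnR) (hfeq u)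
      (by rw [hda, hfeq, ← hn]; group) (hfeq n)
      (by rw [hda, hfeq, ← hy, show a * (y * n) * a⁻¹ = a * y * a⁻¹ * (a * n * a⁻¹) by group, hya])
      (hev u hu hE a ha)
    have he1 : ⁅n, a * n * a⁻¹⁆ = 1 := by
      obtain ⟨j, hj⟩ := IsPGroup.iff_orderOf.1 s.pgroup
        ⟨_, (hder n hnR _ (haR n hnR)).1⟩
      rw [Subgroup.orderOf_mk] at hj
      have h2 : orderOf ⁅n, a * n * a⁻¹⁆ ∣ 2 := orderOf_dvd_of_pow_eq_one (by rw [pow_two]; exact e2)
      exact orderOf_eq_one_iff.1 (Nat.eq_one_of_dvd_coprimes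
        (((Nat.coprime_primes h.qq Nat.prime_two).2 h.q2).pow_left j) (dvd_of_eq hj) h2)
    exact commutatorElement_eq_one_iff_commute.1 he1
  set T := closure {x : G | ∃ a ∈ P, a * n * a⁻¹ = x} with hT
  have hTc : IsMulCommutative T := Subgroup.isMulCommutative_closure (by
    rintro x ⟨a, ha, rfl⟩ z ⟨b, hb, rfl⟩
    have := (hcomm (a⁻¹ * b) (mul_mem (inv_mem ha) hb)).map (MulAut.conj a).toMonoidHom
    simpa [mul_assoc] using this.eq)
  have hPT : P ≤ normalizer (T : Set G) := by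
    intro b hb
    refine Weight.conj_mem_normalizer fun x hx => ?_
    induction hx using Subgroup.closure_induction with
    | mem x hx =>
      obtain ⟨a, ha, rfl⟩ := hx
      exact Subgroup.subset_closure ⟨b * a, mul_mem hb ha, by group⟩
    | one => simp [one_mem]
    | mul x z _ _ h1 h2 =>
      rw [show b * (x * z) * b⁻¹ = (b * x * b⁻¹) * (b * z * b⁻¹) by group]
      exact mul_mem h1 h2
    | inv x _ h1 =>
      rw [show b * x⁻¹ * b⁻¹ = (b * x * b⁻¹)⁻¹ by group]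
      exact inv_mem h1
  have hnT : n ∈ T := Subgroup.subset_closure ⟨1, one_mem _, by group⟩
  have hne := s.smul_ne h hP hnR hm.1
  refine hnab (h.dab hP.1 (h.inv P hP.1 n) hne.symm fun x hx z hz => ?_)
  have hle : P ⊔ MulAut.conj n • P ≤ T ⊔ P := sup_le le_sup_right (by
    rintro _ ⟨a, ha, rfl⟩
    show MulAut.conj n a ∈ T ⊔ P
    rw [MulAut.conj_apply, show n * a * n⁻¹ = n * (a * n⁻¹ * a⁻¹) * a by group]
    exact mul_mem (mem_sup_left (mul_mem hnT ((mem_normalizer_iff.1 (hPT ha) _).1 (inv_mem hnT))))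
      (mem_sup_right ha))
  have hK := (commutator_mono hle hle).trans (commutator_sup_le hPT (isMulCommutative_member h hP.1))
  exact congrArg Subtype.val (hTc.is_comm.comm ⟨x, hK hx⟩ ⟨z, hK hz⟩)

end Str

end Cfsg.Agent.PairOdd
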